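import Mathlib.Algebra.CharP.Two
import Mathlib.FieldTheory.Finite.Basic
import Mathlib.Algebra.Group.MinimalAxioms
import Mathlib.Tactic.LinearCombination
import Mathlib.Tactic.FieldSimp
import Mathlib.Algebra.Group.Equiv.TypeTags
import Mathlib.GroupTheory.Index
import Mathlib.SetTheory.Cardinal.NatCard
import Cfsg.Agent.StdRank2.OutField
import Cfsg.Agent.StdEven.OuterKill_m3
import Cfsg.Agent.Lib.GoldschmidtFusion
import Mathlib
import Cfsg.Agent.ClassicalGeometry.AutPSL.Main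
import Cfsg.Agent.ClassicalGeometry.AutPSL.SylowU
import Cfsg.Agent.Lib.AutSL2Out
import Cfsg.Agent.LieClassical.SLGen
import Cfsg.Agent.Schreier.Basic
import Cfsg.Agent.Schreier.Tools
import Cfsg.Agent.FastGrp
import Cfsg.Agent.Prune
set_option linter.all false

section
prune_inst 0x7ff0bdfb2ff8bddfdfff7e7fffffdffc3d915ffffffff94bffe461ff8fdf03020dc5abad8de012ff0ef7629410b87813fbffeeffe86bdc7ffffd5ff41ffbee4fe5f6b508519488340fbc0fff03f07f8e7f3fffffffffffffffffffffffffffbeffffffffffff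

-- part: StdSpFour/CaseBModel
section
set_option linter.all false
open scoped Cfsg.Agent.FastGrp

/-!
# S1778, type Sp₄(q), case (B): the 2-group of order q⁶ in coordinates

`TB c`: the group of the tuples `(u,v;s,m,n,r)` = `x_a(u) p'(v) · x_b(s) z_s(m) P(n) z_l(r)`; `(u,v)` = `λ ∈ R = F[e]/(e²+e+c)`,
`(m,n) = ρ ∈ R`; `λ` acts by `(s,ρ,r) ↦ (s, ρ+λs, r+B(λ,ρ)+N(λ)s)`.
It is the Sylow 2-subgroup of `L₄(q)` or `U₄(q)`.
-/

set_option autoImplicit false
set_option linter.unusedSectionVars false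

namespace Cfsg.Agent.StdSpFour.CaseBModel

/-- coordinates `(u,v;s,m,n,r)` -/
@[ext] structure TB {F : Type*} (c : F) where
  u : F
  v : F
  s : F
  m : F
  n : F
  r : F

variable {F : Type*} [Field F]

section basic

variable {c : F}

instance : One (TB c) := ⟨⟨0, 0, 0, 0, 0, 0⟩⟩

instance : Mul (TB c) := ⟨fun x y => ⟨x.u + y.u, x.v + y.v, x.s + y.s, x.m + y.u * x.s + y.m,
  x.n + y.v * x.s + y.n,
  x.r + (y.u * x.n + y.v * x.m) + (y.u ^ 2 + y.u * y.v + c * y.v ^ 2) * x.s + y.r⟩⟩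

instance : Inv (TB c) := ⟨fun x => ⟨x.u, x.v, x.s, x.m + x.u * x.s, x.n + x.v * x.s,
  x.r + (x.u * x.n + x.v * x.m) + (x.u ^ 2 + x.u * x.v + c * x.v ^ 2) * x.s⟩⟩

@[simp] theorem one_u : (1 : TB c).u = 0 := rfl
@[simp] theorem one_v : (1 : TB c).v = 0 := rfl
@[simp] theorem one_s : (1 : TB c).s = 0 := rfl
@[simp] theorem one_m : (1 : TB c).m = 0 := rfl
@[simp] theorem one_n : (1 : TB c).n = 0 := rfl
@[simp] theorem one_r : (1 : TB c).r = 0 := rfl
@[simp] theorem mul_u (x y : TB c) : (x * y).u = x.u + y.u := rfl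
@[simp] theorem mul_v (x y : TB c) : (x * y).v = x.v + y.v := rfl
@[simp] theorem mul_s (x y : TB c) : (x * y).s = x.s + y.s := rfl
@[simp] theorem mul_m (x y : TB c) : (x * y).m = x.m + y.u * x.s + y.m := rfl
@[simp] theorem mul_n (x y : TB c) : (x * y).n = x.n + y.v * x.s + y.n := rfl
@[simp] theorem mul_r (x y : TB c) : (x * y).r =
  x.r + (y.u * x.n + y.v * x.m) + (y.u ^ 2 + y.u * y.v + c * y.v ^ 2) * x.s + y.r := rfl
@[simp] theorem inv_u (x : TB c) : (x⁻¹).u = x.u := rfl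
@[simp] theorem inv_v (x : TB c) : (x⁻¹).v = x.v := rfl
@[simp] theorem inv_s (x : TB c) : (x⁻¹).s = x.s := rfl
@[simp] theorem inv_m (x : TB c) : (x⁻¹).m = x.m + x.u * x.s := rfl
@[simp] theorem inv_n (x : TB c) : (x⁻¹).n = x.n + x.v * x.s := rfl
@[simp] theorem inv_r (x : TB c) : (x⁻¹).r =
  x.r + (x.u * x.n + x.v * x.m) + (x.u ^ 2 + x.u * x.v + c * x.v ^ 2) * x.s := rfl

/-- the coordinates as a tuple -/
def equivProd : TB c ≃ F × F × F × F × F × F where
  toFun x := (x.u, x.v, x.s, x.m, x.n, x.r)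
  invFun y := ⟨y.1, y.2.1, y.2.2.1, y.2.2.2.1, y.2.2.2.2.1, y.2.2.2.2.2⟩
  left_inv _ := rfl
  right_inv _ := rfl

instance [Finite F] : Finite (TB c) := Finite.of_equiv _ (equivProd (c := c)).symm

theorem card_TB : Nat.card (TB c) = Nat.card F ^ 6 := by
  rw [Nat.card_congr (equivProd (c := c))]
  simp only [Nat.card_prod]
  ring

end basic

variable [CharP F 2]

theorem add_self (x : F) : x + x = 0 := CharTwo.add_self_eq_zero x

theorem two_eq : (2 : F) = 0 := CharTwo.two_eq_zero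

theorem eq_of_add {x y : F} (h : x + y = 0) : x = y := by
  linear_combination h - y * two_eq (F := F)

variable {c : F}

instance : Group (TB c) :=
  Group.ofLeftAxioms
    (by
      intro x y z
      have h2 := two_eq (F := F)
      ext
      · simp only [mul_u]; ring
      · simp only [mul_v]; ring
      · simp only [mul_s]; ring
      · simp only [mul_m, mul_s, mul_u]; ring
      · simp only [mul_n, mul_s, mul_v]; ring
      · simp only [mul_r, mul_n, mul_m, mul_s, mul_u, mul_v]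
        linear_combination (-(x.s * y.u * z.u) - c * y.v * z.v * x.s) * h2)
    (by
      intro x
      ext <;> simp)
    (by
      intro x
      have h2 := two_eq (F := F)
      ext
      · simp only [mul_u, inv_u, one_u]; exact add_self _
      · simp only [mul_v, inv_v, one_v]; exact add_self _
      · simp only [mul_s, inv_s, one_s]; exact add_self _
      · simp only [mul_m, inv_m, inv_s, one_m]; linear_combination (x.m + x.u * x.s) * h2
      · simp only [mul_n, inv_n, inv_s, one_n]; linear_combination (x.n + x.v * x.s) * h2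
      · simp only [mul_r, inv_r, inv_n, inv_m, inv_s, one_r]
        linear_combination (x.r + (x.u * x.n + x.v * x.m) + 2 * x.u * x.v * x.s + x.u ^ 2 * x.s + c * x.v ^ 2 * x.s) * h2)

/-! ### semilinear automorphisms -/

/-- the automorphism `(u,v;s,m,n,r) ↦ (σu+δσv, σv; σs, σm+δσn, σn, σr)` -/
def phi (σ : F ≃+* F) (δ : F) (h : σ c = c + δ + δ ^ 2) : TB c →* TB c where
  toFun x := ⟨σ x.u + δ * σ x.v, σ x.v, σ x.s, σ x.m + δ * σ x.n, σ x.n, σ x.r⟩
  map_one' := by ext <;> simp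
  map_mul' x y := by
    have h2 := two_eq (F := F)
    ext
    · simp only [mul_u, mul_v, map_add]; ring
    · simp only [mul_v, map_add]
    · simp only [mul_s, map_add]
    · simp only [mul_m, mul_n, map_add, map_mul]; ring
    · simp only [mul_n, map_add, map_mul]
    · simp only [mul_r, map_add, map_mul, map_pow]
      rw [h]
      linear_combination (-(δ * σ y.v * σ x.n) - δ * σ y.u * σ y.v * σ x.s) * h2

theorem phi_apply (σ : F ≃+* F) (δ : F) (h : σ c = c + δ + δ ^ 2) (x : TB c) :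
    phi σ δ h x = ⟨σ x.u + δ * σ x.v, σ x.v, σ x.s, σ x.m + δ * σ x.n, σ x.n, σ x.r⟩ := rfl

/-- the action of `t` -/
def tau : TB c →* TB c := phi (RingEquiv.refl F) 1 (by
  show c = c + 1 + 1 ^ 2
  linear_combination (-1) * two_eq (F := F))

theorem tau_apply (x : TB c) : tau x = ⟨x.u + x.v, x.v, x.s, x.m + x.n, x.n, x.r⟩ := by
  show phi _ _ _ x = _
  rw [phi_apply]
  simp

/-- **Hilbert 90** for the group `TB c` and a semilinear involution -/
theorem h90 {σ : F ≃+* F} {δ : F} (h : σ c = c + δ + δ ^ 2) (hσ2 : ∀ x, σ (σ x) = x) (hδ : σ δ = δ)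
    (hH : ∀ a, σ a = a → ∃ b, b + σ b = a) {x : TB c} (hx : phi σ δ h x * x = 1) :
    ∃ y, phi σ δ h y * x = y := by
  have h2 := two_eq (F := F)
  obtain ⟨u, v, s, m, n, r⟩ := x
  have cu := congrArg TB.u hx
  have cv := congrArg TB.v hx
  have cs := congrArg TB.s hx
  have cm := congrArg TB.m hx
  have cn := congrArg TB.n hx
  have cr := congrArg TB.r hx
  simp only [phi_apply, mul_u, mul_v, mul_s, mul_m, mul_n, mul_r, one_u, one_v, one_s, one_m, one_n, one_r]
    at cu cv cs cm cn cr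
  have hv : σ v = v := eq_of_add cv
  have hs : σ s = s := eq_of_add cs
  obtain ⟨V, hV⟩ := hH v hv
  obtain ⟨S, hS⟩ := hH s hs
  obtain ⟨U, hU⟩ := hH (u + δ * σ V) (by
    simp only [map_add, map_mul, hσ2, hδ]
    linear_combination (δ) * hV + (1) * cu + (-δ) * hv + (-(σ V)*δ - u) * h2)
  obtain ⟨N, hN⟩ := hH (n + v * σ S) (by
    simp only [map_add, map_mul, hσ2]
    linear_combination ((σ v)) * hS + (1) * cn + (-v) * hs + (s - (σ S)) * hv + (-n - (σ S)*v) * h2)
  obtain ⟨M, hM⟩ := hH (m + u * σ S + δ * σ N) (by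
    simp only [map_add, map_mul, hσ2, hδ]
    linear_combination (δ) * hN + ((σ u)) * hS + (1) * cm + (-δ) * cn + (s - (σ S)) * cu + (-u + v*δ) * hs + (-s*δ + (σ S)*δ) * hv + (-m + n*δ - s*u - (σ N)*δ + (σ S)*v*δ) * h2)
  obtain ⟨R, hR⟩ := hH (r + (u * σ N + v * (σ M + δ * σ N)) + (u ^ 2 + u * v + c * v ^ 2) * σ S) (by
    simp only [map_add, map_mul, map_pow, hσ2, hδ]
    rw [h]
    linear_combination (1) * cr + ((σ v)) * hM + ((σ u) + (σ v)*δ) * hN + (c*(σ v)^2 + (σ u)*(σ v) + (σ u)^2 + (σ v)^2*δ + (σ v)^2*δ^2) * hS + (-v) * cm + (-u) * cn + (n + s*(σ u) + s*(σ v) - s*(σ v)*δ - s*u - (σ N) - (σ S)*(σ u) - (σ S)*(σ v) + (σ S)*(σ v)*δ + (σ S)*u + (σ S)*v) * cu + (-c*v^2 + u*v - u^2) * hs + (c*s*(σ v) + c*s*v - c*(σ S)*(σ v) - c*(σ S)*v + m + 2*s*(σ v)*δ^2 - s*u + 2*s*u*δ + 2*s*v*δ^2 - (σ M) + (σ N)*δ - 2*(σ S)*(σ v)*δ^2 + 2*(σ S)*u - 2*(σ S)*u*δ - 2*(σ S)*v*δ^2) * hv + (-c*(σ S)*v^2 + m*v - r + s*u*v*δ + s*v^2*δ^2 - (σ M)*v - (σ S)*u*v*δ - (σ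 S)*u^2 - (σ S)*v^2*δ^2) * h2)
  refine ⟨⟨U, V, S, M, N, R⟩, ?_⟩
  ext
  · simp only [phi_apply, mul_u]
    linear_combination (-1) * hU + ((σ U)) * h2
  · simp only [phi_apply, mul_v]
    linear_combination (-1) * hV + ((σ V)) * h2
  · simp only [phi_apply, mul_s]
    linear_combination (-1) * hS + ((σ S)) * h2
  · simp only [phi_apply, mul_m]
    linear_combination (-1) * hM + ((σ M)) * h2
  · simp only [phi_apply, mul_n]
    linear_combination (-1) * hN + ((σ N)) * h2
  · simp only [phi_apply, mul_r]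
    linear_combination (-1) * hR + ((σ R)) * h2

end Cfsg.Agent.StdSpFour.CaseBModel

private theorem dce_7ece38565d1f : _root_.True := by
  try have : _root_.True := by simp only [_root_.Cfsg.Agent.StdSpFour.CaseBModel.phi.congr_simp]
  exact _root_.True.intro
end

-- part: StdSpFour/CaseBEnv
section
prune_inst 0x4200800402200000000000000002004480000000060000198e00702020ad302000001000c800c000002aa00000000400000007000000000000004000000000010a81206b0480000000006002004000000000000000000000000000000041000000000000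
set_option linter.all false
open scoped Cfsg.Agent.FastGrp

-- part: StdSpFour/CaseBInv
section
/-!
# S1778, type Sp₄(q), case (B): involutions of the model, counting
-/

set_option autoImplicit false
set_option linter.unusedSectionVars false

namespace Cfsg.Agent.StdSpFour.CaseBInv

open Cfsg.Agent.StdSpFour.CaseBModel Cfsg.Agent.StdRank2.OutField

variable {F : Type*} [Field F] [CharP F 2] {c : F}

theorem tau_tau (x : TB c) : tau (tau x) = x := by
  have h2 := two_eq (F := F)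
  rw [tau_apply, tau_apply]
  ext
  · show x.u + x.v + x.v = x.u
    linear_combination x.v * h2
  · rfl
  · rfl
  · show x.m + x.n + x.n = x.m
    linear_combination x.n * h2
  · rfl
  · rfl

theorem mul_self_eq_one {x : TB c} : x * x = 1 ↔ x.u * x.s = 0 ∧ x.v * x.s = 0 ∧
    (x.u * x.n + x.v * x.m) + (x.u ^ 2 + x.u * x.v + c * x.v ^ 2) * x.s = 0 := by
  have h2 := two_eq (F := F)
  constructor
  · intro h
    have h3 := congrArg TB.m h
    have h4 := congrArg TB.n h
    have h5 := congrArg TB.r h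
    simp only [mul_m, mul_n, mul_r, one_m, one_n, one_r] at h3 h4 h5
    refine ⟨by linear_combination h3 - x.m * h2, by linear_combination h4 - x.n * h2,
      by linear_combination h5 - x.r * h2⟩
  · rintro ⟨h3, h4, h5⟩
    ext
    · simp only [mul_u, one_u]; exact add_self _
    · simp only [mul_v, one_v]; exact add_self _
    · simp only [mul_s, one_s]; exact add_self _
    · simp only [mul_m, one_m]; linear_combination h3 + x.m * h2
    · simp only [mul_n, one_n]; linear_combination h4 + x.n * h2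
    · simp only [mul_r, one_r]; linear_combination h5 + x.r * h2

/-- the involutions outside `V4` -/
theorem inv_normal {x : TB c} (hx : x * x = 1) : (x.u = 0 ∧ x.v = 0) ∨
    ∃ (y : TB c) (r : F), x * y = y * ⟨x.u, x.v, 0, 0, 0, r⟩ := by
  have h2 := two_eq (F := F)
  obtain ⟨h3, h4, h5⟩ := mul_self_eq_one.1 hx
  by_cases hu : x.u = 0
  · by_cases hv : x.v = 0
    · exact Or.inl ⟨hu, hv⟩
    · right
      have hs : x.s = 0 := (mul_eq_zero.1 h4).resolve_left hv
      rw [hs, hu] at h5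
      have hm : x.m = 0 := by
        have : x.v * x.m = 0 := by linear_combination h5
        exact (mul_eq_zero.1 this).resolve_left hv
      refine ⟨⟨0, 0, x.n / x.v, 0, 0, 0⟩, x.r + c * x.v ^ 2 * (x.n / x.v), ?_⟩
      have hn : x.v * (x.n / x.v) = x.n := mul_div_cancel₀ _ hv
      ext
      · simp
      · simp
      · simp only [mul_s]; rw [hs]; ring
      · simp only [mul_m]; rw [hs, hu, hm]; ring
      · simp only [mul_n]; rw [hs]; linear_combination (-1) * hn
      · simp only [mul_r]; rw [hs, hu, hm]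
        linear_combination (-(c * x.v ^ 2 * (x.n / x.v))) * h2
  · right
    have hs : x.s = 0 := (mul_eq_zero.1 h3).resolve_left hu
    rw [hs] at h5
    have hm : x.u * (x.m / x.u) = x.m := mul_div_cancel₀ _ hu
    have hn : x.v * (x.m / x.u) = x.n := by
      apply mul_left_cancel₀ hu
      linear_combination h5 + x.v * hm - x.u * x.n * h2
    refine ⟨⟨0, 0, x.m / x.u, 0, 0, 0⟩, x.r + (x.u ^ 2 + x.u * x.v + c * x.v ^ 2) * (x.m / x.u), ?_⟩
    ext
    · simp
    · simp
    · simp only [mul_s]; rw [hs]; ring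
    · simp only [mul_m]; rw [hs]; linear_combination (-1) * hm
    · simp only [mul_n]; rw [hs]; linear_combination (-1) * hn
    · simp only [mul_r]; rw [hs]
      linear_combination (-((x.u ^ 2 + x.u * x.v + c * x.v ^ 2) * (x.m / x.u))) * h2

/-- the involutions of `t T` -/
theorem tau_normal [Finite F] {x : TB c} (hx : tau x * x = 1) :
    (∃ (y : TB c) (r : F), tau y * x = ⟨0, 0, 0, 0, 0, r⟩ * y) ∨
    ∃ (y : TB c) (s : F), s ≠ 0 ∧ tau y * x = ⟨0, 0, s, 0, 0, 0⟩ * y := by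
  have h2 := two_eq (F := F)
  obtain ⟨u, v, s, m, n, r⟩ := x
  have h3 := congrArg TB.u hx
  have h4 := congrArg TB.m hx
  simp only [tau_apply, mul_u, mul_m, one_u, one_m] at h3 h4
  have hv : v = 0 := by linear_combination h3 - u * h2
  subst hv
  have hn : n = u * s := by linear_combination h4 - (u * s + m) * h2
  subst hn
  by_cases hs : s = 0
  · left
    subst hs
    refine ⟨⟨0, u, 0, 0, m, 0⟩, r + u * m, ?_⟩
    rw [tau_apply]
    ext
    · simp only [mul_u]; linear_combination u * h2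
    · simp
    · simp
    · simp only [mul_m]; linear_combination m * h2
    · simp
    · simp only [mul_r]; ring
  · right
    obtain ⟨a, ha⟩ := exists_sqrt (F := F) ((r + u * m) / s + c * u ^ 2)
    have ha' : a * a * s = r + u * m + c * u ^ 2 * s := by
      rw [ha]; field_simp
    refine ⟨⟨a, u, 0, 0, a * s + m, 0⟩, s, hs, ?_⟩
    rw [tau_apply]
    ext
    · simp only [mul_u]; linear_combination u * h2
    · simp
    · simp
    · simp only [mul_m]; linear_combination m * h2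
    · simp only [mul_n]; ring
    · simp only [mul_r]
      linear_combination (-1) * ha' - (c * u ^ 2 * s) * h2

/-! ### counting -/

/-- `V4` -/
def V4 (c : F) : Subgroup (TB c) where
  carrier := {x | x.u = 0 ∧ x.v = 0}
  one_mem' := ⟨rfl, rfl⟩
  mul_mem' := by
    rintro x y ⟨h1, h2⟩ ⟨h3, h4⟩
    exact ⟨by rw [mul_u, h1, h3, add_zero], by rw [mul_v, h2, h4, add_zero]⟩
  inv_mem' := by
    rintro x ⟨h1, h2⟩
    exact ⟨by rw [inv_u, h1], by rw [inv_v, h2]⟩

theorem V4_sq {x : TB c} (hx : x ∈ V4 c) : x * x = 1 := by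
  rw [mul_self_eq_one, hx.1, hx.2]
  exact ⟨by ring, by ring, by ring⟩

theorem V4_comm {x y : TB c} (hx : x ∈ V4 c) (hy : y ∈ V4 c) : x * y = y * x := by
  obtain ⟨h1, h2⟩ := hx
  obtain ⟨h3, h4⟩ := hy
  ext
  · simp only [mul_u]; ring
  · simp only [mul_v]; ring
  · simp only [mul_s]; ring
  · simp only [mul_m, h1, h3]; ring
  · simp only [mul_n, h2, h4]; ring
  · simp only [mul_r, h1, h2, h3, h4]; ring

theorem card_V4 : Nat.card (V4 c) = Nat.card F ^ 4 := by
  have e : V4 c ≃ F × F × F × F :=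
    { toFun := fun x => (x.1.s, x.1.m, x.1.n, x.1.r)
      invFun := fun y => ⟨⟨0, 0, y.1, y.2.1, y.2.2.1, y.2.2.2⟩, ⟨rfl, rfl⟩⟩
      left_inv := by
        rintro ⟨x, h1, h2⟩
        apply Subtype.ext
        ext
        · exact h1.symm
        · exact h2.symm
        · rfl
        · rfl
        · rfl
        · rfl
      right_inv := fun _ => rfl }
  rw [Nat.card_congr e]
  simp only [Nat.card_prod]
  ring

/-- `U` -/
def U (c : F) : Subgroup (TB c) where
  carrier := {x | x.v = 0 ∧ x.n = 0}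
  one_mem' := ⟨rfl, rfl⟩
  mul_mem' := by
    rintro x y ⟨h1, h2⟩ ⟨h3, h4⟩
    exact ⟨by rw [mul_v, h1, h3, add_zero], by rw [mul_n, h2, h3, h4]; ring⟩
  inv_mem' := by
    rintro x ⟨h1, h2⟩
    exact ⟨by rw [inv_v, h1], by rw [inv_n, h1, h2]; ring⟩

theorem mem_U {x : TB c} : x ∈ U c ↔ x.v = 0 ∧ x.n = 0 := Iff.rfl

theorem mem_U_iff_tau {x : TB c} : x ∈ U c ↔ tau x = x := by
  rw [tau_apply, mem_U]
  constructor
  · rintro ⟨h1, h2⟩
    ext
    · show x.u + x.v = x.u
      rw [h1, add_zero]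
    · rfl
    · rfl
    · show x.m + x.n = x.m
      rw [h2, add_zero]
    · rfl
    · rfl
  · intro h
    have h1 := congrArg TB.u h
    have h2 := congrArg TB.m h
    simp only at h1 h2
    exact ⟨by linear_combination h1, by linear_combination h2⟩

/-- elementary abelian subgroups of `U` have order at most `q³` -/
theorem card_elem_U [Finite F] {E : Subgroup (TB c)} (hEU : E ≤ U c) (hsq : ∀ x ∈ E, x * x = 1)
    (hc : ∀ x ∈ E, ∀ y ∈ E, x * y = y * x) : Nat.card E ≤ Nat.card F ^ 3 := by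
  have key : (∀ x ∈ E, x.u = 0) ∨ (∀ x ∈ E, x.s = 0) := by
    by_contra hcon
    push Not at hcon
    obtain ⟨⟨x, hx, hxu⟩, ⟨y, hy, hys⟩⟩ := hcon
    have h1 : x.s = 0 := (mul_eq_zero.1 (mul_self_eq_one.1 (hsq x hx)).1).resolve_left hxu
    have h2 := congrArg TB.m (hc x hx y hy)
    simp only [mul_m] at h2
    rw [h1] at h2
    have h3 : x.u * y.s = 0 := by linear_combination (-1) * h2
    rcases mul_eq_zero.1 h3 with h | h
    · exact hxu h
    · exact hys h
  have hcard : Nat.card (F × F × F) = Nat.card F ^ 3 := by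
    simp only [Nat.card_prod]; ring
  rw [← hcard]
  rcases key with h | h
  · refine Nat.card_le_card_of_injective (fun x : E => (x.1.s, x.1.m, x.1.r)) ?_
    rintro ⟨x, hx⟩ ⟨y, hy⟩ hxy
    have h1 := Prod.mk.inj hxy
    have h2 := Prod.mk.inj h1.2
    apply Subtype.ext
    ext
    · rw [h x hx, h y hy]
    · rw [(hEU hx).1, (hEU hy).1]
    · exact h1.1
    · exact h2.1
    · rw [(hEU hx).2, (hEU hy).2]
    · exact h2.2
  · refine Nat.card_le_card_of_injective (fun x : E => (x.1.u, x.1.m, x.1.r)) ?_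
    rintro ⟨x, hx⟩ ⟨y, hy⟩ hxy
    have h1 := Prod.mk.inj hxy
    have h2 := Prod.mk.inj h1.2
    apply Subtype.ext
    ext
    · exact h1.1
    · rw [(hEU hx).1, (hEU hy).1]
    · rw [h x hx, h y hy]
    · exact h2.1
    · rw [(hEU hx).2, (hEU hy).2]
    · exact h2.2

/-- fixed points on `U` of a semilinear involution times an inner automorphism -/
theorem card_fix_U [Finite F] {σ : F ≃+* F} (h2 : σ * σ = 1) (h1 : σ ≠ 1) {δ : F} (h : σ c = c + δ + δ ^ 2)
    {y : TB c} (hy : y ∈ U c) {E : Subgroup (TB c)} (hEU : E ≤ U c)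
    (hE : ∀ x ∈ E, y * phi σ δ h x * y⁻¹ = x) : Nat.card E ≤ Nat.card F ^ 2 := by
  set K := {x : F // σ x = x} with hK
  have hKc : Nat.card K * Nat.card K = Nat.card F := card_fix h2 h1
  -- coordinates `u`, `s`
  have hcoord : ∀ x ∈ E, σ x.u = x.u ∧ σ x.s = x.s := by
    intro x hx
    have h3 := hE x hx
    have h4 := congrArg TB.u h3
    have h5 := congrArg TB.s h3
    simp only [mul_u, mul_s, inv_u, inv_s, phi_apply] at h4 h5
    have h6 := (hEU hx).1
    rw [h6, map_zero, mul_zero, add_zero] at h4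
    have h7 := two_eq (F := F)
    exact ⟨by linear_combination h4 - y.u * h7, by linear_combination h5 - y.s * h7⟩
  let f : E →* Multiplicative (F × F) :=
    { toFun := fun x => Multiplicative.ofAdd (x.1.u, x.1.s)
      map_one' := rfl
      map_mul' := fun _ _ => rfl }
  have hrange : Nat.card f.range ≤ Nat.card K * Nat.card K := by
    rw [← Nat.card_prod]
    have : ∀ z : f.range, σ (Multiplicative.toAdd z.1).1 = (Multiplicative.toAdd z.1).1 ∧
        σ (Multiplicative.toAdd z.1).2 = (Multiplicative.toAdd z.1).2 := by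
      rintro ⟨_, ⟨x, hx⟩, rfl⟩
      exact hcoord x hx
    refine Nat.card_le_card_of_injective (fun z : f.range =>
      ((⟨_, (this z).1⟩, ⟨_, (this z).2⟩) : K × K)) ?_
    rintro z w hzw
    have h3 := Prod.mk.inj hzw
    apply Subtype.ext
    apply Multiplicative.toAdd.injective
    exact Prod.ext (congrArg Subtype.val h3.1) (congrArg Subtype.val h3.2)
  have hker : Nat.card f.ker ≤ Nat.card K * Nat.card K := by
    rw [← Nat.card_prod]
    have hz : ∀ x : f.ker, x.1.1.u = 0 ∧ x.1.1.s = 0 := by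
      rintro ⟨x, hx⟩
      have h3 : Multiplicative.ofAdd (x.1.u, x.1.s) = 1 := hx
      have h4 : (x.1.u, x.1.s) = (0, 0) := h3
      exact Prod.mk.inj h4
    have : ∀ x : f.ker, σ x.1.1.m = x.1.1.m ∧ σ x.1.1.r = x.1.1.r := by
      intro x
      have h3 := hE x.1.1 x.1.2
      have h4 := congrArg TB.m h3
      have h5 := congrArg TB.r h3
      obtain ⟨hu, hs⟩ := hz x
      obtain ⟨hv, hn⟩ := hEU x.1.2
      simp only [mul_m, mul_r, mul_u, mul_s, mul_n, inv_u, inv_s, inv_m, inv_r, inv_v, phi_apply, hu, hs, hv, hn,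
        map_zero, mul_zero, add_zero, zero_mul] at h4 h5
      have h7 := two_eq (F := F)
      have hyv := hy.1
      have hyn := hy.2
      rw [hyv, hyn] at h5
      exact ⟨by linear_combination h4 - (y.m + y.u * y.s) * h7,
        by linear_combination h5 - (y.r + y.u ^ 2 * y.s) * h7⟩
    refine Nat.card_le_card_of_injective (fun x : f.ker =>
      ((⟨_, (this x).1⟩, ⟨_, (this x).2⟩) : K × K)) ?_
    rintro x x' hxx
    have h3 := Prod.mk.inj hxx
    have h4 := hz x
    have h5 := hz x'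
    apply Subtype.ext
    apply Subtype.ext
    ext
    · rw [h4.1, h5.1]
    · rw [(hEU x.1.2).1, (hEU x'.1.2).1]
    · rw [h4.2, h5.2]
    · exact congrArg Subtype.val h3.1
    · rw [(hEU x.1.2).2, (hEU x'.1.2).2]
    · exact congrArg Subtype.val h3.2
  have hmul : Nat.card E = Nat.card f.ker * Nat.card f.range := by
    have h3 := f.ker.card_mul_index
    rw [Subgroup.index_ker] at h3
    exact h3.symm
  rw [hmul, pow_two]
  rw [hKc] at hrange hker
  exact Nat.mul_le_mul hker hrange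

end Cfsg.Agent.StdSpFour.CaseBInv
end

-- part: StdSpFour/CaseBEnv
section
/-!
# S1778, type Sp₄(q), case (B): the end, from an abstract environment

`Env i t S0`: `i : TB c →* G` injective, `t` acts by `tau`, `S0` a Sylow 2-subgroup of `C_G(t)` acting on `T = range i`
by semilinear automorphisms.  `star`: `t^G ∩ (T S0) = t^T`.  `main`: `t ∉ L` and `T` is a Sylow 2-subgroup of `L`.
-/

set_option autoImplicit false
set_option linter.unusedSectionVars false

namespace Cfsg.Agent.StdSpFour.CaseBEnv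

open Subgroup Cfsg.Agent.StdSpFour.CaseBModel Cfsg.Agent.StdSpFour.CaseBInv
open Cfsg.Agent.StdRank2.OutField

universe u v

variable {F : Type v} {G : Type u} [Field F] [CharP F 2] [Group G] {c : F}

/-- `z` acts on `T` as `inn(y) ∘ phi σ δ`, `y ∈ Y` -/
def Typ (Y : Subgroup (TB c)) (i : TB c →* G) (z : G) (σ : F ≃+* F) : Prop :=
  ∃ y ∈ Y, ∃ (δ : F) (h : σ c = c + δ + δ ^ 2), ∀ x, z * i x = i (y * phi σ δ h x * y⁻¹) * z

theorem Typ.top {Y : Subgroup (TB c)} {i : TB c →* G} {z : G} {σ : F ≃+* F} (h : Typ Y i z σ) : Typ ⊤ i z σ := by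
  obtain ⟨y, -, δ, hc, hz⟩ := h
  exact ⟨y, mem_top _, δ, hc, hz⟩

theorem Typ.unique {i : TB c →* G} (inj : Function.Injective i) {Y Y' : Subgroup (TB c)} {z : G} {σ σ' : F ≃+* F}
    (h : Typ Y i z σ) (h' : Typ Y' i z σ') : σ = σ' := by
  obtain ⟨y, -, δ, hc, hz⟩ := h
  obtain ⟨y', -, δ', hc', hz'⟩ := h'
  ext a
  have h1 := inj (mul_right_cancel ((hz ⟨0, 0, a, 0, 0, 0⟩).symm.trans (hz' ⟨0, 0, a, 0, 0, 0⟩)))
  have h2 := congrArg TB.s h1
  simp only [mul_s, inv_s, phi_apply] at h2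
  have h3 := two_eq (F := F)
  linear_combination h2 - y.s * h3 + y'.s * h3

theorem cond_mul {σ σ' : F ≃+* F} {δ δ' : F} (h : σ c = c + δ + δ ^ 2) (h' : σ' c = c + δ' + δ' ^ 2) :
    (σ * σ') c = c + (δ + σ δ') + (δ + σ δ') ^ 2 := by
  show σ (σ' c) = _
  rw [h', map_add, map_add, map_pow, h]
  linear_combination (-(δ * σ δ')) * two_eq (F := F)

theorem phi_phi {σ σ' : F ≃+* F} {δ δ' : F} (h : σ c = c + δ + δ ^ 2) (h' : σ' c = c + δ' + δ' ^ 2) (x : TB c) :
    phi σ δ h (phi σ' δ' h' x) = phi (σ * σ') (δ + σ δ') (cond_mul h h') x := by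
  have e : ∀ a, (σ * σ') a = σ (σ' a) := fun _ => rfl
  simp only [phi_apply, map_add, map_mul, e]
  ext
  · show σ (σ' x.u) + σ δ' * σ (σ' x.v) + δ * σ (σ' x.v) = σ (σ' x.u) + (δ + σ δ') * σ (σ' x.v)
    ring
  · rfl
  · rfl
  · show σ (σ' x.m) + σ δ' * σ (σ' x.n) + δ * σ (σ' x.n) = σ (σ' x.m) + (δ + σ δ') * σ (σ' x.n)
    ring
  · rfl
  · rfl

theorem phi_mem_U {σ : F ≃+* F} {δ : F} (h : σ c = c + δ + δ ^ 2) {x : TB c} (hx : x ∈ U c) : phi σ δ h x ∈ U c := by
  rw [phi_apply, mem_U]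
  obtain ⟨h1, h2⟩ := hx
  exact ⟨by show σ x.v = 0; rw [h1, map_zero], by show σ x.n = 0; rw [h2, map_zero]⟩

theorem Typ.mul {i : TB c →* G} {z z' : G} {σ σ' : F ≃+* F} {Y : Subgroup (TB c)} (hY : Y = ⊤ ∨ Y = U c)
    (h : Typ Y i z σ) (h' : Typ Y i z' σ') : Typ Y i (z * z') (σ * σ') := by
  obtain ⟨y, hy, δ, hc, hz⟩ := h
  obtain ⟨y', hy', δ', hc', hz'⟩ := h'
  refine ⟨y * phi σ δ hc y', ?_, δ + σ δ', cond_mul hc hc', fun x => ?_⟩
  · rcases hY with rfl | rfl
    · exact mem_top _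
    · exact mul_mem hy (phi_mem_U hc hy')
  · rw [mul_assoc, hz', ← mul_assoc, hz, ← phi_phi hc hc', map_mul (phi σ δ hc), map_mul (phi σ δ hc), map_inv,
      mul_assoc]
    congr 2
    group

theorem Typ.of_act {i : TB c →* G} {z : G} {σ : F ≃+* F} {δ : F} (h : σ c = c + δ + δ ^ 2)
    (hz : ∀ x, z * i x = i (phi σ δ h x) * z) {Y : Subgroup (TB c)} : Typ Y i z σ :=
  ⟨1, one_mem _, δ, h, fun x => by rw [one_mul, inv_one, mul_one]; exact hz x⟩

theorem phi_one (h : (1 : F ≃+* F) c = c + 0 + 0 ^ 2) (x : TB c) : phi 1 0 h x = x := by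
  rw [phi_apply]
  ext
  · show x.u + 0 * x.v = x.u
    ring
  · rfl
  · rfl
  · show x.m + 0 * x.n = x.m
    ring
  · rfl
  · rfl

theorem cond_one : (1 : F ≃+* F) c = c + 0 + 0 ^ 2 := by
  show c = _
  ring

theorem Typ.i {i : TB c →* G} (y : TB c) {Y : Subgroup (TB c)} (hy : y ∈ Y) : Typ Y i (i y) 1 :=
  ⟨y, hy, 0, cond_one, fun x => by
    rw [phi_one, ← map_mul, ← map_mul]
    congr 1
    group⟩

theorem Typ.inv {i : TB c →* G} {z : G} {σ : F ≃+* F} (h : Typ ⊤ i z σ) {σ' : F ≃+* F} (h' : Typ ⊤ i z⁻¹ σ')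
    (inj : Function.Injective i) : σ' = σ⁻¹ := by
  have h1 := h'.mul (Or.inl rfl) h
  rw [inv_mul_cancel] at h1
  have h2 : Typ ⊤ i (1 : G) (1 : F ≃+* F) := by
    have := Typ.i (i := i) (1 : TB c) (mem_top _)
    rwa [map_one] at this
  exact eq_inv_of_mul_eq_one_left (h1.unique inj h2)

/-- the environment -/
structure Env (i : TB c →* G) (t : G) (S0 : Subgroup G) : Prop where
  inj : Function.Injective i
  tt : t * t = 1
  t_i : ∀ x, t * i x = i (tau x) * t
  t_ne : ∀ x, i x ≠ t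
  two : IsPGroup 2 S0
  mem_t : t ∈ S0
  mem_U : ∀ x ∈ U c, i x ∈ S0
  comm : ∀ z ∈ S0, z * t = t * z
  syl : ∀ Q : Subgroup G, IsPGroup 2 Q → (∀ z ∈ Q, z * t = t * z) → S0 ≤ Q → Q ≤ S0
  typ : ∀ z ∈ S0, ∃ σ, Typ (U c) i z σ
  one : ∀ z ∈ S0, Typ ⊤ i z 1 → ∃ x ∈ U c, z = i x ∨ z = t * i x
  fus : ∀ u v r, ∃ x ∈ V4 c, IsConj (i ⟨u, v, 0, 0, 0, r⟩) (i x)
  nzl : ∀ r, r ≠ 0 → ¬ IsConj t (t * i ⟨0, 0, 0, 0, 0, r⟩)
  nxb : ∀ s, s ≠ 0 → ¬ IsConj t (t * i ⟨0, 0, s, 0, 0, 0⟩)
  nout : ∀ z ∈ S0, IsConj t z → ∃ x ∈ U c, z = i x ∨ z = t * i x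

namespace Env

variable {i : TB c →* G} {t : G} {S0 : Subgroup G} (E : Env i t S0)
include E

theorem t_inv : t⁻¹ = t := inv_eq_of_mul_eq_one_right E.tt

theorem i_t (x : TB c) : i x * t = t * i (tau x) := by
  rw [E.t_i, tau_tau]

theorem mem_U_of_comm {x : TB c} (h : i x * t = t * i x) : x ∈ U c := by
  rw [mem_U_iff_tau]
  rw [E.i_t] at h
  exact E.inj (mul_left_cancel h)

/-- `T` -/
def TT (_ : Env i t S0) : Subgroup G := i.range

theorem mem_TT {g : G} : g ∈ E.TT ↔ ∃ x, i x = g := Iff.rfl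

/-- `S0` normalises `T` -/
theorem conj_TT {z : G} (hz : z ∈ S0) {g : G} (hg : g ∈ E.TT) : z * g * z⁻¹ ∈ E.TT := by
  obtain ⟨x, rfl⟩ := hg
  obtain ⟨σ, y, -, δ, h, hz'⟩ := E.typ z hz
  exact ⟨y * phi σ δ h x * y⁻¹, by rw [hz' x, mul_inv_cancel_right]⟩

/-- `S = T S0` -/
def SS (E : Env i t S0) : Subgroup G where
  carrier := {g | ∃ x, ∃ z ∈ S0, g = i x * z}
  one_mem' := ⟨1, 1, one_mem _, by simp⟩
  mul_mem' := by
    rintro _ _ ⟨x, z, hz, rfl⟩ ⟨x', z', hz', rfl⟩
    obtain ⟨x'', hx''⟩ := E.conj_TT hz (E.mem_TT.2 ⟨x', rfl⟩)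
    refine ⟨x * x'', z * z', mul_mem hz hz', ?_⟩
    rw [map_mul, hx'']
    group
  inv_mem' := by
    rintro _ ⟨x, z, hz, rfl⟩
    obtain ⟨x'', hx''⟩ := E.conj_TT (inv_mem hz) (E.mem_TT.2 ⟨x⁻¹, rfl⟩)
    refine ⟨x'', z⁻¹, inv_mem hz, ?_⟩
    rw [hx'', map_inv]
    group

theorem TT_le : E.TT ≤ E.SS := by
  rintro _ ⟨x, rfl⟩
  exact ⟨x, 1, one_mem _, by simp⟩

theorem S0_le : S0 ≤ E.SS := fun z hz => ⟨1, z, hz, by simp⟩

theorem S0_le_normalizer : S0 ≤ normalizer (E.TT : Set G) := by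
  intro z hz
  rw [mem_normalizer_iff]
  intro g
  refine ⟨fun hg => E.conj_TT hz hg, fun hg => ?_⟩
  have := E.conj_TT (inv_mem hz) hg
  have e : z⁻¹ * (z * g * z⁻¹) * z⁻¹⁻¹ = g := by group
  rwa [e] at this

theorem isPGroup_TT [Finite F] : IsPGroup 2 E.TT := by
  have h1 : IsPGroup 2 (TB c) := by
    rw [IsPGroup.iff_card]
    obtain ⟨n, hn⟩ : ∃ n, Nat.card F = 2 ^ n := by
      have := Fintype.ofFinite F
      obtain ⟨n, -, hn⟩ := FiniteField.card F 2
      exact ⟨n, by rw [Nat.card_eq_fintype_card, hn]⟩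
    exact ⟨n * 6, by rw [card_TB, hn, ← pow_mul]⟩
  exact IsPGroup.of_surjective h1 i.rangeRestrict i.rangeRestrict_surjective

theorem isPGroup_SS [Finite F] : IsPGroup 2 E.SS := by
  have h1 : IsPGroup 2 (E.TT ⊔ S0 : Subgroup G) :=
    IsPGroup.to_sup_of_normal_left' E.isPGroup_TT E.two E.S0_le_normalizer
  refine h1.to_le ?_
  rintro _ ⟨x, z, hz, rfl⟩
  exact mul_mem (mem_sup_left ⟨x, rfl⟩) (mem_sup_right hz)

theorem conj_SS_TT {s g : G} (hs : s ∈ E.SS) (hg : g ∈ E.TT) : s * g * s⁻¹ ∈ E.TT := by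
  obtain ⟨x, z, hz, rfl⟩ := hs
  obtain ⟨w, hw⟩ := E.conj_TT hz hg
  refine ⟨x * w * x⁻¹, ?_⟩
  rw [map_mul, map_mul, map_inv, hw]
  group

theorem typ_SS {g : G} (hg : g ∈ E.SS) : ∃ σ, Typ ⊤ i g σ := by
  obtain ⟨x, z, hz, rfl⟩ := hg
  obtain ⟨σ, hσ⟩ := E.typ z hz
  exact ⟨1 * σ, (Typ.i x (mem_top _)).mul (Or.inl rfl) hσ.top⟩

theorem typ_t : Typ (U c) i t 1 := Typ.of_act (δ := 1)
  (show (RingEquiv.refl F) c = c + 1 + 1 ^ 2 by
    show c = c + 1 + 1 ^ 2
    linear_combination (-1) * two_eq (F := F)) E.t_i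

/-- the field automorphism induced by an element of `S` -/
noncomputable def chi : E.SS →* (F ≃+* F) where
  toFun g := (E.typ_SS g.2).choose
  map_one' := by
    have h1 := (E.typ_SS (one_mem E.SS)).choose_spec
    have h2 : Typ ⊤ i (1 : G) (1 : F ≃+* F) := by
      have := Typ.i (i := i) (1 : TB c) (mem_top _)
      rwa [map_one] at this
    exact h1.unique E.inj h2
  map_mul' g g' := by
    have h1 := (E.typ_SS g.2).choose_spec
    have h2 := (E.typ_SS g'.2).choose_spec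
    have h3 := (E.typ_SS (g * g').2).choose_spec
    exact h3.unique E.inj (h1.mul (Or.inl rfl) h2)

theorem chi_spec (g : E.SS) : Typ ⊤ i (g : G) (E.chi g) := (E.typ_SS g.2).choose_spec

theorem chi_eq {g : E.SS} {σ : F ≃+* F} {Y : Subgroup (TB c)} (h : Typ Y i (g : G) σ) : E.chi g = σ :=
  (E.chi_spec g).unique E.inj h

theorem chi_i (x : TB c) : E.chi ⟨i x, E.TT_le ⟨x, rfl⟩⟩ = 1 := E.chi_eq (Typ.i x (mem_top _))

theorem of_chi_one {g : G} (hg : g ∈ E.SS) (h : E.chi ⟨g, hg⟩ = 1) : (∃ x, g = i x) ∨ ∃ x, g = t * i x := by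
  obtain ⟨x, z, hz, rfl⟩ := hg
  have h1 := E.chi_spec ⟨i x * z, ⟨x, z, hz, rfl⟩⟩
  rw [h] at h1
  have h2 : Typ ⊤ i z 1 := by
    have h3 := (Typ.i (i := i) x⁻¹ (mem_top _)).mul (Or.inl rfl) h1
    have e : i x⁻¹ * (i x * z) = z := by rw [map_inv]; group
    rw [one_mul] at h3
    change Typ ⊤ i (i x⁻¹ * (i x * z)) 1 at h3
    rwa [e] at h3
  obtain ⟨x', -, h3 | h3⟩ := E.one z hz h2
  · left
    exact ⟨x * x', by rw [h3, map_mul]⟩
  · right
    refine ⟨tau x * x', ?_⟩
    rw [h3, ← mul_assoc, E.i_t, map_mul, mul_assoc]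

/-- `[S, S] ≤ T` modulo the central element `t` -/
theorem t_comm_mod {g : G} (hg : g ∈ E.SS) : g⁻¹ * t⁻¹ * g * t ∈ E.TT := by
  obtain ⟨x, z, hz, rfl⟩ := hg
  have h1 : t⁻¹ * i x = i (tau x) * t⁻¹ := by rw [E.t_inv, E.t_i]
  have h2 : (z⁻¹ * i (x⁻¹ * tau x) * z⁻¹⁻¹) ∈ E.TT := E.conj_TT (inv_mem hz) ⟨_, rfl⟩
  have h3 : (i x * z)⁻¹ * t⁻¹ * (i x * z) * t = z⁻¹ * i (x⁻¹ * tau x) * z⁻¹⁻¹ := by
    have h4 : t⁻¹ * z * t = z := by
      rw [mul_assoc, E.comm z hz]; group
    calc (i x * z)⁻¹ * t⁻¹ * (i x * z) * t = z⁻¹ * (i x)⁻¹ * (t⁻¹ * i x) * z * t := by group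
      _ = z⁻¹ * (i x)⁻¹ * i (tau x) * (t⁻¹ * z * t) := by rw [h1]; group
      _ = _ := by rw [h4, map_mul, map_inv]; group
  rw [h3]; exact h2

theorem exists_phi [Finite F] : ∃ (A : Type u) (_ : CommGroup A) (φ : E.SS →* A),
    φ ⟨t, E.S0_le E.mem_t⟩ ≠ 1 := by
  let N : Subgroup E.SS := E.TT.subgroupOf E.SS
  have hN : N.Normal := ⟨fun n hn g => by
    rw [mem_subgroupOf] at hn ⊢
    exact E.conj_SS_TT g.2 hn⟩
  let f : E.SS ⧸ N →* (F ≃+* F) := QuotientGroup.lift N E.chi (by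
    rintro ⟨g, hg⟩ hgN
    obtain ⟨x, rfl⟩ := mem_subgroupOf.1 hgN
    exact E.chi_i x)
  have hcyc : IsCyclic (F ≃+* F) := _root_.Cfsg.Agent.StdRank2.OutField.isCyclic
  have hker : f.ker ≤ center (E.SS ⧸ N) := by
    intro q hq
    obtain ⟨⟨g, hg⟩, rfl⟩ := QuotientGroup.mk_surjective q
    have h1 : E.chi ⟨g, hg⟩ = 1 := hq
    rw [mem_center_iff]
    intro r
    obtain ⟨⟨h, hh⟩, rfl⟩ := QuotientGroup.mk_surjective r
    rcases E.of_chi_one hg h1 with ⟨x, rfl⟩ | ⟨x, rfl⟩
    · have : ((⟨i x, hg⟩ : E.SS) : E.SS ⧸ N) = 1 := (QuotientGroup.eq_one_iff _).2 (mem_subgroupOf.2 ⟨x, rfl⟩)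
      rw [this, mul_one, one_mul]
    · have h2 : ((⟨t * i x, hg⟩ : E.SS) : E.SS ⧸ N) = ((⟨t, E.S0_le E.mem_t⟩ : E.SS) : E.SS ⧸ N) := by
        rw [eq_comm, QuotientGroup.eq, mem_subgroupOf]
        show t⁻¹ * (t * i x) ∈ E.TT
        exact ⟨x, by group⟩
      rw [h2, ← QuotientGroup.mk_mul, ← QuotientGroup.mk_mul, eq_comm, QuotientGroup.eq, mem_subgroupOf]
      show (t * h)⁻¹ * (h * t) ∈ E.TT
      have e : (t * h)⁻¹ * (h * t) = h⁻¹ * t⁻¹ * h * t := by group
      rw [e]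
      exact E.t_comm_mod hh
  let I : CommGroup (E.SS ⧸ N) :=
    { (inferInstance : Group (E.SS ⧸ N)) with
      mul_comm := (f.isMulCommutative_of_isCyclic_of_ker_le_center hker).is_comm.comm }
  refine ⟨E.SS ⧸ N, I, QuotientGroup.mk' N, ?_⟩
  intro h
  have h1 : (⟨t, E.S0_le E.mem_t⟩ : E.SS) ∈ N := (QuotientGroup.eq_one_iff _).1 h
  obtain ⟨x, hx⟩ := mem_subgroupOf.1 h1
  exact E.t_ne x hx

/-- involutions in the cosets of involutory type -/
theorem exists_invol [Finite F] {g : G} (hg : g ∈ E.SS) {σ : F ≃+* F} (hσ : E.chi ⟨g, hg⟩ = σ) (hσ2 : σ * σ = 1)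
    (hσ1 : σ ≠ 1) (hgg : g * g ∈ E.TT) :
    ∃ f ∈ S0, ∃ (δ : F) (h : σ c = c + δ + δ ^ 2), f * f = 1 ∧ σ δ = δ ∧
      (∀ x, f * i x = i (phi σ δ h x) * f) ∧ ∃ x, g = i x * f := by
  obtain ⟨x, z, hz, rfl⟩ := hg
  obtain ⟨σ', hT⟩ := E.typ z hz
  have hσσ : σ' = σ := by
    have h1 := E.chi_eq (g := ⟨i x * z, ⟨x, z, hz, rfl⟩⟩) ((Typ.i x (mem_top _)).mul (Or.inl rfl) hT.top)
    rw [hσ, one_mul] at h1
    exact h1.symm
  subst hσσ
  obtain ⟨y, hy, δ, h, hz'⟩ := hT
  set g1 : G := (i y)⁻¹ * z with hg1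
  have hg1S : g1 ∈ S0 := mul_mem (inv_mem (E.mem_U y hy)) hz
  have act : ∀ x, g1 * i x = i (phi σ' δ h x) * g1 := by
    intro x
    rw [hg1, mul_assoc, hz', map_mul, map_mul, map_inv]
    group
  have hT1 : Typ ⊤ i (g1 * g1) 1 := by
    have := (Typ.of_act h act (Y := ⊤)).mul (Or.inl rfl) (Typ.of_act h act (Y := ⊤))
    rwa [hσ2] at this
  -- `g1 g1 ∈ T`
  have hzz : (i x * z) * (i x * z) = i (x * y * phi σ' δ h (x * y)) * (g1 * g1) := by
    have e : z = i y * g1 := by rw [hg1]; group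
    have e1 : i x * z = i (x * y) * g1 := by rw [e, map_mul, mul_assoc]
    rw [e1]
    calc i (x * y) * g1 * (i (x * y) * g1) = i (x * y) * (g1 * i (x * y)) * g1 := by group
      _ = _ := by rw [act, map_mul i (x * y)]; group
  obtain ⟨x1, hx1, h2⟩ := E.one _ (mul_mem hg1S hg1S) hT1
  have h3 : g1 * g1 = i x1 := by
    rcases h2 with h2 | h2
    · exact h2
    · exfalso
      rw [hzz, h2] at hgg
      obtain ⟨w, hw⟩ := hgg
      have : i ((x * y * phi σ' δ h (x * y))⁻¹ * w * x1⁻¹) = t := by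
        rw [map_mul, map_mul, hw, map_inv, map_inv]; group
      exact E.t_ne _ this
  have h4 : ∀ x, x1 * x = phi σ' δ h (phi σ' δ h x) * x1 := by
    intro x
    apply E.inj
    rw [map_mul, map_mul, ← h3, mul_assoc, act, ← mul_assoc, act, mul_assoc]
  have hσσ : ∀ a, σ' (σ' a) = a := invol_apply hσ2
  have h2' := two_eq (F := F)
  obtain ⟨hv1, hn1⟩ := hx1
  have e1 := h4 ⟨0, 1, 0, 0, 0, 0⟩
  have e2 := h4 ⟨0, 0, 1, 0, 0, 0⟩
  have e3 := congrArg TB.u e1
  have e4 := congrArg TB.n e1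
  have e5 := congrArg TB.r e1
  have e6 := congrArg TB.m e2
  simp only [phi_apply, mul_u, mul_n, mul_r, mul_m, map_zero, map_one, mul_zero, mul_one, zero_add,
    add_zero, zero_mul, one_mul, hv1, hn1, one_pow, ne_eq, OfNat.ofNat_ne_zero, not_false_eq_true, zero_pow] at e3 e4 e5 e6
  have hδ : σ' δ = δ := by linear_combination (-1) * e3 - δ * h2'
  have hu1 : x1.u = 0 := by linear_combination (-1) * e6
  have hm1 : x1.m = 0 := by linear_combination e5 - c * e4
  have hx1 : x1 = ⟨0, 0, 0, 0, 0, x1.r⟩ := by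
    ext
    · exact hu1
    · exact hv1
    · exact e4
    · exact hm1
    · exact hn1
    · rfl
  -- `σ r = r`
  have hr : σ' x1.r = x1.r := by
    have h5 : g1 * i x1 = i x1 * g1 := by
      rw [← h3]
      exact (mul_assoc g1 g1 g1).symm
    rw [act] at h5
    have h6 := congrArg TB.r (E.inj (mul_right_cancel h5))
    exact h6
  obtain ⟨r2, hr2⟩ := exists_trace hσ2 hσ1 hr
  set ρ : TB c := ⟨0, 0, 0, 0, 0, r2⟩ with hρ
  have hρc : ∀ x, ρ * x = x * ρ := by
    intro x
    rw [hρ]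
    ext
    · show 0 + x.u = x.u + 0
      ring
    · show 0 + x.v = x.v + 0
      ring
    · show 0 + x.s = x.s + 0
      ring
    · show 0 + x.u * 0 + x.m = x.m + 0 * x.s + 0
      ring
    · show 0 + x.v * 0 + x.n = x.n + 0 * x.s + 0
      ring
    · show r2 + (x.u * 0 + x.v * 0) + (x.u ^ 2 + x.u * x.v + c * x.v ^ 2) * 0 + x.r =
        x.r + (0 * x.n + 0 * x.m) + (0 ^ 2 + 0 * 0 + c * 0 ^ 2) * x.s + r2
      ring
  have hρU : ρ ∈ U c := ⟨rfl, rfl⟩
  have hρφ : phi σ' δ h ρ * (x1 * ρ) = 1 := by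
    rw [hx1, hρ]
    ext
    · simp [phi_apply]
    · simp [phi_apply]
    · simp [phi_apply]
    · simp [phi_apply]
    · simp [phi_apply]
    · simp only [phi_apply, mul_r, map_zero, mul_zero, add_zero, one_r]
      linear_combination hr2 + x1.r * h2'
  refine ⟨g1 * i ρ, mul_mem hg1S (E.mem_U _ hρU), δ, h, ?_, hδ, ?_, x * y * phi σ' δ h ρ, ?_⟩
  · calc g1 * i ρ * (g1 * i ρ) = (g1 * i ρ) * g1 * i ρ := by group
      _ = i (phi σ' δ h ρ) * (g1 * g1) * i ρ := by rw [act]; group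
      _ = i (phi σ' δ h ρ * (x1 * ρ)) := by rw [h3, map_mul, map_mul]; group
      _ = 1 := by rw [hρφ, map_one]
  · intro w
    calc g1 * i ρ * i w = g1 * i (ρ * w) := by rw [map_mul]; group
      _ = (g1 * i w) * i ρ := by rw [hρc, map_mul]; group
      _ = _ := by rw [act]; group
  · have hφρ : phi σ' δ h ρ * phi σ' δ h ρ = 1 := by
      rw [hρ]
      ext
      · simp [phi_apply]
      · simp [phi_apply]
      · simp [phi_apply]
      · simp [phi_apply]
      · simp [phi_apply]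
      · simp only [phi_apply, mul_r, map_zero, mul_zero, add_zero, one_r]
        exact add_self _
    calc i x * z = i (x * y) * g1 := by rw [hg1, map_mul]; group
      _ = i (x * y) * i (phi σ' δ h ρ * phi σ' δ h ρ) * g1 := by rw [hφρ, map_one, mul_one]
      _ = i (x * y) * i (phi σ' δ h ρ) * (i (phi σ' δ h ρ) * g1) := by rw [map_mul i (phi σ' δ h ρ)]; group
      _ = i (x * y) * i (phi σ' δ h ρ) * (g1 * i ρ) := by rw [← act]
      _ = _ := by rw [map_mul i (x * y)]

/-- `t` is not conjugate into `T` -/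
theorem not_conj [Finite F] [Finite G] (hF : 4 ≤ Nat.card F) (x : TB c) : ¬ IsConj t (i x) := by
  have : Fact (Nat.Prime 2) := ⟨Nat.prime_two⟩
  intro hconj
  have hix : i x * i x = 1 := by
    obtain ⟨g, hg⟩ := isConj_iff.1 hconj
    rw [← hg]
    calc g * t * g⁻¹ * (g * t * g⁻¹) = g * (t * t) * g⁻¹ := by group
      _ = 1 := by rw [E.tt]; group
  have hx : x * x = 1 := by
    apply E.inj
    rw [map_mul, map_one, hix]
  obtain ⟨x', hx', hc'⟩ : ∃ x' ∈ V4 c, IsConj t (i x') := by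
    rcases inv_normal hx with h | ⟨y, r, h⟩
    · exact ⟨x, h, hconj⟩
    · obtain ⟨x', hx', h1⟩ := E.fus x.u x.v r
      refine ⟨x', hx', (hconj.trans ?_).trans h1⟩
      rw [isConj_iff]
      refine ⟨(i y)⁻¹, ?_⟩
      rw [inv_inv, mul_assoc, ← map_mul, h, map_mul, inv_mul_cancel_left]
  obtain ⟨g, hg⟩ := isConj_iff.1 hc'
  -- the elementary abelian group of order `q⁴` in `C_G(t)`
  set C : Subgroup G := centralizer ({t} : Set G) with hC
  set E1 : Subgroup G := ((V4 c).map i).map (MulAut.conj g⁻¹).toMonoidHom with hE1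
  have hE1C : E1 ≤ C := by
    rintro _ ⟨_, ⟨w, hw, rfl⟩, rfl⟩
    rw [hC, mem_centralizer_singleton_iff]
    have h1 : i w * i x' = i x' * i w := by rw [← map_mul, V4_comm hw hx', map_mul]
    rw [← hg] at h1
    show (MulAut.conj g⁻¹) (i w) * t = t * (MulAut.conj g⁻¹) (i w)
    rw [MulAut.conj_apply, inv_inv]
    calc g⁻¹ * i w * g * t = g⁻¹ * (i w * (g * t * g⁻¹)) * g := by group
      _ = t * (g⁻¹ * i w * g) := by rw [h1]; group
  have hE1p : IsPGroup 2 E1 := by
    have h1 : IsPGroup 2 ((V4 c).map i) := E.isPGroup_TT.to_le (by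
      rintro _ ⟨w, -, rfl⟩; exact ⟨w, rfl⟩)
    exact h1.map _
  obtain ⟨R, hR1, hR2, hR3, hR4⟩ := Cfsg.Agent.Lib.GoldschmidtFusion.exists_sylow_in (p := 2) (N := C) (D := S0)
    (fun z hz => mem_centralizer_singleton_iff.2 (E.comm z hz)) E.two
  have hRS : R = S0 := le_antisymm (E.syl R hR3 (fun z hz => mem_centralizer_singleton_iff.1 (hR2 hz)) hR1) hR1
  subst hRS
  obtain ⟨k, -, hk⟩ := Cfsg.Agent.Lib.GoldschmidtFusion.exists_conj_le_in (p := 2) hR3 hR4 hE1C hE1p
  set E2 : Subgroup G := E1.map (MulAut.conj k).toMonoidHom with hE2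
  have hcard : Nat.card E2 = Nat.card F ^ 4 := by
    rw [hE2, hE1, ← card_V4 (c := c)]
    rw [Nat.card_congr (equivMapOfInjective _ _ (MulAut.conj k).injective).toEquiv.symm]
    rw [Nat.card_congr (equivMapOfInjective _ _ (MulAut.conj g⁻¹).injective).toEquiv.symm]
    exact (Nat.card_congr (equivMapOfInjective _ _ E.inj).toEquiv.symm)
  have hsq : ∀ z ∈ E2, z * z = 1 := by
    rintro _ ⟨_, ⟨_, ⟨w, hw, rfl⟩, rfl⟩, rfl⟩
    rw [← map_mul, ← map_mul, ← map_mul, V4_sq hw, map_one, map_one, map_one]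
  have hcomm : ∀ z ∈ E2, ∀ w ∈ E2, z * w = w * z := by
    rintro _ ⟨_, ⟨_, ⟨w, hw, rfl⟩, rfl⟩, rfl⟩ _ ⟨_, ⟨_, ⟨w', hw', rfl⟩, rfl⟩, rfl⟩
    rw [← map_mul, ← map_mul, ← map_mul, V4_comm hw hw', map_mul, map_mul, map_mul]
  have hE2S : E2 ≤ E.SS := hk.trans E.S0_le
  -- the part in `U`
  set E3 : Subgroup (TB c) := E2.comap i with hE3
  have hE3U : E3 ≤ U c := fun w hw => E.mem_U_of_comm (E.comm _ (hk hw))
  have hE3sq : ∀ w ∈ E3, w * w = 1 := fun w hw => E.inj (by rw [map_mul, map_one]; exact hsq _ hw)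
  have hE3c : ∀ w ∈ E3, ∀ w' ∈ E3, w * w' = w' * w := fun w hw w' hw' =>
    E.inj (by rw [map_mul, map_mul]; exact hcomm _ hw _ hw')
  have hn3 : ((E3.map i : Subgroup G) : Set G).ncard = Nat.card E3 := by
    rw [← Nat.card_coe_set_eq]
    exact Nat.card_congr (equivMapOfInjective _ _ E.inj).toEquiv.symm
  -- elements of type one
  let H1 : Set G := {z | ∃ h : z ∈ E2, E.chi ⟨z, hE2S h⟩ = 1}
  have hA : H1.ncard ≤ 2 * Nat.card E3 := by
    rw [← hn3]
    by_cases hex : ∃ y0 ∈ H1, ∃ w, y0 = t * i w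
    · obtain ⟨y0, ⟨hy0, -⟩, w0, hw0⟩ := hex
      refine ncard_le_two y0 fun z hz => ?_
      obtain ⟨hz2, hz1⟩ := hz
      rcases E.of_chi_one (hE2S hz2) hz1 with ⟨w, rfl⟩ | ⟨w, rfl⟩
      · left; exact ⟨w, hz2, rfl⟩
      · right
        have h1 : y0⁻¹ * (t * i w) ∈ E2 := mul_mem (inv_mem hy0) hz2
        have h2 : y0⁻¹ * (t * i w) = i (w0⁻¹ * w) := by
          rw [hw0, map_mul, map_inv]; group
        rw [h2] at h1 ⊢
        exact ⟨_, h1, rfl⟩
    · refine ncard_le_two 1 fun z hz => ?_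
      obtain ⟨hz2, hz1⟩ := hz
      rcases E.of_chi_one (hE2S hz2) hz1 with ⟨w, rfl⟩ | ⟨w, rfl⟩
      · left; exact ⟨w, hz2, rfl⟩
      · exact absurd ⟨_, ⟨hz2, hz1⟩, w, rfl⟩ hex
  have hncard : ((E2 : Subgroup G) : Set G).ncard = Nat.card F ^ 4 := by
    rw [← hcard, ← Nat.card_coe_set_eq]; rfl
  by_cases hall : ∀ z (hz : z ∈ E2), E.chi ⟨z, hE2S hz⟩ = 1
  · have h1 : ((E2 : Subgroup G) : Set G) ⊆ H1 := fun z hz => ⟨hz, hall z hz⟩
    have h2 := Set.ncard_le_ncard h1 (Set.toFinite _)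
    have h3 := card_elem_U hE3U hE3sq hE3c
    have h4 : Nat.card F ^ 4 ≤ 2 * Nat.card F ^ 3 := by
      rw [← hncard]; exact h2.trans (hA.trans (Nat.mul_le_mul_left 2 h3))
    have h5 : Nat.card F ^ 4 = Nat.card F * Nat.card F ^ 3 := by ring
    have h6 : 0 < Nat.card F ^ 3 := by positivity
    rw [h5] at h4
    have := Nat.le_of_mul_le_mul_right h4 h6
    omega
  · push Not at hall
    obtain ⟨z0, hz0, hz01⟩ := hall
    set σ := E.chi ⟨z0, hE2S hz0⟩ with hσ
    have hsqchi : ∀ z (hz : z ∈ E2), E.chi ⟨z, hE2S hz⟩ * E.chi ⟨z, hE2S hz⟩ = 1 := by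
      intro z hz
      rw [← map_mul]
      have : (⟨z, hE2S hz⟩ : E.SS) * ⟨z, hE2S hz⟩ = 1 := Subtype.ext (hsq z hz)
      rw [this, map_one]
    have hB : ((E2 : Subgroup G) : Set G).ncard ≤ 2 * H1.ncard := by
      refine ncard_le_two z0 fun z hz => ?_
      have hz' : z ∈ E2 := hz
      by_cases h1 : E.chi ⟨z, hE2S hz'⟩ = 1
      · left; exact ⟨hz', h1⟩
      · right
        refine ⟨mul_mem (inv_mem hz0) hz', ?_⟩
        have h2 := unique_invol (hsqchi z0 hz0) (hsqchi z hz') hz01 h1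
        have h3 : (⟨z0⁻¹ * z, hE2S (mul_mem (inv_mem hz0) hz')⟩ : E.SS) = ⟨z0, hE2S hz0⟩⁻¹ * ⟨z, hE2S hz'⟩ := rfl
        rw [h3, map_mul, map_inv, h2, inv_mul_cancel]
    obtain ⟨σ', hT⟩ := E.typ z0 (hk hz0)
    have hσσ : σ' = σ := (E.chi_eq (g := ⟨z0, hE2S hz0⟩) hT).symm
    rw [hσσ] at hT
    obtain ⟨y, hy, δ, h, hz'⟩ := hT
    have h3 := card_fix_U (hsqchi z0 hz0) hz01 h hy hE3U (fun w hw => by
      apply E.inj
      have h4 := hcomm _ hz0 _ hw
      rw [hz'] at h4
      exact mul_right_cancel h4)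
    have h4 : Nat.card F ^ 4 ≤ 4 * Nat.card F ^ 2 := by
      rw [← hncard]
      calc _ ≤ 2 * H1.ncard := hB
        _ ≤ 2 * (2 * Nat.card E3) := Nat.mul_le_mul_left 2 hA
        _ ≤ 2 * (2 * Nat.card F ^ 2) := Nat.mul_le_mul_left 2 (Nat.mul_le_mul_left 2 h3)
        _ = 4 * Nat.card F ^ 2 := by ring
    have h5 : Nat.card F ^ 4 = Nat.card F ^ 2 * Nat.card F ^ 2 := by ring
    have h6 : 0 < Nat.card F ^ 2 := by positivity
    rw [h5] at h4
    have h7 := Nat.le_of_mul_le_mul_right h4 h6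
    nlinarith only [hF, h7]

/-- **(★)** -/
theorem star [Finite F] [Finite G] (hF : 4 ≤ Nat.card F) (g : G) (hg : g * t * g⁻¹ ∈ E.SS) :
    ∃ x ∈ E.TT, g * t * g⁻¹ = x * t * x⁻¹ := by
  set s : G := g * t * g⁻¹ with hs
  have hts : IsConj t s := isConj_iff.2 ⟨g, rfl⟩
  have hss : s * s = 1 := by
    calc s * s = g * (t * t) * g⁻¹ := by rw [hs]; group
      _ = 1 := by rw [E.tt]; group
  by_cases h1 : E.chi ⟨s, hg⟩ = 1
  · rcases E.of_chi_one hg h1 with ⟨x, hx⟩ | ⟨x, hx⟩
    · exact absurd (hx ▸ hts) (E.not_conj hF x)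
    · -- the coset `tT`
      have h2 : tau x * x = 1 := by
        apply E.inj
        rw [map_one, ← hss, hx, map_mul]
        calc i (tau x) * i x = i (tau x) * (t * t) * i x := by rw [E.tt, mul_one]
          _ = (i (tau x) * t) * t * i x := by group
          _ = t * i x * (t * i x) := by rw [← E.t_i]; group
      have key : ∀ (y x' : TB c), tau y * x = x' * y → i y * s * (i y)⁻¹ = t * i x' := by
        intro y x' h
        calc i y * s * (i y)⁻¹ = (i y * t) * i x * (i y)⁻¹ := by rw [hx]; group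
          _ = t * (i (tau y * x)) * (i y)⁻¹ := by rw [E.i_t, map_mul]; group
          _ = t * i x' := by rw [h, map_mul]; group
      rcases tau_normal h2 with ⟨y, r, h⟩ | ⟨y, s', hs', h⟩
      · have h3 := key y _ h
        have h4 : IsConj t (t * i ⟨0, 0, 0, 0, 0, r⟩) := hts.trans (isConj_iff.2 ⟨i y, h3⟩)
        have hr : r = 0 := by
          by_contra hr
          exact E.nzl r hr h4
        subst hr
        have h5 : (⟨0, 0, 0, 0, 0, 0⟩ : TB c) = 1 := rfl
        rw [h5, map_one, mul_one] at h3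
        refine ⟨(i y)⁻¹, inv_mem ⟨y, rfl⟩, ?_⟩
        rw [← h3]
        group
      · exact absurd (hts.trans (isConj_iff.2 ⟨i y, key y _ h⟩)) (E.nxb s' hs')
  · exfalso
    have hchi2 : E.chi ⟨s, hg⟩ * E.chi ⟨s, hg⟩ = 1 := by
      rw [← map_mul]
      have : (⟨s, hg⟩ : E.SS) * ⟨s, hg⟩ = 1 := Subtype.ext hss
      rw [this, map_one]
    obtain ⟨f, hf, δ, h, hff, hδ, hact, x, hx⟩ := E.exists_invol hg rfl hchi2 h1 (by rw [hss]; exact one_mem _)
    set σ := E.chi ⟨s, hg⟩ with hσ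
    -- `x φ(x) = 1`
    have h2 : x * phi σ δ h x = 1 := by
      apply E.inj
      rw [map_one, map_mul, ← hss, hx]
      calc i x * i (phi σ δ h x) = i x * i (phi σ δ h x) * (f * f) := by rw [hff, mul_one]
        _ = i x * (i (phi σ δ h x) * f) * f := by group
        _ = i x * f * (i x * f) := by rw [← hact]; group
    have h3 : phi σ δ h x * x = 1 := by
      calc phi σ δ h x * x = x⁻¹ * (x * phi σ δ h x) * x := by group
        _ = 1 := by rw [h2]; group
    obtain ⟨y, hy⟩ := h90 h (invol_apply hchi2) hδ (fun a ha => exists_trace hchi2 h1 ha) h3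
    have hφφ : ∀ w, phi σ δ h (phi σ δ h w) = w := by
      intro w
      apply E.inj
      have h4 : f * (f * i w) = i (phi σ δ h (phi σ δ h w)) * (f * f) := by
        rw [hact, ← mul_assoc, hact, mul_assoc]
      rw [hff, mul_one, ← mul_assoc, hff, one_mul] at h4
      exact h4.symm
    have h4 : i (phi σ δ h y) * s * (i (phi σ δ h y))⁻¹ = f := by
      calc i (phi σ δ h y) * s * (i (phi σ δ h y))⁻¹ = i (phi σ δ h y * x) * (f * i (phi σ δ h y)⁻¹) := by
            rw [hx, map_mul, map_inv]; group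
        _ = i y * (i (phi σ δ h (phi σ δ h y))⁻¹ * f) := by
            rw [hy, hact, map_inv (phi σ δ h)]
        _ = f := by rw [hφφ, map_inv]; group
    have h5 : IsConj t f := hts.trans (isConj_iff.2 ⟨_, h4⟩)
    have h6 : Typ ⊤ i f σ := Typ.of_act h hact
    obtain ⟨w, -, hw | hw⟩ := E.nout f hf h5
    · rw [hw] at h6
      exact h1 (h6.unique E.inj (Typ.i w (mem_top _)))
    · rw [hw] at h6
      have h7 := E.typ_t.top.mul (Or.inl rfl) (Typ.i (i := i) w (mem_top w))
      exact h1 (h6.unique E.inj h7)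

/-- `S` is a Sylow 2-subgroup -/
theorem exists_sylow [Finite F] [Finite G] (hF : 4 ≤ Nat.card F) : ∃ P : Sylow 2 G, (P : Subgroup G) = E.SS := by
  refine Cfsg.Agent.StdEven.OuterKill.exists_sylow (t := t) E.isPGroup_SS E.TT_le (E.S0_le E.mem_t)
    (fun g hg => E.star hF g hg) (fun Q hQ hQt hQS => ?_)
  exact (E.syl Q hQ hQt fun z hz => hQS z (E.S0_le hz) (E.comm z hz)).trans E.S0_le

/-- **The end of case (B).** -/
theorem main [Finite F] [Finite G] (hF : 4 ≤ Nat.card F) {L : Subgroup G} [hLn : L.Normal] (hL : commutator L = ⊤)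
    (hTL : ∀ x, i x ∈ L)
    (nin : ∀ y z, y * t = t * y → z ∈ S0 → y * z * y⁻¹ ∈ E.TT → ∃ x ∈ U c, z = i x) :
    t ∉ L ∧ ∃ P : Sylow 2 L, (P : Subgroup L).map L.subtype = E.TT := by
  have : Fact (Nat.Prime 2) := ⟨Nat.prime_two⟩
  obtain ⟨P, hP⟩ := E.exists_sylow hF
  have hstar : ∀ g : G, g * t * g⁻¹ ∈ (P : Subgroup G) → ∃ x ∈ E.TT, g * t * g⁻¹ = x * t * x⁻¹ := by
    intro g hg
    rw [hP] at hg
    exact E.star hF g hg
  have htP : t ∈ (P : Subgroup G) := by rw [hP]; exact E.S0_le E.mem_t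
  have hTP : E.TT ≤ (P : Subgroup G) := by rw [hP]; exact E.TT_le
  -- `t ∉ L`
  have htL : t ∉ L := by
    obtain ⟨A, _, φ, hφ⟩ := E.exists_phi
    let e : (P : Subgroup G) ≃* E.SS := MulEquiv.subgroupCongr hP
    exact Cfsg.Agent.StdEven.OuterKill.not_mem hTP E.tt htP hstar hL (φ.comp e.toMonoidHom) hφ
  refine ⟨htL, ?_⟩
  have hTL' : E.TT ≤ L := by
    rintro _ ⟨x, rfl⟩; exact hTL x
  -- elements of type one in `S ∩ L`
  have hone : ∀ g (hg : g ∈ E.SS), g ∈ L → E.chi ⟨g, hg⟩ = 1 → g ∈ E.TT := by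
    intro g hg hgL h1
    rcases E.of_chi_one hg h1 with ⟨x, hx⟩ | ⟨x, hx⟩
    · exact ⟨x, hx.symm⟩
    · exfalso
      apply htL
      have e : t = g * (i x)⁻¹ := by rw [hx]; group
      rw [e]
      exact mul_mem hgL (inv_mem (hTL x))
  have key : E.SS ⊓ L ≤ E.TT := by
    by_contra hcon
    -- an element of type `≠ 1`
    obtain ⟨g, ⟨hgS, hgL⟩, hgT⟩ := SetLike.not_le_iff_exists.1 hcon
    have hg1 : E.chi ⟨g, hgS⟩ ≠ 1 := fun h => hgT (hone g hgS hgL h)
    -- an element whose type is an involution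
    obtain ⟨z, hzS, hzL, hz2, hz1⟩ : ∃ z, ∃ hz : z ∈ E.SS, z ∈ L ∧ E.chi ⟨z, hz⟩ * E.chi ⟨z, hz⟩ = 1 ∧
        E.chi ⟨z, hz⟩ ≠ 1 := by
      obtain ⟨n, hn⟩ := E.isPGroup_SS ⟨g, hgS⟩
      have hex : ∃ k, E.chi (⟨g, hgS⟩ ^ 2 ^ k) = 1 := ⟨n, by rw [hn, map_one]⟩
      classical
      let k := Nat.find hex
      have hk : E.chi (⟨g, hgS⟩ ^ 2 ^ k) = 1 := Nat.find_spec hex
      have hk0 : k ≠ 0 := by
        intro h0
        rw [h0, pow_zero, pow_one] at hk
        exact hg1 hk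
      obtain ⟨m, hm⟩ := Nat.exists_eq_succ_of_ne_zero hk0
      have hm1 : ¬ E.chi (⟨g, hgS⟩ ^ 2 ^ m) = 1 := Nat.find_min hex (by omega)
      refine ⟨g ^ 2 ^ m, pow_mem hgS _, pow_mem hgL _, ?_, hm1⟩
      have h3 : (⟨g ^ 2 ^ m, pow_mem hgS _⟩ : E.SS) = ⟨g, hgS⟩ ^ 2 ^ m := rfl
      rw [h3, ← map_mul, ← pow_two, ← pow_mul, ← pow_succ]
      rw [hm] at hk
      exact hk
    have hzz : z * z ∈ E.TT := hone _ (mul_mem hzS hzS) (mul_mem hzL hzL) (by
      have h3 : (⟨z * z, mul_mem hzS hzS⟩ : E.SS) = ⟨z, hzS⟩ * ⟨z, hzS⟩ := rfl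
      rw [h3, map_mul, hz2])
    obtain ⟨f, hf, δ, h, hff, hδ, hact, x, hx⟩ := E.exists_invol hzS rfl hz2 hz1 hzz
    set σ := E.chi ⟨z, hzS⟩ with hσ
    have hfL : f ∈ L := by
      have e : f = (i x)⁻¹ * z := by rw [hx]; group
      rw [e]
      exact mul_mem (inv_mem (hTL x)) hzL
    have hfS := E.S0_le hf
    have hchif : E.chi ⟨f, hfS⟩ = σ := E.chi_eq (g := ⟨f, hfS⟩) (Typ.of_act h hact (Y := ⊤))
    have hfT : f ∉ E.TT := by
      rintro ⟨w, hw⟩
      apply hz1
      rw [← hchif]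
      have : (⟨f, hfS⟩ : E.SS) = ⟨i w, E.TT_le ⟨w, rfl⟩⟩ := Subtype.ext hw.symm
      rw [this]
      exact E.chi_i w
    let I : CommGroup (F ≃+* F) := { (inferInstance : Group (F ≃+* F)) with mul_comm := Cfsg.Agent.StdRank2.OutField.comm }
    have hPS : (P : Subgroup G) ⊓ L ≤ E.SS := inf_le_left.trans hP.le
    let ψ : ↥((P : Subgroup G) ⊓ L) →* (F ≃+* F) := E.chi.comp (inclusion hPS)
    obtain ⟨y, hyt, hyf⟩ := Cfsg.Agent.StdEven.OuterKill.no_outer (A := F ≃+* F) (P := P) (T := E.TT) (L := L)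
      (t := t) (f := f) E.tt htP (fun x hx => E.conj_TT E.mem_t hx) hstar hL ψ (by
        intro w hw
        constructor
        · intro h1
          exact hone w (hPS hw) (mem_inf.1 hw).2 h1
        · rintro ⟨w', rfl⟩
          exact E.chi_i w') hff (E.comm f hf) (mem_inf.2 ⟨by rw [hP]; exact hfS, hfL⟩) hfT (by
        intro w hw hww
        have h1 : E.chi ⟨w, hPS hw⟩ * E.chi ⟨w, hPS hw⟩ = 1 := by
          rw [← map_mul]
          have : (⟨w, hPS hw⟩ : E.SS) * ⟨w, hPS hw⟩ = 1 := Subtype.ext hww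
          rw [this, map_one]
        by_cases h2 : E.chi ⟨w, hPS hw⟩ = 1
        · exact Or.inl h2
        · right
          show E.chi ⟨w, hPS hw⟩ = E.chi ⟨f, hfS⟩
          rw [hchif]
          exact unique_invol h1 hz2 h2 hz1)
    obtain ⟨w, -, hw⟩ := nin y f hyt hf hyf
    exact hfT ⟨w, hw.symm⟩
  have hSL : E.SS ⊓ L = E.TT := le_antisymm key (le_inf E.TT_le hTL')
  have hodd : ¬ 2 ∣ (E.TT.subgroupOf L).index := by
    have h1 := Cfsg.Agent.StdEven.OuterKill.not_dvd_relIndex P L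
    rw [← inf_relIndex_right, hP, hSL] at h1
    exact h1
  have hT2 : IsPGroup 2 (E.TT.subgroupOf L) := E.isPGroup_TT.comap_of_injective L.subtype L.subtype_injective
  refine ⟨hT2.toSylow hodd, ?_⟩
  show (E.TT.subgroupOf L).map L.subtype = E.TT
  rw [subgroupOf_map_subtype]
  exact inf_eq_left.2 hTL'

end Env

end Cfsg.Agent.StdSpFour.CaseBEnv
end
end

-- part: StdRank2/OutAct
section
set_option linter.all false
open scoped Cfsg.Agent.FastGrp

/-!
# The action of the normaliser of `A` on `A / Z(A)`, `Z(A)` of odd order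
-/

set_option autoImplicit false

namespace Cfsg.Agent.StdRank2.OutAct

open Subgroup

variable {G : Type*} [Group G]

/-- The automorphism of `K / Z(K)` induced by an automorphism of `K`. -/
def quot (K : Type*) [Group K] : MulAut K →* MulAut (K ⧸ center K) where
  toFun e := QuotientGroup.congr _ _ e (Subgroup.characteristic_iff_map_eq.1 inferInstance e)
  map_one' := by
    apply MulEquiv.ext
    intro x
    induction x using QuotientGroup.induction_on
    rfl
  map_mul' e f := by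
    apply MulEquiv.ext
    intro x
    induction x using QuotientGroup.induction_on
    rfl

/-- `y a y⁻¹` as an element of `A`. -/
def cj {A : Subgroup G} {y : G} (hy : y ∈ normalizer (A : Set G)) (a : A) : A :=
  ⟨y * a * y⁻¹, (mem_normalizer_iff.1 hy a).1 a.2⟩

variable {L : Type*} [Group L]

/-- The action of the normaliser of `A` on `L = A / Z(A)`. -/
noncomputable def act (A : Subgroup G) (e : ↥A ⧸ center ↥A ≃* L) : ↥(normalizer (A : Set G)) →* MulAut L :=
  ((MulAut.congr e).toMonoidHom.comp (quot A)).comp A.normalizerMonoidHom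

theorem act_mk {A : Subgroup G} (e : ↥A ⧸ center ↥A ≃* L) (y : ↥(normalizer (A : Set G))) (a : A) :
    act A e y (e (QuotientGroup.mk a)) = e (QuotientGroup.mk (cj y.2 a)) := by
  show e (quot A (A.normalizerMonoidHom y) (e.symm (e (QuotientGroup.mk a)))) = _
  rw [MulEquiv.symm_apply_apply]
  rfl

/-- Elements of 2-power order of `A` are determined by their image modulo an odd centre. -/
theorem eq_of_mk_eq {A : Subgroup G} [Finite G] (hZ : Odd (Nat.card (center ↥A))) {a b : A} {k l : ℕ}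
    (ha : a ^ 2 ^ k = 1) (hb : b ^ 2 ^ l = 1)
    (h : (QuotientGroup.mk a : ↥A ⧸ center ↥A) = QuotientGroup.mk b) : a = b := by
  rw [QuotientGroup.eq] at h
  set z : A := a⁻¹ * b with hz
  have hb' : b = a * z := by rw [hz]; group
  have hc : Commute a z := (mem_center_iff.1 h a)
  have h1 : z ^ 2 ^ (k + l) = 1 := by
    have h2 : b ^ 2 ^ (k + l) = 1 := by rw [add_comm, pow_add, pow_mul, hb, one_pow]
    have h3 : a ^ 2 ^ (k + l) = 1 := by rw [pow_add, pow_mul, ha, one_pow]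
    rw [hb', hc.mul_pow, h3, one_mul] at h2
    exact h2
  have h4 : z ^ Nat.card (center ↥A) = 1 := by
    have := pow_card_eq_one' (x := (⟨z, h⟩ : center ↥A))
    exact congrArg Subtype.val this
  have h5 : orderOf z ∣ 1 := by
    have hcop : Nat.Coprime (2 ^ (k + l)) (Nat.card (center ↥A)) :=
      Nat.Coprime.pow_left _ (Nat.coprime_two_left.2 hZ)
    rw [← hcop.gcd_eq_one]
    exact Nat.dvd_gcd (orderOf_dvd_of_pow_eq_one h1) (orderOf_dvd_of_pow_eq_one h4)
  have h6 : z = 1 := orderOf_eq_one_iff.1 (Nat.dvd_one.1 h5)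
  rw [hb', h6, mul_one]

/-- An element which centralises `A / Z(A)` centralises the perfect group `A`. -/
theorem mem_centralizer_of_act_eq_one {A : Subgroup G} (hA : commutator ↥A = ⊤) (e : ↥A ⧸ center ↥A ≃* L)
    {y : ↥(normalizer (A : Set G))} (hy : act A e y = 1) : (y : G) ∈ centralizer (A : Set G) := by
  have h1 : ∀ a : A, (cj y.2 a) * a⁻¹ ∈ center ↥A := by
    intro a
    have h2 := act_mk e y a
    rw [hy, MulAut.one_apply] at h2
    have h3 := e.injective h2
    rw [QuotientGroup.eq] at h3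
    have h5 : cj y.2 a * a⁻¹ = a * (a⁻¹ * cj y.2 a) * a⁻¹ := by group
    rw [h5, mem_center_iff.1 h3 a, mul_inv_cancel_right]
    exact h3
  let f : A →* center ↥A :=
    { toFun := fun a => ⟨cj y.2 a * a⁻¹, h1 a⟩
      map_one' := by
        apply Subtype.ext
        simp only [OneMemClass.coe_one]
        apply Subtype.ext
        simp [cj]
      map_mul' := fun a b => by
        apply Subtype.ext
        show cj y.2 (a * b) * (a * b)⁻¹ = (cj y.2 a * a⁻¹) * (cj y.2 b * b⁻¹)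
        have h2 : cj y.2 (a * b) = cj y.2 a * cj y.2 b := by
          apply Subtype.ext
          show (y : G) * (a * b) * (y : G)⁻¹ = (y * a * (y : G)⁻¹) * (y * b * (y : G)⁻¹)
          group
        rw [h2]
        have h3 := mem_center_iff.1 (h1 b) a⁻¹
        have h4 : cj y.2 a * cj y.2 b * (a * b)⁻¹ = cj y.2 a * ((cj y.2 b * b⁻¹) * a⁻¹) := by group
        rw [h4, ← h3]
        group }
  have h2 : f.ker = ⊤ := by
    rw [eq_top_iff, ← hA, commutator_def, Subgroup.commutator_le]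
    intro a _ b _
    rw [MonoidHom.mem_ker, map_commutatorElement, commutatorElement_def]
    have h2 : f a * f b = f b * f a := by
      apply Subtype.ext
      exact mem_center_iff.1 (f b).2 (f a)
    rw [h2]
    group
  rw [mem_centralizer_iff]
  intro a ha
  have h3 : (⟨a, ha⟩ : A) ∈ f.ker := by rw [h2]; trivial
  have h4 : cj y.2 (⟨a, ha⟩ : A) * (⟨a, ha⟩ : A)⁻¹ = 1 := congrArg Subtype.val (MonoidHom.mem_ker.1 h3)
  have h5 := mul_inv_eq_one.1 h4
  have h6 : (y : G) * a * (y : G)⁻¹ = a := congrArg Subtype.val h5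
  rw [mul_inv_eq_iff_eq_mul] at h6
  exact h6.symm

theorem act_eq_one_of_mem_centralizer {A : Subgroup G} (e : ↥A ⧸ center ↥A ≃* L)
    {y : ↥(normalizer (A : Set G))} (hy : (y : G) ∈ centralizer (A : Set G)) : act A e y = 1 := by
  apply MulEquiv.ext
  intro z
  obtain ⟨w, rfl⟩ := e.surjective z
  induction w using QuotientGroup.induction_on with
  | H a =>
    rw [act_mk, MulAut.one_apply]
    congr 2
    apply Subtype.ext
    show (y : G) * a * (y : G)⁻¹ = a
    rw [← mem_centralizer_iff.1 hy a a.2, mul_inv_cancel_right]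

/-- Transport of a relation `α X = X'` to `G`. -/
theorem conj_eq {A : Subgroup G} [Finite G] (hZ : Odd (Nat.card (center ↥A))) (e : ↥A ⧸ center ↥A ≃* L)
    {y : G} (hy : y ∈ normalizer (A : Set G)) {a b : G} (ha : a ∈ A) (hb : b ∈ A) {k l : ℕ}
    (ha2 : a ^ 2 ^ k = 1) (hb2 : b ^ 2 ^ l = 1)
    (h : act A e ⟨y, hy⟩ (e (QuotientGroup.mk ⟨a, ha⟩)) = e (QuotientGroup.mk ⟨b, hb⟩)) : y * a * y⁻¹ = b := by
  rw [act_mk] at h
  have h1 : cj hy ⟨a, ha⟩ = ⟨b, hb⟩ := by
    refine eq_of_mk_eq hZ (k := k) (l := l) ?_ (Subtype.ext hb2) (e.injective h)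
    apply Subtype.ext
    show (y * a * y⁻¹) ^ 2 ^ k = 1
    rw [conj_pow, ha2, mul_one, mul_inv_cancel]
  exact congrArg Subtype.val h1

theorem act_conj_mem {A : Subgroup G} (e : ↥A ⧸ center ↥A ≃* L) {u : G} (hu : u ∈ A)
    (hu' : u ∈ normalizer (A : Set G)) : act A e ⟨u, hu'⟩ = MulAut.conj (e (QuotientGroup.mk ⟨u, hu⟩)) := by
  apply MulEquiv.ext
  intro z
  obtain ⟨w, rfl⟩ := e.surjective z
  induction w using QuotientGroup.induction_on with
  | H a =>
    rw [act_mk, MulAut.conj_apply, ← map_mul, ← map_inv, ← map_mul, ← QuotientGroup.mk_mul, ← QuotientGroup.mk_inv,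
      ← QuotientGroup.mk_mul]
    rfl

end Cfsg.Agent.StdRank2.OutAct

private theorem dce_d2e8a5481f5a : _root_.True := by
  try have : _root_.True := by simp only [_root_.Cfsg.Agent.StdRank2.OutAct.cj.congr_simp]
  try have : _root_.True := by simp only [_root_.Cfsg.Agent.StdRank2.OutAct.cj.eq_1]
  exact _root_.True.intro
end

-- part: StdRank2/OutL3Facts
section
prune_inst 0xc0000400002200000018000000001c0282000000000800000000000004800c0000000020b0100110000000544034000001000000420000000a000800011801800000000000000000000000000000000000000000000000000000000000000000000000000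
set_option linter.all false
open scoped Cfsg.Agent.FastGrp

-- part: StdRank2/OutL3
section
/-!
# 2-subgroups of `Aut(PSL₃(F))` normalising the unitriangular group, `F` of characteristic 2
-/

set_option autoImplicit false

namespace Cfsg.Agent.StdRank2.OutL3

open Matrix
open Cfsg.Agent.ClassicalGeometry.AutPSL.Root
open Cfsg.Agent.ClassicalGeometry.AutPSL.Auto
open Cfsg.Agent.ClassicalGeometry.AutPSL.FieldAut
open Cfsg.Agent.ClassicalGeometry.AutPSL.Main
open Cfsg.Agent.ClassicalGeometry.AutPSL.SylowU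

variable {F : Type*} [Field F]

/-- Root elements of `PSL₃(F)`. -/
def X {i j : Fin 3} (h : i ≠ j) (s : F) : Matrix.ProjectiveSpecialLinearGroup (Fin 3) F :=
  pr (Matrix.SpecialLinearGroup.transvection h s)

theorem X_eq {i j : Fin 3} (h : i ≠ j) (s : F) : X h s = pr (Matrix.SpecialLinearGroup.transvection h s) := rfl

theorem X_congr {i j k l : Fin 3} (h : i ≠ j) (hik : i = k) (hjl : j = l) (h' : k ≠ l) (s : F) : X h s = X h' s := by
  subst hik; subst hjl; rfl

/-! ### Torus -/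

/-- Diagonal automorphisms. -/
noncomputable def tor : (Fin 3 → Fˣ) →* MulAut (Matrix.ProjectiveSpecialLinearGroup (Fin 3) F) where
  toFun c := lift (cj (dg (fun i => (c i : F)) fun i => (c i).ne_zero))
  map_one' := by
    apply aut_ext
    intro i j hij t
    rw [lift_pr, cj_dg]
    simp only [_root_.Pi.one_apply, _root_.Units.val_one, _root_.one_mul, _root_.inv_one, _root_.mul_one, _root_.QuotientGroup.mk'_apply, _root_.MulAut.one_apply]
  map_mul' c d := by
    apply aut_ext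
    intro i j hij t
    rw [lift_pr, cj_dg, MulAut.mul_apply, lift_pr, cj_dg, lift_pr, cj_dg]
    congr 2
    simp only [Pi.mul_apply, Units.val_mul, _root_.mul_inv_rev]
    ring

theorem tor_X (c : Fin 3 → Fˣ) {i j : Fin 3} (h : i ≠ j) (s : F) :
    tor c (X h s) = X h ((c i : F) * s * (c j : F)⁻¹) := by
  show lift (cj (dg (fun i => (c i : F)) fun i => (c i).ne_zero)) (pr _) = _
  rw [lift_pr, cj_dg]
  rfl

/-! ### The graph automorphism -/

/-- The antidiagonal permutation matrix. -/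
def J : GL (Fin 3) F :=
  ⟨!![0, 0, 1; 0, 1, 0; 1, 0, 0], !![0, 0, 1; 0, 1, 0; 1, 0, 0], by
    ext i j; (revert i j; simp only [Matrix.mul_apply, Fin.sum_univ_three, _root_.Fin.forall_fin_succ, _root_.Matrix.of_apply, _root_.Matrix.cons_val', _root_.Matrix.cons_val_fin_one, Fin.isValue, _root_.Matrix.cons_val_zero, _root_.Matrix.cons_val_one, _root_.Matrix.cons_val, _root_.MulZeroClass.mul_zero, _root_.add_zero, _root_.mul_one, _root_.zero_add, _root_.Matrix.cons_val_succ, _root_.IsEmpty.forall_iff, _root_.and_true, _root_.Matrix.one_apply_eq, Nat.reduceAdd, _root_.Fin.succ_zero_eq_one, _root_.ne_eq, _root_.zero_ne_one, _root_.not_false_eq_true, _root_.Matrix.one_apply_ne, _root_.Fin.succ_one_eq_two, Fin.reduceEq, _root_.and_self, _root_.Fin.succ_ne_zero, _root_.true_and]), by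
    ext i j; (revert i j; simp only [Matrix.mul_apply, Fin.sum_univ_three, _root_.Fin.forall_fin_succ, _root_.Matrix.of_apply, _root_.Matrix.cons_val', _root_.Matrix.cons_val_fin_one, Fin.isValue, _root_.Matrix.cons_val_zero, _root_.Matrix.cons_val_one, _root_.Matrix.cons_val, _root_.MulZeroClass.mul_zero, _root_.add_zero, _root_.mul_one, _root_.zero_add, _root_.Matrix.cons_val_succ, _root_.IsEmpty.forall_iff, _root_.and_true, _root_.Matrix.one_apply_eq, Nat.reduceAdd, _root_.Fin.succ_zero_eq_one, _root_.ne_eq, _root_.zero_ne_one, _root_.not_false_eq_true, _root_.Matrix.one_apply_ne, _root_.Fin.succ_one_eq_two, Fin.reduceEq, _root_.and_self, _root_.Fin.succ_ne_zero, _root_.true_and])⟩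

theorem coe_J : ((J : GL (Fin 3) F) : Matrix (Fin 3) (Fin 3) F) = !![0, 0, 1; 0, 1, 0; 1, 0, 0] := rfl

theorem coe_J_inv : ((J⁻¹ : GL (Fin 3) F) : Matrix (Fin 3) (Fin 3) F) = !![0, 0, 1; 0, 1, 0; 1, 0, 0] := rfl

theorem J_mulVec (i : Fin 3) : ((J : GL (Fin 3) F) : Matrix (Fin 3) (Fin 3) F) *ᵥ Pi.single i 1 = Pi.single i.rev 1 := by
  rw [coe_J, mulVec_single_one]
  ext r
  (revert i r; simp only [Fin.rev, Fin.ext_iff, _root_.Fin.forall_fin_succ, _root_.Matrix.col_apply, _root_.Matrix.of_apply, _root_.Matrix.cons_val', _root_.Matrix.cons_val_fin_one, Nat.reduceSubDiff, Fin.isValue, _root_.Matrix.cons_val_zero, _root_.Matrix.cons_val_succ, _root_.Fin.succ_zero_eq_one, _root_.Fin.succ_one_eq_two, _root_.IsEmpty.forall_iff, _root_.and_true, _root_.Fin.coe_ofNat_eq_mod, _root_.Nat.zero_mod, _root_.tsub_zero, Fin.reduceFinMk, _root_.ne_eq, _root_.Nat.mod_succ, _root_.OfNat.zero_ne_ofNat, _root_.not_false_eq_true, _root_.Pi.single_eq_of_ne, _root_.Nat.one_mod,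 _root_.OfNat.one_ne_ofNat, _root_.Pi.single_eq_same, _root_.and_self, _root_.Fin.val_succ, _root_.Fin.mk_one, _root_.zero_ne_one, _root_.OfNat.ofNat_ne_one, _root_.Fin.val_eq_zero, _root_.zero_add, _root_.tsub_self, _root_.Fin.zero_eta, _root_.one_ne_zero, _root_.OfNat.ofNat_ne_zero, _root_.implies_true])

theorem vecMul_J_inv (i : Fin 3) :
    (Pi.single i 1 : Fin 3 → F) ᵥ* ((J⁻¹ : GL (Fin 3) F) : Matrix (Fin 3) (Fin 3) F) = Pi.single i.rev 1 := by
  rw [coe_J_inv, single_one_vecMul]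
  ext r
  (revert i r; simp only [Fin.rev, Fin.ext_iff, _root_.Fin.forall_fin_succ, _root_.Matrix.row_apply, _root_.Matrix.of_apply, _root_.Matrix.cons_val', _root_.Matrix.cons_val_fin_one, Nat.reduceSubDiff, Fin.isValue, _root_.Matrix.cons_val_zero, _root_.Matrix.cons_val_succ, _root_.Fin.succ_zero_eq_one, _root_.Fin.succ_one_eq_two, _root_.IsEmpty.forall_iff, _root_.and_true, _root_.Fin.coe_ofNat_eq_mod, _root_.Nat.zero_mod, _root_.tsub_zero, Fin.reduceFinMk, _root_.ne_eq, _root_.Nat.mod_succ, _root_.OfNat.zero_ne_ofNat, _root_.not_false_eq_true, _root_.Pi.single_eq_of_ne, _root_.Nat.one_mod, _root_.OfNat.one_ne_ofNat, _root_.Pi.single_eq_same, _root_.and_self, _root_.Fin.val_succ, _root_.Fin.mk_one, _root_.zero_ne_one, _root_.OfNat.ofNat_ne_one, _root_.Fin.val_eq_zero, _root_.zero_add, _root_.tsub_self, _root_.Fin.zero_eta, _root_.one_ne_zero, _root_.OfNat.ofNat_ne_zero, _root_.implies_true])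

theorem rev_ne {i j : Fin 3} (h : i ≠ j) : i.rev ≠ j.rev := fun e => h (Fin.rev_injective e)

theorem cj_J {i j : Fin 3} (h : i ≠ j) (s : F) :
    cj J (Matrix.SpecialLinearGroup.transvection h s) = Matrix.SpecialLinearGroup.transvection (rev_ne h) s := by
  apply Subtype.ext
  rw [transvection_eq_tr, cj_tr, transvection_eq_tr, coe_tr, coe_tr, mulVec_smul, J_mulVec, vecMul_J_inv]

/-- The graph automorphism. -/
noncomputable def gr : MulAut (Matrix.ProjectiveSpecialLinearGroup (Fin 3) F) := lift (cj J * itr)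

theorem gr_X' {i j : Fin 3} (h : i ≠ j) (s : F) : gr (X h s) = X (rev_ne h.symm) (-s) := by
  show lift (cj J * itr) (pr _) = _
  rw [lift_pr, MulAut.mul_apply, itr_transvection, cj_J]
  rfl

theorem gr_X [CharP F 2] {i j : Fin 3} (h : i ≠ j) (s : F) : gr (X h s) = X (rev_ne h.symm) s := by
  rw [gr_X', CharTwo.neg_eq]

/-- Field automorphisms. -/
noncomputable def fd : (F ≃+* F) →* MulAut (Matrix.ProjectiveSpecialLinearGroup (Fin 3) F) := lift.comp fld

theorem fd_X (σ : F ≃+* F) {i j : Fin 3} (h : i ≠ j) (s : F) : fd σ (X h s) = X h (σ s) := by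
  show lift (fld σ) (pr _) = _
  rw [lift_pr, fld_transvection]
  rfl

theorem ext_X {β γ : MulAut (Matrix.ProjectiveSpecialLinearGroup (Fin 3) F)}
    (h : ∀ (i j : Fin 3) (hij : i ≠ j) (t : F), β (X hij t) = γ (X hij t)) : β = γ :=
  aut_ext h

theorem gr_mul_gr [CharP F 2] : (gr * gr : MulAut (Matrix.ProjectiveSpecialLinearGroup (Fin 3) F)) = 1 := by
  apply ext_X
  intro i j hij t
  rw [MulAut.mul_apply, gr_X, gr_X, MulAut.one_apply]
  exact X_congr _ (Fin.rev_rev i) (Fin.rev_rev j) _ _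

theorem gr_mul_fd [CharP F 2] (σ : F ≃+* F) : gr * fd σ = fd σ * gr := by
  apply ext_X
  intro i j hij t
  rw [MulAut.mul_apply, MulAut.mul_apply, fd_X, gr_X, gr_X, fd_X]

theorem fd_mul_tor (σ : F ≃+* F) (c : Fin 3 → Fˣ) :
    fd σ * tor c = tor (fun i => Units.map (σ : F →* F) (c i)) * fd σ := by
  apply ext_X
  intro i j hij t
  rw [MulAut.mul_apply, MulAut.mul_apply, fd_X, tor_X, tor_X, fd_X]
  congr 1
  simp only [_root_.map_mul, _root_.map_inv₀, _root_.Units.coe_map, _root_.MonoidHom.coe_coe]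

theorem gr_mul_tor [CharP F 2] (c : Fin 3 → Fˣ) :
    gr * tor c = tor (fun i => (c i.rev)⁻¹) * gr := by
  apply ext_X
  intro i j hij t
  rw [MulAut.mul_apply, MulAut.mul_apply, gr_X, tor_X, tor_X, gr_X]
  congr 1
  simp only [Fin.rev_rev, Units.val_inv_eq_inv_val, inv_inv]
  ring

/-- Field and graph automorphisms. -/
def Psi (F : Type*) [Field F] [CharP F 2] : Subgroup (MulAut (Matrix.ProjectiveSpecialLinearGroup (Fin 3) F)) where
  carrier := {α | ∃ σ : F ≃+* F, α = fd σ ∨ α = fd σ * gr}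
  one_mem' := ⟨1, Or.inl (map_one _).symm⟩
  mul_mem' := by
    rintro _ _ ⟨σ, rfl | rfl⟩ ⟨τ, rfl | rfl⟩
    · exact ⟨σ * τ, Or.inl (map_mul _ _ _).symm⟩
    · exact ⟨σ * τ, Or.inr (by rw [map_mul, mul_assoc])⟩
    · exact ⟨σ * τ, Or.inr (by rw [map_mul, mul_assoc, gr_mul_fd, ← mul_assoc])⟩
    · refine ⟨σ * τ, Or.inl ?_⟩
      rw [mul_assoc, ← mul_assoc gr, gr_mul_fd, mul_assoc (fd τ), gr_mul_gr, mul_one, map_mul]
  inv_mem' := by
    rintro _ ⟨σ, rfl | rfl⟩
    · exact ⟨σ⁻¹, Or.inl (map_inv _ _).symm⟩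
    · refine ⟨σ⁻¹, Or.inr ?_⟩
      rw [_root_.mul_inv_rev, ← map_inv, ← gr_mul_fd]
      congr 1
      exact inv_eq_of_mul_eq_one_left gr_mul_gr

/-! ### The unitriangular group -/

variable [Finite F]

/-- The unitriangular subgroup of `PSL₃(F)`. -/
def Ubar (F : Type*) [Field F] [Finite F] : Subgroup (Matrix.ProjectiveSpecialLinearGroup (Fin 3) F) :=
  (upper 3 F).map pr

theorem X_mem {i j : Fin 3} (h : i < j) (s : F) : X h.ne s ∈ Ubar F := by
  refine ⟨_, ?_, rfl⟩
  rw [SetLike.mem_coe, mem_upper]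
  intro k l hkl
  show ((1 : Matrix (Fin 3) (Fin 3) F) + single i j s) k l = _
  have h1 : ¬ (i = k ∧ j = l) := by
    rintro ⟨rfl, rfl⟩
    exact absurd h (not_lt.2 hkl)
  rw [Matrix.add_apply, one_apply, single_apply, if_neg h1, add_zero]

theorem mem_Ubar (x : Matrix.ProjectiveSpecialLinearGroup (Fin 3) F) :
    x ∈ Ubar F ↔ ∃ r s t : F, x = X (i := 0) (j := 1) (by decide) r * X (i := 1) (j := 2) (by decide) s *
      X (i := 0) (j := 2) (by decide) t := by
  constructor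
  · rintro ⟨g, hg, rfl⟩
    rw [SetLike.mem_coe, mem_upper] at hg
    refine ⟨g.1 0 1, g.1 1 2, g.1 0 2 - g.1 0 1 * g.1 1 2, ?_⟩
    rw [X_eq, X_eq, X_eq, ← map_mul, ← map_mul]
    congr 1
    apply Subtype.ext
    have h00 := hg 0 0 le_rfl
    have h11 := hg 1 1 le_rfl
    have h22 := hg 2 2 le_rfl
    have h10 := hg 1 0 (by decide)
    have h20 := hg 2 0 (by decide)
    have h21 := hg 2 1 (by decide)
    simp only [if_true, Fin.reduceEq, if_false] at h00 h11 h22 h10 h20 h21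
    show g.1 = ((1 : Matrix (Fin 3) (Fin 3) F) + single 0 1 _) * (1 + single 1 2 _) * (1 + single 0 2 _)
    ext k l
    fin_cases k <;> fin_cases l <;>
      simp only [Matrix.mul_apply, Fin.sum_univ_three, single_apply, h00, h11, h22, h10, h20, h21, _root_.Fin.zero_eta, _root_.Fin.isValue, _root_.Matrix.mul_apply, _root_.Matrix.add_apply, _root_.Matrix.single_apply, _root_.true_and, _root_.Fin.sum_univ_three, _root_.Matrix.one_apply_eq, _root_.one_ne_zero, ↓ _root_.reduceIte, _root_.add_zero, _root_.false_and, _root_.one_mul, _root_.ne_eq, _root_.zero_ne_one, _root_.not_false_eq_true, _root_.Matrix.one_apply_ne, _root_.zero_add, _root_.Fin.reduceEq, _root_.MulZeroClass.zero_mul, _root_.and_false, _root_.Matrix.single_apply_of_ne, _root_.MulZeroClass.mul_zero, _root_.mul_one, _root_.Fin.mk_one, _root_.Fin.reduceFinMk, _root_.and_true, _root_.sub_add_cancel]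
    try ring
  · rintro ⟨r, s, t, rfl⟩
    exact mul_mem (mul_mem (X_mem (by decide) r) (X_mem (by decide) s)) (X_mem (by decide) t)

omit [Finite F] in
theorem entry (A B : Matrix (Fin 3) (Fin 3) F) (i j k l : Fin 3) :
    (A * single i j (1 : F) * B) k l = A k i * B j l := by
  rw [Matrix.mul_apply]
  rw [Finset.sum_eq_single j]
  · rw [Matrix.mul_single_apply_same, mul_one]
  · intro b _ hb
    rw [Matrix.mul_single_apply_of_ne _ _ _ _ _ hb, zero_mul]
  · intro h; exact absurd (Finset.mem_univ _) h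

variable [CharP F 2]

theorem strict (A : GL (Fin 3) F) {i j : Fin 3} (hij : i < j) (h : lift (cj A) (X hij.ne 1) ∈ Ubar F)
    {k l : Fin 3} (hlk : l ≤ k) : (A : Matrix (Fin 3) (Fin 3) F) k i * ((A⁻¹ : GL (Fin 3) F) : Matrix _ _ F) j l = 0 := by
  obtain ⟨g, hg, hgA⟩ := h
  rw [X_eq, lift_pr] at hgA
  obtain ⟨c, hc⟩ := exists_smul_of_pr_eq hgA
  have h1 : (cj A (Matrix.SpecialLinearGroup.transvection hij.ne (1 : F)) : Matrix (Fin 3) (Fin 3) F) =
      1 + (A : Matrix (Fin 3) (Fin 3) F) * single i j 1 * ((A⁻¹ : GL (Fin 3) F) : Matrix _ _ F) := by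
    rw [coe_cj]
    show (A : Matrix (Fin 3) (Fin 3) F) * (1 + single i j 1) * _ = _
    rw [Matrix.mul_add, Matrix.add_mul, Matrix.mul_one, ← Units.val_mul, mul_inv_cancel, Units.val_one]
  rw [h1] at hc
  rw [SetLike.mem_coe, mem_upper] at hg
  have h2 := congrArg Matrix.trace hc
  have h3 : Matrix.trace ((A : Matrix (Fin 3) (Fin 3) F) * single i j 1 * ((A⁻¹ : GL (Fin 3) F) : Matrix _ _ F)) = 0 := by
    rw [Matrix.trace_mul_comm, ← Matrix.mul_assoc, ← Units.val_mul, inv_mul_cancel, Units.val_one, Matrix.one_mul,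
      Matrix.trace_single_eq_of_ne _ _ _ hij.ne]
  rw [Matrix.trace_add, h3, add_zero, Matrix.trace_smul, Matrix.trace_one] at h2
  have h4 : Matrix.trace (g : Matrix (Fin 3) (Fin 3) F) = (Fintype.card (Fin 3) : F) := by
    rw [Matrix.trace]
    simp only [Matrix.diag_apply]
    rw [Finset.sum_congr rfl fun k _ => hg k k le_rfl]
    simp
  rw [h4, smul_eq_mul] at h2
  have h5 : (Fintype.card (Fin 3) : F) ≠ 0 := by
    rw [Fintype.card_fin]
    have : ((3 : ℕ) : F) = 1 := by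
      have h6 : ((2 : ℕ) : F) = 0 := CharP.cast_eq_zero F 2
      have h7 : ((3 : ℕ) : F) = ((2 : ℕ) : F) + 1 := by push_cast; norm_num
      rw [h7, h6, zero_add]
    rw [this]
    exact one_ne_zero
  have h6 : c = 1 := by
    have := mul_right_cancel₀ h5 (h2.symm.trans (one_mul _).symm)
    exact this
  rw [h6, one_smul] at hc
  have h7 := congrFun (congrFun hc k) l
  rw [Matrix.add_apply, entry, hg k l hlk, one_apply] at h7
  simpa only [_root_.Matrix.coe_units_inv, _root_.mul_eq_zero, _root_.add_eq_left] using h7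

theorem upper_of (A : GL (Fin 3) F) (h : ∀ (i j : Fin 3) (hij : i < j), lift (cj A) (X hij.ne 1) ∈ Ubar F) :
    (A : Matrix (Fin 3) (Fin 3) F) 1 0 = 0 ∧ (A : Matrix (Fin 3) (Fin 3) F) 2 0 = 0 ∧
      (A : Matrix (Fin 3) (Fin 3) F) 2 1 = 0 := by
  set B : Matrix (Fin 3) (Fin 3) F := ((A⁻¹ : GL (Fin 3) F) : Matrix (Fin 3) (Fin 3) F) with hB
  have key : ∀ (i j : Fin 3), i < j → ∀ (k l : Fin 3), l ≤ k → (A : Matrix (Fin 3) (Fin 3) F) k i * B j l = 0 :=
    fun i j hij k l hlk => strict A hij (h i j hij) hlk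
  have hBA : B * (A : Matrix (Fin 3) (Fin 3) F) = 1 := by
    rw [hB]
    exact A.inv_mul
  have hAB : (A : Matrix (Fin 3) (Fin 3) F) * B = 1 := by
    rw [hB]
    exact A.mul_inv
  have b22 : B 2 0 * (A : Matrix (Fin 3) (Fin 3) F) 0 2 + B 2 1 * (A : Matrix (Fin 3) (Fin 3) F) 1 2 +
      B 2 2 * (A : Matrix (Fin 3) (Fin 3) F) 2 2 = 1 := by
    have := congrFun (congrFun hBA 2) 2
    rwa [Matrix.mul_apply, Fin.sum_univ_three, one_apply, if_pos rfl] at this
  have b11 : B 1 0 * (A : Matrix (Fin 3) (Fin 3) F) 0 1 + B 1 1 * (A : Matrix (Fin 3) (Fin 3) F) 1 1 +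
      B 1 2 * (A : Matrix (Fin 3) (Fin 3) F) 2 1 = 1 := by
    have := congrFun (congrFun hBA 1) 1
    rwa [Matrix.mul_apply, Fin.sum_univ_three, one_apply, if_pos rfl] at this
  have b12 : B 1 0 * (A : Matrix (Fin 3) (Fin 3) F) 0 2 + B 1 1 * (A : Matrix (Fin 3) (Fin 3) F) 1 2 +
      B 1 2 * (A : Matrix (Fin 3) (Fin 3) F) 2 2 = 0 := by
    have := congrFun (congrFun hBA 1) 2
    rwa [Matrix.mul_apply, Fin.sum_univ_three, one_apply, if_neg (by decide)] at this
  have b21 : B 2 0 * (A : Matrix (Fin 3) (Fin 3) F) 0 1 + B 2 1 * (A : Matrix (Fin 3) (Fin 3) F) 1 1 +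
      B 2 2 * (A : Matrix (Fin 3) (Fin 3) F) 2 1 = 0 := by
    have := congrFun (congrFun hBA 2) 1
    rwa [Matrix.mul_apply, Fin.sum_univ_three, one_apply, if_neg (by decide)] at this
  have a20 : (A : Matrix (Fin 3) (Fin 3) F) 2 0 = 0 := by
    by_contra h0
    have h1 : ∀ l, B 2 l = 0 := fun l =>
      (mul_eq_zero.1 (key 0 2 (by decide) 2 l (Fin.le_last l))).resolve_left h0
    rw [h1, h1, h1] at b22
    simp at b22
  have a10 : (A : Matrix (Fin 3) (Fin 3) F) 1 0 = 0 := by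
    by_contra h0
    have h1 : ∀ l : Fin 3, l ≤ 1 → B 1 l = 0 := fun l hl =>
      (mul_eq_zero.1 (key 0 1 (by decide) 1 l hl)).resolve_left h0
    have h2 : ∀ l : Fin 3, l ≤ 1 → B 2 l = 0 := fun l hl =>
      (mul_eq_zero.1 (key 0 2 (by decide) 1 l hl)).resolve_left h0
    rw [h1 0 (by decide), h1 1 le_rfl] at b11 b12
    rw [h2 0 (by decide), h2 1 le_rfl] at b21 b22
    simp only [zero_mul, zero_add] at b11 b12 b21 b22
    have h3 : B 1 2 ≠ 0 := by
      intro e; rw [e, zero_mul] at b11; exact zero_ne_one b11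
    have h4 : (A : Matrix (Fin 3) (Fin 3) F) 2 2 = 0 := (mul_eq_zero.1 b12).resolve_left h3
    rw [h4, mul_zero] at b22
    exact zero_ne_one b22
  refine ⟨a10, a20, ?_⟩
  by_contra h0
  have h1 : ∀ l, B 2 l = 0 := fun l =>
    (mul_eq_zero.1 (key 1 2 (by decide) 2 l (Fin.le_last l))).resolve_left h0
  rw [h1, h1, h1] at b22
  simp at b22

/-! ### The normaliser of the unitriangular group -/

omit [Finite F] [CharP F 2] in
theorem cJ_X {i j : Fin 3} (h : i ≠ j) (s : F) : lift (cj J) (X h s) = X (rev_ne h) s := by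
  rw [X_eq, lift_pr, cj_J]
  rfl

omit [Finite F] [CharP F 2] in
theorem cJ_mul_fd (σ : F ≃+* F) : lift (cj J) * fd σ = fd σ * lift (cj J) := by
  apply ext_X
  intro i j hij t
  rw [MulAut.mul_apply, MulAut.mul_apply, fd_X, cJ_X, cJ_X, fd_X]

omit [CharP F 2] in
theorem exists_decomp (A : GL (Fin 3) F) (h10 : (A : Matrix (Fin 3) (Fin 3) F) 1 0 = 0)
    (h20 : (A : Matrix (Fin 3) (Fin 3) F) 2 0 = 0) (h21 : (A : Matrix (Fin 3) (Fin 3) F) 2 1 = 0) :
    ∃ u ∈ Ubar F, ∃ d : Fin 3 → Fˣ, lift (cj A) = MulAut.conj u * tor d := by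
  have hdet : (A : Matrix (Fin 3) (Fin 3) F).det ≠ 0 := by
    have h1 : IsUnit (A : Matrix (Fin 3) (Fin 3) F).det := (Matrix.isUnit_iff_isUnit_det _).1 A.isUnit
    exact h1.ne_zero
  rw [Matrix.det_fin_three, h10, h20, h21] at hdet
  have hd : ∀ i, (A : Matrix (Fin 3) (Fin 3) F) i i ≠ 0 := by
    intro i hi
    apply hdet
    fin_cases i
    · simp only [Fin.zero_eta] at hi; rw [hi]; ring
    · simp only [Fin.mk_one] at hi; rw [hi]; ring
    · have hi' : (A : Matrix (Fin 3) (Fin 3) F) 2 2 = 0 := hi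
      rw [hi']; ring
  set a := (A : Matrix (Fin 3) (Fin 3) F) with ha
  let um : Matrix (Fin 3) (Fin 3) F := !![1, a 0 1 * (a 1 1)⁻¹, a 0 2 * (a 2 2)⁻¹; 0, 1, a 1 2 * (a 2 2)⁻¹; 0, 0, 1]
  have hum : um.det = 1 := by
    rw [Matrix.det_fin_three]
    simp only [um, _root_.Fin.isValue, _root_.Matrix.of_apply, _root_.Matrix.cons_val', _root_.Matrix.cons_val_zero, _root_.Matrix.cons_val_fin_one, _root_.Matrix.cons_val_one, _root_.mul_one, _root_.Matrix.cons_val, _root_.one_mul, _root_.MulZeroClass.mul_zero, _root_.sub_zero, _root_.add_zero]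
  let u : Matrix.SpecialLinearGroup (Fin 3) F := ⟨um, hum⟩
  have hu : u ∈ upper 3 F := by
    rw [mem_upper]
    intro i j hij
    show um i j = _
    fin_cases i <;> fin_cases j <;> simp_all only [um, _root_.Fin.isValue, _root_.MulZeroClass.mul_zero, _root_.sub_zero, _root_.MulZeroClass.zero_mul, _root_.add_zero, _root_.ne_eq, _root_.mul_eq_zero, _root_.not_or, _root_.Fin.zero_eta, _root_.Std.le_refl, _root_.Matrix.of_apply, _root_.Matrix.cons_val', _root_.Matrix.cons_val_zero, _root_.Matrix.cons_val_fin_one, ↓ _root_.reduceIte, _root_.Fin.mk_one, _root_.nonpos_iff_eq_zero, _root_.one_ne_zero, _root_.Fin.reduceFinMk, _root_.Fin.reduceEq, _root_.zero_le, _root_.Matrix.cons_val_one, _root_.Fin.reduceLE, _root_.Matrix.cons_val]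
  refine ⟨pr u, ⟨u, hu, rfl⟩, fun i => Units.mk0 (a i i) (hd i), ?_⟩
  have h1 : a = um * diagonal (fun i => a i i) := by
    ext i j
    rw [Matrix.mul_diagonal]
    have := hd 0
    have := hd 1
    have := hd 2
    fin_cases i <;> fin_cases j <;> simp_all only [um, _root_.Fin.isValue, _root_.MulZeroClass.mul_zero, _root_.sub_zero, _root_.MulZeroClass.zero_mul, _root_.add_zero, _root_.ne_eq, _root_.mul_eq_zero, _root_.not_or, _root_.not_false_eq_true, _root_.Fin.zero_eta, _root_.Matrix.of_apply, _root_.Matrix.cons_val', _root_.Matrix.cons_val_zero, _root_.Matrix.cons_val_fin_one, _root_.one_mul, _root_.Fin.mk_one, _root_.Matrix.cons_val_one, _root_.inv_mul_cancel_right₀, _root_.Fin.reduceFinMk, _root_.Matrix.cons_val]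
  have h2 : cj A = MulAut.conj u * cj (dg (fun i => a i i) hd) := by
    obtain ⟨D, hD⟩ : ∃ D : GL (Fin 3) F, D = dg (fun i => a i i) hd := ⟨_, rfl⟩
    have hDc : (D : Matrix (Fin 3) (Fin 3) F) = diagonal (fun i => a i i) := by rw [hD]; rfl
    rw [← hD]
    have h9 : (A : Matrix (Fin 3) (Fin 3) F) = (u : Matrix (Fin 3) (Fin 3) F) * (D : Matrix (Fin 3) (Fin 3) F) := by
      rw [hDc]; exact h1
    have h6 : (u : Matrix (Fin 3) (Fin 3) F) * ((u⁻¹ : Matrix.SpecialLinearGroup (Fin 3) F) : Matrix (Fin 3) (Fin 3) F) = 1 := by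
      rw [← Matrix.SpecialLinearGroup.coe_mul, mul_inv_cancel, Matrix.SpecialLinearGroup.coe_one]
    have h5 : (D : Matrix (Fin 3) (Fin 3) F) * ((D⁻¹ : GL (Fin 3) F) : Matrix (Fin 3) (Fin 3) F) = 1 := D.mul_inv
    have h8 : ((A⁻¹ : GL (Fin 3) F) : Matrix (Fin 3) (Fin 3) F) * (A : Matrix (Fin 3) (Fin 3) F) = 1 := A.inv_mul
    have h3 : ((A⁻¹ : GL (Fin 3) F) : Matrix (Fin 3) (Fin 3) F) =
        ((D⁻¹ : GL (Fin 3) F) : Matrix (Fin 3) (Fin 3) F) *
          ((u⁻¹ : Matrix.SpecialLinearGroup (Fin 3) F) : Matrix (Fin 3) (Fin 3) F) := by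
      have h4 : (A : Matrix (Fin 3) (Fin 3) F) * (((D⁻¹ : GL (Fin 3) F) : Matrix (Fin 3) (Fin 3) F) *
          ((u⁻¹ : Matrix.SpecialLinearGroup (Fin 3) F) : Matrix (Fin 3) (Fin 3) F)) = 1 := by
        rw [h9, ← Matrix.mul_assoc, Matrix.mul_assoc (u : Matrix (Fin 3) (Fin 3) F), h5, Matrix.mul_one, h6]
      have h7 := congrArg (fun M => ((A⁻¹ : GL (Fin 3) F) : Matrix (Fin 3) (Fin 3) F) * M) h4
      simp only [Matrix.mul_one] at h7
      rw [← Matrix.mul_assoc, h8, Matrix.one_mul] at h7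
      exact h7.symm
    apply MulEquiv.ext
    intro g
    apply Subtype.ext
    rw [MulAut.mul_apply, MulAut.conj_apply, Matrix.SpecialLinearGroup.coe_mul, Matrix.SpecialLinearGroup.coe_mul,
      coe_cj, coe_cj, h3, h9]
    simp only [Matrix.mul_assoc]
  have h3 : lift (MulAut.conj u) = MulAut.conj (pr u) := by
    apply MulEquiv.ext
    intro x
    obtain ⟨x, rfl⟩ := pr_surjective x
    rw [lift_pr, MulAut.conj_apply, MulAut.conj_apply, map_mul, map_mul, map_inv]
  rw [h2, map_mul, h3]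
  rfl

/-- The stabiliser of the unitriangular group in the automorphism group. -/
theorem exists_triple (α : MulAut (Matrix.ProjectiveSpecialLinearGroup (Fin 3) F))
    (h : ∀ x ∈ Ubar F, α x ∈ Ubar F) :
    ∃ u ∈ Ubar F, ∃ d : Fin 3 → Fˣ, ∃ p ∈ Psi F, α = MulAut.conj u * tor d * p := by
  have : Fact (Nat.Prime 2) := ⟨Nat.prime_two⟩
  have := Fintype.ofFinite F
  have key : ∃ (A : GL (Fin 3) F), ∃ p ∈ Psi F, α = lift (cj A) * p := by
    rcases surj_three 2 le_rfl α with ⟨A, σ, hA⟩ | ⟨A, σ, hA⟩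
    · exact ⟨A, fd σ, ⟨σ, Or.inl rfl⟩, by rw [hA, map_mul]; rfl⟩
    · refine ⟨A * J⁻¹, fd σ * gr, ⟨σ, Or.inr rfl⟩, ?_⟩
      rw [hA, map_mul, map_mul, map_mul, map_mul, map_inv, map_inv]
      have h1 : (gr : MulAut (Matrix.ProjectiveSpecialLinearGroup (Fin 3) F)) = lift (cj J) * lift itr := by
        rw [gr, map_mul]
      rw [h1]
      have h2 := cJ_mul_fd (F := F) σ
      show lift (cj A) * fd σ * lift itr = _
      have h3 : (lift (cj J))⁻¹ * (fd σ * (lift (cj J) * lift itr)) = fd σ * lift itr := by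
        rw [← mul_assoc (fd σ), ← h2, mul_assoc, inv_mul_cancel_left]
      rw [mul_assoc (lift (cj A)) (lift (cj J))⁻¹, h3, mul_assoc]
  obtain ⟨A, p, hp, hA⟩ := key
  have hpinv : ∀ (i j : Fin 3) (hij : i < j), ∃ (k l : Fin 3) (hkl : k < l), p (X hkl.ne 1) = X hij.ne (1 : F) := by
    intro i j hij
    obtain ⟨σ, rfl | rfl⟩ := hp
    · exact ⟨i, j, hij, by rw [fd_X, map_one]⟩
    · refine ⟨j.rev, i.rev, Fin.rev_lt_rev.2 hij, ?_⟩
      rw [MulAut.mul_apply, gr_X, fd_X, map_one]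
      exact X_congr _ (Fin.rev_rev i) (Fin.rev_rev j) _ _
  have h1 : ∀ (i j : Fin 3) (hij : i < j), lift (cj A) (X hij.ne 1) ∈ Ubar F := by
    intro i j hij
    obtain ⟨k, l, hkl, hp'⟩ := hpinv i j hij
    rw [← hp', ← MulAut.mul_apply, ← hA]
    exact h _ (X_mem hkl 1)
  obtain ⟨h10, h20, h21⟩ := upper_of A h1
  obtain ⟨u, hu, d, hd⟩ := exists_decomp A h10 h20 h21
  exact ⟨u, hu, d, p, hp, by rw [hA, hd]⟩

/-- **Frames adapted to a 2-group of automorphisms of `PSL₃(F)`.** -/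
theorem exists_frame (D : Subgroup (MulAut (Matrix.ProjectiveSpecialLinearGroup (Fin 3) F))) (hD : IsPGroup 2 D)
    (hDU : ∀ d ∈ D, ∀ x ∈ Ubar F, d x ∈ Ubar F) :
    ∃ c : Fin 3 → Fˣ, ∀ d ∈ D, ∃ u ∈ Ubar F, ∃ p ∈ Psi F, (∃ k, p ^ 2 ^ k = 1) ∧
      d = MulAut.conj u * (tor c * p * (tor c)⁻¹) := by
  have : Fact (Nat.Prime 2) := ⟨Nat.prime_two⟩
  have := Fintype.ofFinite F
  have hfin : Finite (Matrix.ProjectiveSpecialLinearGroup (Fin 3) F) := inferInstance
  have hfin' : Finite (MulAut (Matrix.ProjectiveSpecialLinearGroup (Fin 3) F)) := inferInstance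
  have hV : IsPGroup 2 ((Ubar F).map (MulAut.conj (G := Matrix.ProjectiveSpecialLinearGroup (Fin 3) F))) := by
    apply IsPGroup.map
    obtain ⟨S, hS⟩ := exists_sylow (F := F) 3 2
    show IsPGroup 2 ((upper 3 F).map pr)
    rw [← hS]
    exact S.isPGroup'
  have hT : Odd (Nat.card (tor (F := F)).range) := by
    have h1 : Nat.card (tor (F := F)).range ∣ Nat.card (Fin 3 → Fˣ) := Subgroup.card_range_dvd _
    have h2 : Odd (Nat.card (Fin 3 → Fˣ)) := by
      rw [Nat.card_fun, Nat.card_eq_fintype_card (α := Fin 3), Fintype.card_fin]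
      apply Odd.pow
      rw [Nat.card_units]
      obtain ⟨n, hn, hn'⟩ := FiniteField.card F 2
      rw [Nat.card_eq_fintype_card, hn']
      have h3 : Even (2 ^ (n : ℕ)) := (Nat.even_pow.2 ⟨even_two, n.ne_zero⟩)
      exact Nat.Even.sub_odd (Nat.one_le_two_pow) h3 odd_one
    exact Odd.of_dvd_nat h2 h1
  have hVsub : ∀ α : MulAut (Matrix.ProjectiveSpecialLinearGroup (Fin 3) F), (∀ x ∈ Ubar F, α x ∈ Ubar F) →
      ∀ v ∈ (Ubar F).map MulAut.conj, α * v * α⁻¹ ∈ (Ubar F).map MulAut.conj := by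
    rintro α hα _ ⟨u, hu, rfl⟩
    refine ⟨α u, hα u hu, ?_⟩
    apply MulEquiv.ext
    intro x
    rw [MulAut.mul_apply, MulAut.mul_apply, MulAut.conj_apply, MulAut.conj_apply, map_mul, map_mul, map_inv,
      MulAut.apply_inv_self]
  have hsub : ∀ α : MulAut (Matrix.ProjectiveSpecialLinearGroup (Fin 3) F),
      (∀ (i j : Fin 3) (hij : i < j) (s : F), α (X hij.ne s) ∈ Ubar F) → ∀ x ∈ Ubar F, α x ∈ Ubar F := by
    intro α hα x hx
    obtain ⟨r, s, t, rfl⟩ := (mem_Ubar x).1 hx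
    rw [map_mul, map_mul]
    exact mul_mem (mul_mem (hα 0 1 (by decide) r) (hα 1 2 (by decide) s)) (hα 0 2 (by decide) t)
  have hΨU : ∀ p ∈ Psi F, ∀ x ∈ Ubar F, p x ∈ Ubar F := by
    rintro _ ⟨σ, rfl | rfl⟩
    · apply hsub
      intro i j hij s
      rw [fd_X]
      exact X_mem hij _
    · apply hsub
      intro i j hij s
      rw [MulAut.mul_apply, gr_X, fd_X]
      exact X_mem (Fin.rev_lt_rev.2 hij) _
  obtain ⟨t, ⟨c, rfl⟩, ht⟩ := OutSylow.exists_conj ((Ubar F).map MulAut.conj) (tor (F := F)).range (Psi F) hV hT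
    (by
      rintro _ ⟨c, rfl⟩
      apply hVsub
      apply hsub
      intro i j hij s
      rw [tor_X]
      exact X_mem hij _)
    (fun p hp => hVsub p (hΨU p hp))
    (by
      rintro _ ⟨σ, rfl | rfl⟩ _ ⟨c, rfl⟩
      · exact ⟨_, (by rw [fd_mul_tor, mul_inv_cancel_right] : fd σ * tor c * (fd σ)⁻¹ = tor _).symm⟩
      · have h1 : fd σ * gr * tor c * (fd σ * gr)⁻¹ =
            tor (fun i => Units.map (σ : F →* F) ((c i.rev)⁻¹)) := by
          rw [mul_assoc (fd σ), gr_mul_tor, ← mul_assoc, fd_mul_tor]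
          group
        exact ⟨_, h1.symm⟩)
    (by
      have hc : ∀ σ τ : F ≃+* F, fd σ * fd τ = fd τ * fd σ := by
        intro σ τ
        rw [← map_mul, ← map_mul]
        congr 1
        exact Cfsg.Agent.Lib.AutSL2Out.ringEquiv_comm σ τ
      rintro _ ⟨σ, rfl | rfl⟩ _ ⟨τ, rfl | rfl⟩
      · exact hc σ τ
      · rw [← mul_assoc, hc, mul_assoc, mul_assoc, gr_mul_fd]
      · rw [mul_assoc, gr_mul_fd, ← mul_assoc, hc, mul_assoc]
      · rw [mul_assoc, ← mul_assoc gr, gr_mul_fd, mul_assoc (fd τ), ← mul_assoc (fd σ), hc, mul_assoc (fd τ) gr,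
          ← mul_assoc gr (fd σ), gr_mul_fd, mul_assoc (fd τ)]
        simp only [mul_assoc])
    D hD (by
      intro d hd
      obtain ⟨u, hu, c, p, hp, h⟩ := exists_triple d (hDU d hd)
      exact ⟨_, ⟨u, hu, rfl⟩, _, ⟨c, rfl⟩, p, hp, h⟩)
  refine ⟨c, fun d hd => ?_⟩
  obtain ⟨_, ⟨u, hu, rfl⟩, p, hp, hk, h⟩ := ht d hd
  exact ⟨u, hu, p, hp, hk, h⟩

end Cfsg.Agent.StdRank2.OutL3
end

-- part: StdRank2/ModelL3
section
/-!
# Explicit calculations in `SL 3 F`, `F` of characteristic 2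

Relations between the elementary matrices, monomial matrices, the Borel subgroup, and the statement that
the normaliser of a root group is a Borel subgroup.
-/

set_option autoImplicit false
set_option linter.unusedSimpArgs false

namespace Cfsg.Agent.StdRank2.ModelL3

open Matrix
open Matrix.SpecialLinearGroup (transvection)
open Cfsg.Agent.ClassicalGeometry.AutPSL.Root
open Cfsg.Agent.ClassicalGeometry.AutPSL.SylowU

section General

variable {ι F : Type*} [Fintype ι] [DecidableEq ι] [Field F]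

theorem coe_transvection {i j : ι} (h : i ≠ j) (s : F) :
    (transvection h s : Matrix ι ι F) = 1 + single i j s := rfl

theorem tv_comm {i j k l : ι} (hij : i ≠ j) (hkl : k ≠ l) (hjk : j ≠ k) (hil : i ≠ l) (s t : F) :
    transvection hij s * transvection hkl t = transvection hkl t * transvection hij s := by
  apply Subtype.ext
  simp only [Matrix.SpecialLinearGroup.coe_mul, coe_transvection, mul_add, add_mul, mul_one,
    one_mul, single_mul_single_of_ne _ _ _ _ hjk, single_mul_single_of_ne _ _ _ _ hil.symm,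
    add_zero]
  abel

theorem tv_mul {i j k : ι} (hij : i ≠ j) (hjk : j ≠ k) (hik : i ≠ k) (s t : F) :
    transvection hij s * transvection hjk t
      = transvection hik (s * t) * (transvection hjk t * transvection hij s) := by
  apply Subtype.ext
  simp only [Matrix.SpecialLinearGroup.coe_mul, coe_transvection, mul_add, add_mul, mul_one,
    one_mul, single_mul_single_same, single_mul_single_of_ne _ _ _ _ hik.symm,
    single_mul_single_of_ne _ _ _ _ hjk.symm, single_mul_single_of_ne _ _ _ _ hij.symm, add_zero,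
    zero_mul, mul_zero]
  abel

theorem tv_conj {i j k : ι} (hij : i ≠ j) (hjk : j ≠ k) (hik : i ≠ k) (s t : F) :
    transvection hij s * transvection hjk t * (transvection hij s)⁻¹
      = transvection hik (s * t) * transvection hjk t := by
  rw [tv_mul hij hjk hik, mul_assoc, mul_assoc, mul_inv_cancel, mul_one]

theorem tv_conj' {i j k : ι} (hij : i ≠ j) (hjk : j ≠ k) (hik : i ≠ k) (s t : F) :
    transvection hjk t * transvection hij s * (transvection hjk t)⁻¹
      = transvection hik (-(s * t)) * transvection hij s := by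
  have h := tv_mul hij hjk hik s t
  have h1 : transvection hjk t * transvection hij s
      = (transvection hik (s * t))⁻¹ * (transvection hij s * transvection hjk t) := by
    rw [h, inv_mul_cancel_left]
  rw [h1, Matrix.SpecialLinearGroup.transvection_inv hik]
  simp only [mul_assoc, mul_inv_cancel, mul_one]

/-- Conjugation by a monomial matrix. -/
theorem conj_of_mono {M : Matrix.SpecialLinearGroup ι F} {σ : Equiv.Perm ι} {c : ι → F}
    (hM : ∀ a b, (M : Matrix ι ι F) a b = if a = σ b then c b else 0) (hc : ∀ a, c a ≠ 0)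
    {i j : ι} (hij : i ≠ j) (s : F) :
    M * transvection hij s * M⁻¹ = transvection (σ.injective.ne hij) (c i * s * (c j)⁻¹) := by
  rw [mul_inv_eq_iff_eq_mul]
  apply Subtype.ext
  rw [Matrix.SpecialLinearGroup.coe_mul, Matrix.SpecialLinearGroup.coe_mul, coe_transvection,
    coe_transvection, mul_add, add_mul, mul_one, one_mul]
  congr 1
  ext a b
  rw [Matrix.mul_apply, Matrix.mul_apply, Finset.sum_eq_single i, Finset.sum_eq_single (σ j)]
  · rw [hM, hM, single_apply, single_apply]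
    by_cases h1 : a = σ i
    · subst h1
      by_cases h2 : j = b
      · subst h2
        simp [hc]
      · have h3 : σ j ≠ σ b := fun h => h2 (σ.injective h)
        simp [h2, h3]
    · have h3 : ¬ (σ i = a ∧ σ j = σ j) := fun h => h1 h.1.symm
      rw [if_neg h1, if_neg h3, zero_mul, zero_mul]
  · intro k _ hk
    rw [single_apply, if_neg (fun h => hk h.2.symm), zero_mul]
  · intro h
    exact absurd (Finset.mem_univ _) h
  · intro k _ hk
    rw [single_apply, if_neg (fun h => hk h.1.symm), mul_zero]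
  · intro h
    exact absurd (Finset.mem_univ _) h

end General

theorem exists_third : ∀ i j : Fin 3, ∃ k : Fin 3, k ≠ i ∧ k ≠ j := by decide

variable {F : Type*} [Field F]

/-- Diagonal matrices in `SL 3`. -/
def dg (c : Fin 3 → F) (h : c 0 * c 1 * c 2 = 1) : Matrix.SpecialLinearGroup (Fin 3) F :=
  ⟨diagonal c, by rw [det_diagonal, Fin.prod_univ_three, h]⟩

theorem ne_zero_of_prod {c : Fin 3 → F} (h : c 0 * c 1 * c 2 = 1) (i : Fin 3) : c i ≠ 0 := by
  intro h0
  have h1 : c 0 * c 1 * c 2 = 0 := by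
    fin_cases i
    · have : c 0 = 0 := h0
      rw [this, zero_mul, zero_mul]
    · have : c 1 = 0 := h0
      rw [this, mul_zero, zero_mul]
    · have : c 2 = 0 := h0
      rw [this, mul_zero]
  rw [h] at h1
  exact one_ne_zero h1

theorem dg_apply (c : Fin 3 → F) (h : c 0 * c 1 * c 2 = 1) (a b : Fin 3) :
    (dg c h : Matrix (Fin 3) (Fin 3) F) a b = if a = (1 : Equiv.Perm (Fin 3)) b then c b else 0 := by
  change diagonal c a b = _
  rw [diagonal_apply, Equiv.Perm.one_apply]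
  by_cases hab : a = b
  · subst hab; simp
  · simp [hab]

theorem dg_conj (c : Fin 3 → F) (h : c 0 * c 1 * c 2 = 1) {i j : Fin 3} (hij : i ≠ j) (s : F) :
    dg c h * transvection hij s * (dg c h)⁻¹ = transvection hij (c i * s * (c j)⁻¹) :=
  conj_of_mono (dg_apply c h) (ne_zero_of_prod h) hij s

theorem dg_mul (c d : Fin 3 → F) (h : c 0 * c 1 * c 2 = 1) (h' : d 0 * d 1 * d 2 = 1) :
    dg c h * dg d h' = dg (fun i => c i * d i)
      (by rw [show c 0 * d 0 * (c 1 * d 1) * (c 2 * d 2) = (c 0 * c 1 * c 2) * (d 0 * d 1 * d 2) by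
        ring, h, h', one_mul]) := by
  apply Subtype.ext
  exact diagonal_mul_diagonal _ _

theorem dg_one : dg (fun _ : Fin 3 => (1 : F)) (by norm_num) = 1 := by
  apply Subtype.ext
  exact diagonal_one

/-- The Weyl elements in characteristic 2. -/
def wl {i j : Fin 3} (h : i ≠ j) (u : F) : Matrix.SpecialLinearGroup (Fin 3) F :=
  transvection h u * transvection h.symm u⁻¹ * transvection h u

theorem wl_apply [CharP F 2] {i j : Fin 3} (h : i ≠ j) {u : F} (hu : u ≠ 0) (a b : Fin 3) :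
    (wl h u : Matrix (Fin 3) (Fin 3) F) a b
      = if a = (Equiv.swap i j) b then (if b = i then u⁻¹ else if b = j then u else 1) else 0 := by
  have h2 : (1 : F) + 1 = 0 := by
    have := CharTwo.add_self_eq_zero (1 : F)
    exact this
  have h2' : u + u = 0 := CharTwo.add_self_eq_zero u
  change ((1 + single i j u) * (1 + single j i u⁻¹) * (1 + single i j u) :
    Matrix (Fin 3) (Fin 3) F) a b = _
  have e1 : ((1 + single i j u) * (1 + single j i u⁻¹) * (1 + single i j u) :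
      Matrix (Fin 3) (Fin 3) F)
      = 1 + single i i 1 + single j j 1 + single j i u⁻¹ + single i j (u + u + u) := by
    simp only [mul_add, add_mul, mul_one, one_mul, single_mul_single_same,
      single_mul_single_of_ne _ _ _ _ h, single_mul_single_of_ne _ _ _ _ h.symm,
      mul_inv_cancel₀ hu, inv_mul_cancel₀ hu, add_zero, zero_mul, single_add]
    abel
  rw [e1, h2', zero_add]
  simp only [Matrix.add_apply, Matrix.one_apply, single_apply]
  by_cases hbi : b = i
  · subst hbi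
    rw [Equiv.swap_apply_left, if_pos rfl]
    by_cases haj : a = j
    · subst haj
      simp [h, h.symm]
    · by_cases hab : a = b
      · subst hab
        simp [haj, Ne.symm haj, h, h2, h.symm]
      · simp [hab, haj, Ne.symm hab, Ne.symm haj, h.symm]
  · by_cases hbj : b = j
    · subst hbj
      rw [Equiv.swap_apply_right, if_neg hbi, if_pos rfl]
      by_cases hai : a = i
      · subst hai
        simp [h, h.symm]
      · by_cases hab : a = b
        · subst hab
          simp [hai, Ne.symm hai, h, h2]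
        · simp [hab, hai, Ne.symm hab, Ne.symm hai, h]
    · rw [Equiv.swap_apply_of_ne_of_ne hbi hbj, if_neg hbi, if_neg hbj]
      simp [Ne.symm hbi, Ne.symm hbj]

theorem wl_conj [CharP F 2] {i j : Fin 3} (h : i ≠ j) {k l : Fin 3} (hkl : k ≠ l) (s : F) :
    wl h (1 : F) * transvection hkl s * (wl h 1)⁻¹
      = transvection ((Equiv.swap i j).injective.ne hkl) s := by
  have hM : ∀ a b, (wl h (1 : F) : Matrix (Fin 3) (Fin 3) F) a b
      = if a = (Equiv.swap i j) b then (fun _ => (1 : F)) b else 0 := by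
    intro a b
    rw [wl_apply h one_ne_zero]
    simp
  have := conj_of_mono hM (fun _ => one_ne_zero) hkl s
  rw [this]
  congr 1
  simp

/-- An element whose conjugate of a root element lies in the same root group, up to the centre, is
upper triangular with respect to the order `i < k < j`. -/
theorem entries_of_conj {i j : Fin 3} (hij : i ≠ j) {s t : F} (hs : s ≠ 0)
    {M : Matrix.SpecialLinearGroup (Fin 3) F}
    (h : pr (M * transvection hij s * M⁻¹) = pr (transvection hij t)) :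
    (∀ k, k ≠ i → (M : Matrix (Fin 3) (Fin 3) F) k i = 0) ∧
      (∀ k, k ≠ j → (M : Matrix (Fin 3) (Fin 3) F) j k = 0) ∧
      (M : Matrix (Fin 3) (Fin 3) F) i i * s = t * (M : Matrix (Fin 3) (Fin 3) F) j j := by
  obtain ⟨c, hc⟩ := exists_smul_of_pr_eq h
  -- c • (M T M⁻¹) = T'
  have h1 : (transvection hij t : Matrix (Fin 3) (Fin 3) F) * M
      = c • ((M : Matrix (Fin 3) (Fin 3) F) * transvection hij s) := by
    rw [hc, smul_mul_assoc]
    congr 1
    rw [← Matrix.SpecialLinearGroup.coe_mul, ← Matrix.SpecialLinearGroup.coe_mul,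
      inv_mul_cancel_right]
  rw [coe_transvection, coe_transvection, mul_add, add_mul, mul_one, one_mul] at h1
  have hdet : c ^ 3 = 1 := by
    have := congrArg Matrix.det hc
    rw [det_smul, Matrix.SpecialLinearGroup.det_coe, Matrix.SpecialLinearGroup.det_coe,
      Fintype.card_fin, mul_one] at this
    exact this.symm
  -- entries
  have hent : ∀ a b, (M : Matrix (Fin 3) (Fin 3) F) a b
      + (if a = i then t * (M : Matrix (Fin 3) (Fin 3) F) j b else 0)
      = c * ((M : Matrix (Fin 3) (Fin 3) F) a b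
        + (if b = j then (M : Matrix (Fin 3) (Fin 3) F) a i * s else 0)) := by
    intro a b
    have h2 := congrFun (congrFun h1 a) b
    rw [Matrix.smul_apply, Matrix.add_apply, Matrix.add_apply, smul_eq_mul] at h2
    have e1 : (single i j t * (M : Matrix (Fin 3) (Fin 3) F)) a b
        = if a = i then t * (M : Matrix (Fin 3) (Fin 3) F) j b else 0 := by
      rw [Matrix.mul_apply, Finset.sum_eq_single j]
      · rw [single_apply]
        by_cases ha : a = i
        · subst ha; simp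
        · simp [ha, Ne.symm ha]
      · intro k _ hk
        rw [single_apply, if_neg (fun h => hk h.2.symm), zero_mul]
      · intro h; exact absurd (Finset.mem_univ _) h
    have e2 : ((M : Matrix (Fin 3) (Fin 3) F) * single i j s) a b
        = if b = j then (M : Matrix (Fin 3) (Fin 3) F) a i * s else 0 := by
      rw [Matrix.mul_apply, Finset.sum_eq_single i]
      · rw [single_apply]
        by_cases hb : b = j
        · subst hb; simp
        · simp [hb, Ne.symm hb]
      · intro k _ hk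
        rw [single_apply, if_neg (fun h => hk h.1.symm), mul_zero]
      · intro h; exact absurd (Finset.mem_univ _) h
    rw [e1, e2] at h2
    exact h2
  -- c = 1
  have hc1 : c = 1 := by
    by_contra hc1
    -- row a ≠ i, column b ≠ j: M a b = c * M a b hence M a b = 0
    have hz : ∀ a b, a ≠ i → b ≠ j → (M : Matrix (Fin 3) (Fin 3) F) a b = 0 := by
      intro a b ha hb
      have h3 := hent a b
      rw [if_neg ha, if_neg hb, add_zero] at h3
      have h4 : (1 - c) * (M : Matrix (Fin 3) (Fin 3) F) a b = 0 := by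
        rw [sub_mul, one_mul, sub_eq_zero]
        exact h3
      rcases mul_eq_zero.1 h4 with h5 | h5
      · exact absurd (sub_eq_zero.1 h5).symm hc1
      · exact h5
    -- then rank ≤ 2
    obtain ⟨k, hki, hkj⟩ := exists_third i j
    have hdetM : (M : Matrix (Fin 3) (Fin 3) F).det = 1 := Matrix.SpecialLinearGroup.det_coe M
    -- rows j and k are both multiples of e_j
    have hrow : ∀ a, a ≠ i → (M : Matrix (Fin 3) (Fin 3) F) a
        = ((M : Matrix (Fin 3) (Fin 3) F) a j) • Pi.single j (1 : F) := by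
      intro a ha
      funext b
      by_cases hb : b = j
      · subst hb; simp
      · rw [hz a b ha hb, Pi.smul_apply, Pi.single_eq_of_ne hb, smul_zero]
    have hjne : (M : Matrix (Fin 3) (Fin 3) F) j j ≠ 0 := by
      intro h0
      have h5 : (M : Matrix (Fin 3) (Fin 3) F) j = 0 := by
        rw [hrow j hij.symm, h0, zero_smul]
      have := Matrix.det_eq_zero_of_row_eq_zero (A := (M : Matrix (Fin 3) (Fin 3) F)) j
        (fun b => congrFun h5 b)
      rw [hdetM] at this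
      exact one_ne_zero this
    have h6 : ((M : Matrix (Fin 3) (Fin 3) F).updateRow k
        ((M : Matrix (Fin 3) (Fin 3) F) k
          + (-((M : Matrix (Fin 3) (Fin 3) F) k j / (M : Matrix (Fin 3) (Fin 3) F) j j)) •
            (M : Matrix (Fin 3) (Fin 3) F) j)).det = (M : Matrix (Fin 3) (Fin 3) F).det :=
      Matrix.det_updateRow_add_smul_self _ hkj _
    have h7 : (M : Matrix (Fin 3) (Fin 3) F) k
          + (-((M : Matrix (Fin 3) (Fin 3) F) k j / (M : Matrix (Fin 3) (Fin 3) F) j j)) •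
            (M : Matrix (Fin 3) (Fin 3) F) j = 0 := by
      funext b
      rw [Pi.add_apply, Pi.smul_apply, smul_eq_mul, Pi.zero_apply]
      by_cases hb : b = j
      · subst hb
        rw [neg_mul, div_mul_cancel₀ _ hjne, add_neg_cancel]
      · rw [hz k b hki hb, hz j b hij.symm hb, mul_zero, add_zero]
    rw [h7, hdetM] at h6
    have h8 := Matrix.det_eq_zero_of_row_eq_zero
      (A := (M : Matrix (Fin 3) (Fin 3) F).updateRow k 0) k (fun b => by simp)
    rw [h8] at h6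
    exact zero_ne_one h6
  subst hc1
  have hent' : ∀ a b, (if a = i then t * (M : Matrix (Fin 3) (Fin 3) F) j b else 0)
      = (if b = j then (M : Matrix (Fin 3) (Fin 3) F) a i * s else 0) := by
    intro a b
    have h3 := hent a b
    rw [one_mul] at h3
    exact add_left_cancel h3
  have hcol : ∀ k, k ≠ i → (M : Matrix (Fin 3) (Fin 3) F) k i = 0 := by
    intro k hk
    have h3 := hent' k j
    rw [if_neg hk, if_pos rfl] at h3
    rcases mul_eq_zero.1 h3.symm with h4 | h4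
    · exact h4
    · exact absurd h4 hs
  refine ⟨hcol, ?_, ?_⟩
  · have ht : t ≠ 0 := by
      intro h0
      have h3 := hent' i j
      rw [if_pos rfl, if_pos rfl, h0, zero_mul] at h3
      rcases mul_eq_zero.1 h3.symm with h4 | h4
      · have := Matrix.det_eq_zero_of_column_eq_zero (A := (M : Matrix (Fin 3) (Fin 3) F)) i
          (fun b => by
            by_cases hb : b = i
            · subst hb; exact h4
            · exact hcol b hb)
        rw [Matrix.SpecialLinearGroup.det_coe M] at this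
        exact one_ne_zero this
      · exact hs h4
    intro k hk
    have h3 := hent' i k
    rw [if_pos rfl, if_neg hk] at h3
    rcases mul_eq_zero.1 h3 with h4 | h4
    · exact absurd h4 ht
    · exact h4
  · have h3 := hent' i j
    rw [if_pos rfl, if_pos rfl] at h3
    exact h3.symm

/-- The explicit Borel decomposition for the order `i < k < j`. -/
theorem borel_decomp {i j k : Fin 3} (hij : i ≠ j) (hik : i ≠ k) (hkj : k ≠ j)
    {M : Matrix.SpecialLinearGroup (Fin 3) F}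
    (h1 : ∀ k, k ≠ i → (M : Matrix (Fin 3) (Fin 3) F) k i = 0)
    (h2 : ∀ k, k ≠ j → (M : Matrix (Fin 3) (Fin 3) F) j k = 0) :
    ∃ (c : Fin 3 → F) (hc : c 0 * c 1 * c 2 = 1) (a b d : F),
      M = transvection hij d * transvection hik a * transvection hkj b * dg c hc := by
  have hdet : (M : Matrix (Fin 3) (Fin 3) F) i i * (M : Matrix (Fin 3) (Fin 3) F) j j
      * (M : Matrix (Fin 3) (Fin 3) F) k k = 1 := by
    have h3 : (M : Matrix (Fin 3) (Fin 3) F).det = 1 := Matrix.SpecialLinearGroup.det_coe M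
    rw [det_fin_three] at h3
    have e1 := h1 j hij.symm
    have e2 := h1 k hik.symm
    have e3 := h2 i hij
    have e4 := h2 k hkj
    fin_cases i <;> fin_cases j <;> fin_cases k <;> simp_all only [_root_.Fin.isValue, _root_.Fin.zero_eta, _root_.ne_eq, _root_.not_true_eq_false, _root_.Fin.mk_one, _root_.zero_ne_one, _root_.not_false_eq_true, _root_.one_ne_zero, _root_.Fin.reduceFinMk, _root_.Fin.reduceEq, _root_.MulZeroClass.mul_zero, _root_.MulZeroClass.zero_mul, _root_.sub_zero, _root_.add_zero] <;> linear_combination h3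
  have hprod : (M : Matrix (Fin 3) (Fin 3) F) 0 0 * (M : Matrix (Fin 3) (Fin 3) F) 1 1
      * (M : Matrix (Fin 3) (Fin 3) F) 2 2 = 1 := by
    fin_cases i <;> fin_cases j <;> fin_cases k <;> simp_all only [_root_.Fin.zero_eta, _root_.Fin.isValue, _root_.ne_eq, _root_.not_true_eq_false, _root_.Fin.mk_one, _root_.zero_ne_one, _root_.not_false_eq_true, _root_.Fin.reduceFinMk, _root_.Fin.reduceEq, _root_.one_ne_zero] <;> linear_combination hdet
  have hkk : (M : Matrix (Fin 3) (Fin 3) F) k k ≠ 0 := by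
    intro h0; rw [h0, mul_zero] at hdet; exact zero_ne_one hdet
  have hjj : (M : Matrix (Fin 3) (Fin 3) F) j j ≠ 0 := by
    intro h0; rw [h0, mul_zero, zero_mul] at hdet; exact zero_ne_one hdet
  refine ⟨fun a => (M : Matrix (Fin 3) (Fin 3) F) a a, hprod,
    (M : Matrix (Fin 3) (Fin 3) F) i k / (M : Matrix (Fin 3) (Fin 3) F) k k,
    (M : Matrix (Fin 3) (Fin 3) F) k j / (M : Matrix (Fin 3) (Fin 3) F) j j,
    (M : Matrix (Fin 3) (Fin 3) F) i j / (M : Matrix (Fin 3) (Fin 3) F) j j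
      - (M : Matrix (Fin 3) (Fin 3) F) i k / (M : Matrix (Fin 3) (Fin 3) F) k k *
        ((M : Matrix (Fin 3) (Fin 3) F) k j / (M : Matrix (Fin 3) (Fin 3) F) j j), ?_⟩
  apply Subtype.ext
  change (M : Matrix (Fin 3) (Fin 3) F) = (1 + single i j _) * (1 + single i k _) *
    (1 + single k j _) * diagonal (fun a => (M : Matrix (Fin 3) (Fin 3) F) a a)
  simp only [mul_add, add_mul, mul_one, one_mul, single_mul_single_same,
    single_mul_single_of_ne _ _ _ _ hik.symm, single_mul_single_of_ne _ _ _ _ hkj.symm,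
    single_mul_single_of_ne _ _ _ _ hij.symm, add_zero, zero_mul]
  ext a b
  have hM : ∀ a b, a ≠ b → ¬ (a = i ∧ b = k) → ¬ (a = k ∧ b = j) → ¬ (a = i ∧ b = j) →
      (M : Matrix (Fin 3) (Fin 3) F) a b = 0 := by
    intro a b hab n1 n2 n3
    by_cases hb : b = i
    · subst hb; exact h1 a hab
    · by_cases ha : a = j
      · subst ha; exact h2 b (Ne.symm hab)
      · exfalso
        clear hprod hdet hkk hjj h1 h2
        revert n1 n2 n3 hab hb ha
        revert a b i j k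
        decide +kernel
  simp only [Matrix.add_apply, Matrix.mul_apply, diagonal_apply, single_apply,
    mul_ite, mul_zero, Finset.sum_ite_eq', Finset.mem_univ, if_true]
  by_cases hab : a = b
  · subst hab
    have n1 : ¬ (i = a ∧ k = a) := fun h => hik (h.1.trans h.2.symm)
    have n2 : ¬ (k = a ∧ j = a) := fun h => hkj (h.1.trans h.2.symm)
    have n3 : ¬ (i = a ∧ j = a) := fun h => hij (h.1.trans h.2.symm)
    simp [n1, n2, n3]
  · by_cases n1 : a = i ∧ b = k
    · obtain ⟨rfl, rfl⟩ := n1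
      simp [hij, hik, hkj, hkj.symm, hik.symm, hkk]
    · by_cases n2 : a = k ∧ b = j
      · obtain ⟨rfl, rfl⟩ := n2
        simp [hij, hik, hkj, hkj.symm, hjj]
      · by_cases n3 : a = i ∧ b = j
        · obtain ⟨rfl, rfl⟩ := n3
          simp only [hij, hik, hkj, hkj.symm, hik.symm, ↓ _root_.reduceIte, _root_.and_self, _root_.zero_add, _root_.and_false, _root_.MulZeroClass.zero_mul, _root_.add_zero, _root_.and_true]
          field_simp
          ring
        · rw [hM a b hab n1 n2 n3]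
          have m1 : ¬ (i = a ∧ k = b) := fun h => n1 ⟨h.1.symm, h.2.symm⟩
          have m2 : ¬ (k = a ∧ j = b) := fun h => n2 ⟨h.1.symm, h.2.symm⟩
          have m3 : ¬ (i = a ∧ j = b) := fun h => n3 ⟨h.1.symm, h.2.symm⟩
          simp [hab, m1, m2, m3]

end Cfsg.Agent.StdRank2.ModelL3
end

-- part: StdRank2/FrameL3
section
/-!
# The frame of root elements of a subgroup `A` with `A / Z(A) ≃* PSL 3 F`, `Z(A)` odd, `char F = 2`

`FrameL3 A F` consists of an isomorphism `e` and elements `x i j s` of `A` (`i ≠ j`), involutions or 1,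
mapping to the elementary matrices.  All relations of `PSL 3 F` between 2-elements lift to `A`.
-/

set_option autoImplicit false
set_option linter.unusedSimpArgs false

namespace Cfsg.Agent.StdRank2

open Matrix
open Matrix.SpecialLinearGroup (transvection)
open Cfsg.Agent.ClassicalGeometry.AutPSL.Root
open Cfsg.Agent.ClassicalGeometry.AutPSL.SylowU
open Cfsg.Agent.StdRank2.FrameLift
open Cfsg.Agent.StdRank2.ModelL3

/-- Root elements of `A`, `A / Z(A) ≃* PSL 3 F`. -/
structure FrameL3 {G : Type*} [Group G] (A : Subgroup G) (F : Type*) [Field F] where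
  /-- the isomorphism -/
  e : ↥A ⧸ Subgroup.center ↥A ≃* Matrix.ProjectiveSpecialLinearGroup (Fin 3) F
  /-- root elements -/
  x : Fin 3 → Fin 3 → F → G
  mem : ∀ {i j : Fin 3}, i ≠ j → ∀ s, x i j s ∈ A
  map : ∀ {i j : Fin 3} (h : i ≠ j) (s : F),
    e (QuotientGroup.mk ⟨x i j s, mem h s⟩) = pr (transvection h s)
  two : ∀ {i j : Fin 3}, i ≠ j → ∀ s, x i j s * x i j s = 1

namespace FrameL3

variable {G : Type*} [Group G] {A : Subgroup G} {F : Type*} [Field F]

/-- Existence of the frame. -/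
theorem exists_frame [CharP F 2] (hZ : Odd (Nat.card (Subgroup.center ↥A)))
    (e : ↥A ⧸ Subgroup.center ↥A ≃* Matrix.ProjectiveSpecialLinearGroup (Fin 3) F) :
    ∃ R : FrameL3 A F, R.e = e := by
  classical
  have hc := OddCover.of_center e hZ
  set f := e.toMonoidHom.comp (QuotientGroup.mk' (Subgroup.center ↥A)) with hf
  have hsq : ∀ {i j : Fin 3} (h : i ≠ j) (s : F),
      (pr (transvection h s) : Matrix.ProjectiveSpecialLinearGroup (Fin 3) F)
        * pr (transvection h s) = 1 := by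
    intro i j h s
    rw [← map_mul, ← Matrix.SpecialLinearGroup.transvection_add, CharTwo.add_self_eq_zero,
      Matrix.SpecialLinearGroup.transvection_coeff_zero, map_one]
  refine ⟨⟨e, fun i j s => if h : i ≠ j then ((lift2 f (pr (transvection h s)) : ↥A) : G) else 1,
    ?_, ?_, ?_⟩, rfl⟩
  · intro i j h s
    rw [dif_pos h]
    exact (lift2 f (pr (transvection h s)) : ↥A).2
  · intro i j h s
    have h1 := hc.map_lift2 (is2_of_sq (hsq h s))
    have h2 : ∀ (g : G) (hg : g ∈ A), g = ((lift2 f (pr (transvection h s)) : ↥A) : G) →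
        e (QuotientGroup.mk ⟨g, hg⟩) = pr (transvection h s) := by
      rintro g hg rfl
      exact h1
    exact h2 _ _ (by rw [dif_pos h])
  · intro i j h s
    rw [dif_pos h]
    have h1 : (lift2 f (pr (transvection h s)) : ↥A) * lift2 f (pr (transvection h s)) = 1 := by
      have h3 := hc.map_lift2 (is2_of_sq (hsq h s))
      apply hc.eq_of_map_eq _ is2_one
      · rw [map_mul, h3, hsq, map_one]
      · exact (hc.is2_lift2 (is2_of_sq (hsq h s))).mul (hc.is2_lift2 (is2_of_sq (hsq h s))) rfl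
    exact congrArg Subtype.val h1

variable (R : FrameL3 A F)

/-- The projection of `A` onto `PSL 3 F`. -/
def f : ↥A →* Matrix.ProjectiveSpecialLinearGroup (Fin 3) F :=
  R.e.toMonoidHom.comp (QuotientGroup.mk' (Subgroup.center ↥A))

/-- The root elements as elements of `A`. -/
def X {i j : Fin 3} (h : i ≠ j) (s : F) : ↥A := ⟨R.x i j s, R.mem h s⟩

@[simp] theorem coe_X {i j : Fin 3} (h : i ≠ j) (s : F) : (R.X h s : G) = R.x i j s := rfl

theorem f_X {i j : Fin 3} (h : i ≠ j) (s : F) : R.f (R.X h s) = pr (transvection h s) := R.map h s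

theorem is2_X {i j : Fin 3} (h : i ≠ j) (s : F) : Is2 (R.X h s) :=
  is2_of_sq (Subtype.ext (R.two h s))

theorem mem_ker_f {a : ↥A} : a ∈ R.f.ker ↔ a ∈ Subgroup.center ↥A := by
  rw [MonoidHom.mem_ker]
  change R.e (QuotientGroup.mk a) = 1 ↔ _
  rw [← QuotientGroup.eq_one_iff]
  constructor
  · intro h
    apply R.e.injective
    rw [h, map_one]
  · intro h
    rw [h, map_one]

theorem x_inv {i j : Fin 3} (h : i ≠ j) (s : F) : (R.x i j s)⁻¹ = R.x i j s :=
  inv_eq_of_mul_eq_one_left (R.two h s)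

theorem x_inj {i j : Fin 3} (h : i ≠ j) {s t : F} : R.x i j s = R.x i j t ↔ s = t := by
  refine ⟨fun hst => ?_, fun hst => by rw [hst]⟩
  have h1 : R.X h s = R.X h t := Subtype.ext hst
  have h2 : (pr (transvection h s) : Matrix.ProjectiveSpecialLinearGroup (Fin 3) F)
      = pr (transvection h t) := by rw [← R.f_X, ← R.f_X, h1]
  have h3 := entries_of_conj (s := s) (t := t) (M := 1) h
  by_cases hs : s = 0
  · subst hs
    rw [Matrix.SpecialLinearGroup.transvection_coeff_zero, map_one] at h2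
    have h4 := (pr_eq_one_iff _).1 h2.symm
    exact ((Matrix.SpecialLinearGroup.transvection_mem_center_iff h t).1 h4).symm
  · have h5 := (h3 hs (by rw [one_mul, inv_one, mul_one, h2])).2.2
    simpa using h5

section Odd

variable [CharP F 2] (hZ : Odd (Nat.card (Subgroup.center ↥A)))
include hZ

theorem cover : OddCover R.f := OddCover.of_center R.e hZ

/-- General conjugation principle. -/
theorem conj_of_sl {g : ↥A} {M : Matrix.SpecialLinearGroup (Fin 3) F} (hg : R.f g = pr M)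
    {i j k l : Fin 3} {hij : i ≠ j} {hkl : k ≠ l} {s t : F}
    (e : M * transvection hij s * M⁻¹ = transvection hkl t) :
    (g : G) * R.x i j s * (g : G)⁻¹ = R.x k l t := by
  have h1 := (R.cover hZ).conj_eq' (g := g) (R.is2_X hij s) (R.is2_X hkl t)
    (by rw [hg, R.f_X, R.f_X, ← map_inv, ← map_mul, ← map_mul, e])
  exact congrArg Subtype.val h1

theorem add {i j : Fin 3} (h : i ≠ j) (s t : F) : R.x i j s * R.x i j t = R.x i j (s + t) := by
  have h1 := (R.cover hZ).mul_eq (R.is2_X h s) (R.is2_X h t) (R.is2_X h (s + t))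
    (by rw [R.f_X, R.f_X, ← map_mul, ← map_mul, ← Matrix.SpecialLinearGroup.transvection_add,
      ← Matrix.SpecialLinearGroup.transvection_add, add_comm])
    (by rw [R.f_X, R.f_X, R.f_X, ← map_mul, ← Matrix.SpecialLinearGroup.transvection_add])
  exact congrArg Subtype.val h1

theorem x_zero {i j : Fin 3} (h : i ≠ j) : R.x i j 0 = 1 := by
  have h1 := R.add hZ h 0 0
  rw [add_zero] at h1
  exact mul_eq_left.1 h1

theorem x_eq_one {i j : Fin 3} (h : i ≠ j) {s : F} : R.x i j s = 1 ↔ s = 0 := by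
  rw [← R.x_zero hZ h, R.x_inj h]

theorem comm {i j k l : Fin 3} (hij : i ≠ j) (hkl : k ≠ l) (hjk : j ≠ k) (hil : i ≠ l) (s t : F) :
    R.x i j s * R.x k l t = R.x k l t * R.x i j s := by
  have h1 := (R.cover hZ).comm (g := R.X hij s) (R.is2_X hkl t)
    (by rw [R.f_X, R.f_X, ← map_mul, ← map_mul, tv_comm hij hkl hjk hil])
  exact congrArg Subtype.val h1

theorem conj {i j k : Fin 3} (hij : i ≠ j) (hjk : j ≠ k) (hik : i ≠ k) (s t : F) :
    R.x i j s * R.x j k t * (R.x i j s)⁻¹ = R.x i k (s * t) * R.x j k t := by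
  have hcom : R.X hik (s * t) * R.X hjk t = R.X hjk t * R.X hik (s * t) :=
    Subtype.ext (R.comm hZ hik hjk hjk.symm.symm.symm hik (s * t) t)
  have h1 := (R.cover hZ).conj_eq' (g := R.X hij s) (a := R.X hjk t)
    (b := R.X hik (s * t) * R.X hjk t) (R.is2_X hjk t)
    ((R.is2_X hik (s * t)).mul (R.is2_X hjk t) hcom)
    (by rw [map_mul, R.f_X, R.f_X, R.f_X, ← map_inv, ← map_mul, ← map_mul, ← map_mul,
      tv_conj hij hjk hik])
  exact congrArg Subtype.val h1

theorem conj' {i j k : Fin 3} (hij : i ≠ j) (hjk : j ≠ k) (hik : i ≠ k) (s t : F) :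
    R.x j k t * R.x i j s * (R.x j k t)⁻¹ = R.x i k (s * t) * R.x i j s := by
  have hcom : R.X hik (s * t) * R.X hij s = R.X hij s * R.X hik (s * t) :=
    Subtype.ext (R.comm hZ hik hij hik.symm hij (s * t) s)
  have h1 := (R.cover hZ).conj_eq' (g := R.X hjk t) (a := R.X hij s)
    (b := R.X hik (s * t) * R.X hij s) (R.is2_X hij s)
    ((R.is2_X hik (s * t)).mul (R.is2_X hij s) hcom)
    (by rw [map_mul, R.f_X, R.f_X, R.f_X, ← map_inv, ← map_mul, ← map_mul, ← map_mul,
      tv_conj' hij hjk hik, CharTwo.neg_eq])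
  exact congrArg Subtype.val h1

theorem mul_swap {i j k : Fin 3} (hij : i ≠ j) (hjk : j ≠ k) (hik : i ≠ k) (s t : F) :
    R.x j k t * R.x i j s = R.x i k (s * t) * (R.x i j s * R.x j k t) := by
  have h1 := R.conj' hZ hij hjk hik s t
  rw [mul_inv_eq_iff_eq_mul] at h1
  rw [h1, mul_assoc]

/-- The Weyl elements `w i j u = x i j u * x j i u⁻¹ * x i j u`; they are involutions. -/
def w (R : FrameL3 A F) (i j : Fin 3) (u : F) : G := R.x i j u * R.x j i u⁻¹ * R.x i j u

omit [CharP F 2] hZ in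
theorem w_mem {i j : Fin 3} (h : i ≠ j) (u : F) : R.w i j u ∈ A :=
  mul_mem (mul_mem (R.mem h u) (R.mem h.symm u⁻¹)) (R.mem h u)

omit [CharP F 2] hZ in
theorem w_mul_self {i j : Fin 3} (h : i ≠ j) (u : F) : R.w i j u * R.w i j u = 1 := by
  unfold w
  have h1 := R.two h u
  have h2 := R.two h.symm u⁻¹
  calc R.x i j u * R.x j i u⁻¹ * R.x i j u * (R.x i j u * R.x j i u⁻¹ * R.x i j u)
      = R.x i j u * (R.x j i u⁻¹ * (R.x i j u * R.x i j u) * R.x j i u⁻¹) * R.x i j u := by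
        simp only [mul_assoc]
    _ = 1 := by rw [h1, mul_one, h2, mul_one, h1]

omit [CharP F 2] hZ in
theorem w_inv {i j : Fin 3} (h : i ≠ j) (u : F) : (R.w i j u)⁻¹ = R.w i j u :=
  inv_eq_of_mul_eq_one_left (R.w_mul_self h u)

omit [CharP F 2] hZ in
theorem f_w {i j : Fin 3} (h : i ≠ j) (u : F) : R.f ⟨R.w i j u, R.w_mem h u⟩ = pr (wl h u) := by
  have h1 : (⟨R.w i j u, R.w_mem h u⟩ : ↥A) = R.X h u * R.X h.symm u⁻¹ * R.X h u := rfl
  rw [h1, map_mul, map_mul, R.f_X, R.f_X, wl, map_mul, map_mul]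

theorem w_conj_one {i j : Fin 3} (h : i ≠ j) {k l : Fin 3} (hkl : k ≠ l) (s : F) :
    R.w i j 1 * R.x k l s * (R.w i j 1)⁻¹ = R.x (Equiv.swap i j k) (Equiv.swap i j l) s :=
  R.conj_of_sl hZ (R.f_w h 1) (wl_conj h hkl s)

/-- `y` lies above the diagonal matrix `c`. -/
def Tor (R : FrameL3 A F) (y : G) (c : Fin 3 → F) : Prop :=
  ∃ (hy : y ∈ A) (hc : c 0 * c 1 * c 2 = 1), R.f ⟨y, hy⟩ = pr (dg c hc)

omit [CharP F 2] hZ in
theorem Tor.mem {R : FrameL3 A F} {y : G} {c : Fin 3 → F} (h : R.Tor y c) : y ∈ A := h.1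

omit [CharP F 2] hZ in
theorem Tor.prod {R : FrameL3 A F} {y : G} {c : Fin 3 → F} (h : R.Tor y c) :
    c 0 * c 1 * c 2 = 1 := h.2.1

omit [CharP F 2] hZ in
theorem Tor.ne_zero {R : FrameL3 A F} {y : G} {c : Fin 3 → F} (h : R.Tor y c) (i : Fin 3) :
    c i ≠ 0 := ne_zero_of_prod h.prod i

theorem Tor.conj {R : FrameL3 A F} {y : G} {c : Fin 3 → F} (h : R.Tor y c) {i j : Fin 3}
    (hij : i ≠ j) (s : F) : y * R.x i j s * y⁻¹ = R.x i j (c i * s * (c j)⁻¹) := by
  obtain ⟨hy, hc, he⟩ := h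
  exact R.conj_of_sl hZ he (dg_conj c hc hij s)

omit [CharP F 2] hZ in
theorem Tor.mul {R : FrameL3 A F} {y y' : G} {c c' : Fin 3 → F} (h : R.Tor y c)
    (h' : R.Tor y' c') : R.Tor (y * y') (fun i => c i * c' i) := by
  obtain ⟨hy, hc, he⟩ := h
  obtain ⟨hy', hc', he'⟩ := h'
  have hcc : c 0 * c' 0 * (c 1 * c' 1) * (c 2 * c' 2) = 1 := by
    rw [show c 0 * c' 0 * (c 1 * c' 1) * (c 2 * c' 2) = (c 0 * c 1 * c 2) * (c' 0 * c' 1 * c' 2) by
      ring, hc, hc', one_mul]
  refine ⟨mul_mem hy hy', hcc, ?_⟩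
  have h1 : R.f (⟨y, hy⟩ * ⟨y', hy'⟩) = pr (dg c hc * dg c' hc') := by
    rw [map_mul, map_mul, he, he']
  rw [dg_mul] at h1
  exact h1

omit [CharP F 2] hZ in
theorem Tor.one (R : FrameL3 A F) : R.Tor 1 (fun _ => 1) :=
  ⟨one_mem _, by norm_num, by rw [dg_one, map_one]; exact map_one R.f⟩

omit [CharP F 2] hZ in
theorem Tor.inv {R : FrameL3 A F} {y : G} {c : Fin 3 → F} (h : R.Tor y c) :
    R.Tor y⁻¹ (fun i => (c i)⁻¹) := by
  obtain ⟨hy, hc, he⟩ := h
  have hc' : (c 0)⁻¹ * (c 1)⁻¹ * (c 2)⁻¹ = 1 := by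
    rw [← mul_inv, ← mul_inv, hc, inv_one]
  refine ⟨inv_mem hy, hc', ?_⟩
  have h1 : (⟨y⁻¹, inv_mem hy⟩ : ↥A) = (⟨y, hy⟩ : ↥A)⁻¹ := rfl
  rw [h1, map_inv, he, ← map_inv]
  congr 1
  rw [inv_eq_iff_mul_eq_one, dg_mul]
  have h2 : (fun i => c i * (c i)⁻¹) = fun _ : Fin 3 => (1 : F) := by
    funext i
    exact mul_inv_cancel₀ (ne_zero_of_prod hc i)
  rw [← dg_one]
  congr 1

omit [CharP F 2] hZ in
/-- Central elements of `A` lie above 1. -/
theorem Tor.of_central {z : G} (hz : z ∈ A) (hc : ∀ a ∈ A, a * z = z * a) :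
    R.Tor z (fun _ => 1) := by
  refine ⟨hz, by norm_num, ?_⟩
  rw [dg_one, map_one]
  exact R.mem_ker_f.2 (Subgroup.mem_center_iff.2 fun a => Subtype.ext (hc a.1 a.2))

omit [CharP F 2] hZ in
/-- A torus element with equal entries is central in `A`. -/
theorem Tor.central {R : FrameL3 A F} {y : G} {c : Fin 3 → F} (h : R.Tor y c) (h01 : c 0 = c 1)
    (h12 : c 1 = c 2) : ∀ a ∈ A, y * a = a * y := by
  obtain ⟨hy, hc, he⟩ := h
  have h1 : dg c hc ∈ Subgroup.center (Matrix.SpecialLinearGroup (Fin 3) F) := by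
    rw [Matrix.SpecialLinearGroup.mem_center_iff]
    refine ⟨c 0, ?_, ?_⟩
    · rw [Fintype.card_fin]
      rw [← h12, ← h01] at hc
      rw [← hc]; ring
    · ext a b
      change Matrix.scalar (Fin 3) (c 0) a b = diagonal c a b
      rw [Matrix.scalar_apply, diagonal_apply, diagonal_apply]
      by_cases hab : a = b
      · subst hab
        rw [if_pos rfl, if_pos rfl]
        fin_cases a
        · rfl
        · exact h01
        · exact h01.trans h12
      · rw [if_neg hab, if_neg hab]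
  have h2 : (⟨y, hy⟩ : ↥A) ∈ Subgroup.center ↥A := by
    rw [← R.mem_ker_f, MonoidHom.mem_ker, he]
    exact (pr_eq_one_iff _).2 h1
  intro a ha
  exact (congrArg Subtype.val (Subgroup.mem_center_iff.1 h2 ⟨a, ha⟩)).symm

omit [CharP F 2] hZ in
theorem exists_tor {c : Fin 3 → F} (hc : c 0 * c 1 * c 2 = 1) : ∃ y : G, R.Tor y c := by
  obtain ⟨⟨y, hy⟩, h⟩ := (R.e.surjective.comp (QuotientGroup.mk'_surjective _)) (pr (dg c hc))
  exact ⟨y, hy, hc, h⟩

omit [CharP F 2] in
theorem f_surjective : Function.Surjective R.f :=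
  R.e.surjective.comp (QuotientGroup.mk'_surjective _)

/-- The torus elements `w u * w 1` inside the rank one group of `x i j`, `x j i`. -/
theorem tor_w {i j : Fin 3} (h : i ≠ j) {u : F} (hu : u ≠ 0) :
    R.Tor (R.w i j u * R.w i j 1) (fun k => if k = i then u else if k = j then u⁻¹ else 1) := by
  have hc : (fun k : Fin 3 => if k = i then u else if k = j then u⁻¹ else (1 : F)) 0
      * (fun k : Fin 3 => if k = i then u else if k = j then u⁻¹ else (1 : F)) 1
      * (fun k : Fin 3 => if k = i then u else if k = j then u⁻¹ else (1 : F)) 2 = 1 := by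
    fin_cases i <;> fin_cases j <;> first | exact absurd rfl h | simp [hu]
  refine ⟨mul_mem (R.w_mem h u) (R.w_mem h 1), hc, ?_⟩
  have h1 : (⟨R.w i j u * R.w i j 1, mul_mem (R.w_mem h u) (R.w_mem h 1)⟩ : ↥A)
      = ⟨R.w i j u, R.w_mem h u⟩ * ⟨R.w i j 1, R.w_mem h 1⟩ := rfl
  rw [h1, map_mul, R.f_w h, R.f_w h, ← map_mul]
  congr 1
  apply Subtype.ext
  ext a b
  rw [Matrix.SpecialLinearGroup.coe_mul, Matrix.mul_apply, dg_apply, Equiv.Perm.one_apply,
    Finset.sum_eq_single (Equiv.swap i j b)]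
  · rw [wl_apply h hu, wl_apply h one_ne_zero, Equiv.swap_apply_self, if_pos rfl]
    by_cases hab : a = b
    · subst hab
      rw [if_pos rfl, if_pos rfl]
      by_cases hi : a = i
      · subst hi
        simp [Equiv.swap_apply_left, h.symm]
      · by_cases hj : a = j
        · subst hj
          simp [Equiv.swap_apply_right, h.symm]
        · simp [Equiv.swap_apply_of_ne_of_ne hi hj, hi, hj]
    · rw [if_neg hab, if_neg hab, zero_mul]
  · intro k _ hk
    rw [wl_apply h one_ne_zero, if_neg hk, mul_zero]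
  · intro hh
    exact absurd (Finset.mem_univ _) hh

/-- An element of `A` moving a root element `x i j s` into the root group `x i j` lies in the Borel
subgroup of the order `i < k < j`. -/
theorem borel {i j k : Fin 3} (hij : i ≠ j) (hik : i ≠ k) (hkj : k ≠ j) {g : G} (hg : g ∈ A)
    {s t : F} (hs : s ≠ 0) (h : g * R.x i j s * g⁻¹ = R.x i j t) :
    ∃ (a b d : F) (c : Fin 3 → F) (y : G), R.Tor y c ∧ c i * s * (c j)⁻¹ = t ∧
      g = R.x i j d * R.x i k a * R.x k j b * y := by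
  obtain ⟨M, hM⟩ := pr_surjective (R.f ⟨g, hg⟩)
  have h1 : R.f (⟨g, hg⟩ * R.X hij s * (⟨g, hg⟩ : ↥A)⁻¹) = R.f (R.X hij t) := by
    congr 1
    exact Subtype.ext h
  rw [map_mul, map_mul, map_inv, R.f_X, R.f_X, ← hM, ← map_inv, ← map_mul, ← map_mul] at h1
  obtain ⟨h2, h3, h4⟩ := entries_of_conj hij hs h1
  obtain ⟨c, hc, a, b, d, h5⟩ := borel_decomp hij hik hkj h2 h3
  have hyA : (R.x k j b)⁻¹ * (R.x i k a)⁻¹ * (R.x i j d)⁻¹ * g ∈ A :=
    mul_mem (mul_mem (mul_mem (inv_mem (R.mem hkj b)) (inv_mem (R.mem hik a)))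
      (inv_mem (R.mem hij d))) hg
  have hTor : R.Tor ((R.x k j b)⁻¹ * (R.x i k a)⁻¹ * (R.x i j d)⁻¹ * g) c := by
    refine ⟨hyA, hc, ?_⟩
    have h6 : (⟨(R.x k j b)⁻¹ * (R.x i k a)⁻¹ * (R.x i j d)⁻¹ * g, hyA⟩ : ↥A)
        = (R.X hkj b)⁻¹ * (R.X hik a)⁻¹ * (R.X hij d)⁻¹ * ⟨g, hg⟩ := rfl
    rw [h6, map_mul, map_mul, map_mul, map_inv, map_inv, map_inv, R.f_X, R.f_X, R.f_X, ← hM, h5,
      map_mul, map_mul, map_mul]
    group
  refine ⟨a, b, d, c, _, hTor, ?_, by group⟩
  have h7 : R.x i j (c i * s * (c j)⁻¹) = R.x i j t := by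
    rw [← h, ← hTor.conj hZ hij s]
    set y := (R.x k j b)⁻¹ * (R.x i k a)⁻¹ * (R.x i j d)⁻¹ * g with hy'
    have hgy : g = R.x i j d * R.x i k a * R.x k j b * y := by rw [hy']; group
    rw [hgy]
    have e1 : y * R.x i j s * y⁻¹ = R.x i j (c i * s * (c j)⁻¹) := hTor.conj hZ hij s
    have e2 := R.comm hZ hkj hij hij.symm hkj b (c i * s * (c j)⁻¹)
    have e3 := R.comm hZ hik hij hik.symm hij a (c i * s * (c j)⁻¹)
    have e4 := R.comm hZ hij hij hij.symm hij d (c i * s * (c j)⁻¹)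
    calc y * R.x i j s * y⁻¹ = R.x i j (c i * s * (c j)⁻¹) := e1
      _ = R.x i j d * (R.x i k a * (R.x k j b * R.x i j (c i * s * (c j)⁻¹) * (R.x k j b)⁻¹) *
          (R.x i k a)⁻¹) * (R.x i j d)⁻¹ := by
        rw [e2, mul_inv_cancel_right, e3, mul_inv_cancel_right, e4, mul_inv_cancel_right]
      _ = _ := by rw [← e1]; group
  exact (R.x_inj hij).1 h7

end Odd

end FrameL3

end Cfsg.Agent.StdRank2
end

-- part: StdRank2/FrameL3U
section
/-!
# `U`, the Sylow 2-subgroup, the Borel subgroup, generation and involutions for `FrameL3`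
-/

set_option autoImplicit false
set_option linter.unusedSimpArgs false

namespace Cfsg.Agent.StdRank2.FrameL3

open Matrix
open Matrix.SpecialLinearGroup (transvection)
open Cfsg.Agent.ClassicalGeometry.AutPSL.Root
open Cfsg.Agent.ClassicalGeometry.AutPSL.SylowU
open Cfsg.Agent.StdRank2.FrameLift
open Cfsg.Agent.StdRank2.ModelL3
open scoped commutatorElement

variable {G : Type*} [Group G] {A : Subgroup G} {F : Type*} [Field F] (R : FrameL3 A F)

theorem h01 : (0 : Fin 3) ≠ 1 := by decide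
theorem h12 : (1 : Fin 3) ≠ 2 := by decide
theorem h02 : (0 : Fin 3) ≠ 2 := by decide

/-- The positive unipotent subgroup. -/
def U (R : FrameL3 A F) : Subgroup G :=
  Subgroup.closure {g | ∃ (i j : Fin 3) (_ : i < j) (s : F), g = R.x i j s}

/-- The normal form of the elements of `U`. -/
def el (R : FrameL3 A F) (a b c : F) : G := R.x 0 1 a * R.x 1 2 b * R.x 0 2 c

theorem x_mem_U {i j : Fin 3} (h : i < j) (s : F) : R.x i j s ∈ R.U :=
  Subgroup.subset_closure ⟨i, j, h, s, rfl⟩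

theorem el_mem_A (a b c : F) : R.el a b c ∈ A :=
  mul_mem (mul_mem (R.mem h01 a) (R.mem h12 b)) (R.mem h02 c)

theorem el_mem_U (a b c : F) : R.el a b c ∈ R.U :=
  mul_mem (mul_mem (R.x_mem_U (by decide) a) (R.x_mem_U (by decide) b))
    (R.x_mem_U (by decide) c)

theorem U_le : R.U ≤ A := by
  rw [U, Subgroup.closure_le]
  rintro g ⟨i, j, h, s, rfl⟩
  exact R.mem h.ne s

theorem f_el (a b c : F) : R.f ⟨R.el a b c, R.el_mem_A a b c⟩
    = pr (transvection h01 a * transvection h12 b * transvection h02 c) := by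
  have h1 : (⟨R.el a b c, R.el_mem_A a b c⟩ : ↥A) = R.X h01 a * R.X h12 b * R.X h02 c := rfl
  rw [h1, map_mul, map_mul, R.f_X, R.f_X, R.f_X, map_mul, map_mul]

theorem coe_upper_el (a b c : F) :
    (transvection h01 a * transvection h12 b * transvection h02 c :
      Matrix.SpecialLinearGroup (Fin 3) F) =
      (!![1, a, c + a * b; 0, 1, b; 0, 0, 1] : Matrix (Fin 3) (Fin 3) F) := by
  rw [Matrix.SpecialLinearGroup.coe_mul, Matrix.SpecialLinearGroup.coe_mul, coe_transvection,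
    coe_transvection, coe_transvection]
  ext i j
  (revert i j; simp only [Matrix.mul_apply, Fin.sum_univ_three, Matrix.one_apply, single_apply, _root_.Fin.forall_fin_succ, Fin.isValue, _root_.Matrix.add_apply, _root_.one_ne_zero, _root_.and_false, ↓reduceIte, _root_.add_zero, _root_.false_and, _root_.mul_ite, _root_.mul_one, _root_.MulZeroClass.mul_zero, _root_.and_true, _root_.true_and, Fin.reduceEq, _root_.ite_mul, _root_.one_mul, _root_.MulZeroClass.zero_mul, _root_.zero_ne_one, _root_.zero_add, _root_.Matrix.of_apply, _root_.Matrix.cons_val', _root_.Matrix.cons_val_fin_one, _root_.Matrix.cons_val_zero, _root_.Matrix.cons_val_succ, _root_.Fin.succ_zero_eq_one, _root_.ite_self, _root_.Fin.succ_one_eq_two, _root_.IsEmpty.forall_iff, _root_.and_self, _root_.Fin.succ_ne_zero])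

theorem upper_el_mem [Finite F] (a b c : F) :
    transvection h01 a * transvection h12 b * transvection h02 c ∈ upper 3 F := by
  rw [mem_upper]
  intro i j hij
  rw [coe_upper_el]
  fin_cases i <;> fin_cases j <;> first | rfl | exact absurd hij (by decide)

theorem exists_upper_el [Finite F] {u : Matrix.SpecialLinearGroup (Fin 3) F} (hu : u ∈ upper 3 F) :
    ∃ a b c : F, u = transvection h01 a * transvection h12 b * transvection h02 c := by
  refine ⟨(u : Matrix (Fin 3) (Fin 3) F) 0 1, (u : Matrix (Fin 3) (Fin 3) F) 1 2,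
    (u : Matrix (Fin 3) (Fin 3) F) 0 2 - (u : Matrix (Fin 3) (Fin 3) F) 0 1 *
      (u : Matrix (Fin 3) (Fin 3) F) 1 2, ?_⟩
  apply Subtype.ext
  rw [coe_upper_el]
  rw [mem_upper] at hu
  ext i j
  fin_cases i <;> fin_cases j
  · exact hu 0 0 le_rfl
  · rfl
  · simp
  · exact hu 1 0 (by decide)
  · exact hu 1 1 le_rfl
  · rfl
  · exact hu 2 0 (by decide)
  · exact hu 2 1 (by decide)
  · exact hu 2 2 le_rfl

theorem el_inj [Finite F] {a b c a' b' c' : F} :
    R.el a b c = R.el a' b' c' ↔ a = a' ∧ b = b' ∧ c = c' := by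
  constructor
  · intro h
    have h1 : R.f ⟨R.el a b c, R.el_mem_A a b c⟩ = R.f ⟨R.el a' b' c', R.el_mem_A a' b' c'⟩ := by
      congr 1
      exact Subtype.ext h
    rw [f_el, f_el] at h1
    have h2 := pr_injOn_upper (upper_el_mem a b c) (upper_el_mem a' b' c') h1
    have h3 : ∀ i j, (!![1, a, c + a * b; 0, 1, b; 0, 0, 1] : Matrix (Fin 3) (Fin 3) F) i j
        = (!![1, a', c' + a' * b'; 0, 1, b'; 0, 0, 1] : Matrix (Fin 3) (Fin 3) F) i j := by
      intro i j
      rw [← coe_upper_el, ← coe_upper_el, h2]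
    have ha : a = a' := h3 0 1
    have hb : b = b' := h3 1 2
    have hc : c + a * b = c' + a' * b' := h3 0 2
    refine ⟨ha, hb, ?_⟩
    rw [ha, hb] at hc
    exact add_right_cancel hc
  · rintro ⟨rfl, rfl, rfl⟩
    rfl

section Odd

variable [CharP F 2] (hZ : Odd (Nat.card (Subgroup.center ↥A)))
include hZ

theorem el_mul (a b c a' b' c' : F) :
    R.el a b c * R.el a' b' c' = R.el (a + a') (b + b') (c + c' + a' * b) := by
  unfold el
  have e1 := R.comm hZ h02 h01 (by decide) (by decide) c a'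
  have e2 := R.comm hZ h02 h12 (by decide) (by decide) c b'
  have e3 := R.mul_swap hZ h01 h12 h02 a' b
  have e4 := R.comm hZ h02 h01 (by decide) (by decide) (a' * b) a
  have e5 := R.comm hZ h02 h12 (by decide) (by decide) (a' * b) b
  have e6 := R.comm hZ h02 h12 (by decide) (by decide) (a' * b) b'
  calc R.x 0 1 a * R.x 1 2 b * R.x 0 2 c * (R.x 0 1 a' * R.x 1 2 b' * R.x 0 2 c')
      = R.x 0 1 a * R.x 1 2 b * (R.x 0 2 c * R.x 0 1 a') * R.x 1 2 b' * R.x 0 2 c' := by
        simp only [mul_assoc]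
    _ = R.x 0 1 a * (R.x 1 2 b * R.x 0 1 a') * (R.x 0 2 c * R.x 1 2 b') * R.x 0 2 c' := by
        rw [e1]; simp only [mul_assoc]
    _ = (R.x 0 1 a * R.x 0 2 (a' * b)) * R.x 0 1 a' * R.x 1 2 b * (R.x 1 2 b' * R.x 0 2 c)
          * R.x 0 2 c' := by
        rw [e3, e2]; simp only [mul_assoc]
    _ = R.x 0 2 (a' * b) * (R.x 0 1 a * R.x 0 1 a') * (R.x 1 2 b * R.x 1 2 b') *
          (R.x 0 2 c * R.x 0 2 c') := by
        rw [← e4]; simp only [mul_assoc]
    _ = R.x 0 2 (a' * b) * (R.x 0 1 (a + a') * R.x 1 2 (b + b')) * R.x 0 2 (c + c') := by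
        rw [R.add hZ h01, R.add hZ h12, R.add hZ h02]; simp only [mul_assoc]
    _ = (R.x 0 1 (a + a') * R.x 1 2 (b + b')) * R.x 0 2 (a' * b) * R.x 0 2 (c + c') := by
        have e7 := R.comm hZ h02 h01 (by decide) (by decide) (a' * b) (a + a')
        have e8 := R.comm hZ h02 h12 (by decide) (by decide) (a' * b) (b + b')
        rw [← mul_assoc (R.x 0 2 (a' * b)), e7, mul_assoc (R.x 0 1 (a + a')), e8]
        simp only [mul_assoc]
    _ = _ := by
        rw [mul_assoc _ (R.x 0 2 (a' * b)), R.add hZ h02, add_comm (a' * b)]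

theorem el_zero : R.el 0 0 0 = 1 := by
  rw [el, R.x_zero hZ h01, R.x_zero hZ h12, R.x_zero hZ h02, one_mul, one_mul]

theorem el_sq (a b c : F) : R.el a b c * R.el a b c = R.x 0 2 (a * b) := by
  rw [R.el_mul hZ, CharTwo.add_self_eq_zero, CharTwo.add_self_eq_zero, CharTwo.add_self_eq_zero,
    zero_add, el, R.x_zero hZ h01, R.x_zero hZ h12, one_mul, one_mul]

theorem el_inv (a b c : F) : (R.el a b c)⁻¹ = R.el a b (c + a * b) := by
  rw [inv_eq_iff_mul_eq_one, R.el_mul hZ]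
  have h1 : c + (c + a * b) + a * b = 0 := by
    rw [show c + (c + a * b) + a * b = (c + c) + (a * b + a * b) by ring,
      CharTwo.add_self_eq_zero, CharTwo.add_self_eq_zero, add_zero]
  rw [CharTwo.add_self_eq_zero, CharTwo.add_self_eq_zero, h1, R.el_zero hZ]

theorem mem_U {g : G} : g ∈ R.U ↔ ∃ a b c : F, g = R.el a b c := by
  constructor
  · intro hg
    refine Subgroup.closure_induction (p := fun g _ => ∃ a b c : F, g = R.el a b c) ?_ ?_ ?_ ?_ hg
    · rintro g ⟨i, j, h, s, rfl⟩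
      have hcases : (i = 0 ∧ j = 1) ∨ (i = 1 ∧ j = 2) ∨ (i = 0 ∧ j = 2) := by
        revert i j; decide
      rcases hcases with ⟨rfl, rfl⟩ | ⟨rfl, rfl⟩ | ⟨rfl, rfl⟩
      · exact ⟨s, 0, 0, by rw [el, R.x_zero hZ h12, R.x_zero hZ h02, mul_one, mul_one]⟩
      · exact ⟨0, s, 0, by rw [el, R.x_zero hZ h01, R.x_zero hZ h02, mul_one, one_mul]⟩
      · exact ⟨0, 0, s, by rw [el, R.x_zero hZ h01, R.x_zero hZ h12, one_mul, one_mul]⟩
    · exact ⟨0, 0, 0, (R.el_zero hZ).symm⟩
    · rintro x y _ _ ⟨a, b, c, rfl⟩ ⟨a', b', c', rfl⟩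
      exact ⟨_, _, _, R.el_mul hZ a b c a' b' c'⟩
    · rintro x _ ⟨a, b, c, rfl⟩
      exact ⟨_, _, _, R.el_inv hZ a b c⟩
  · rintro ⟨a, b, c, rfl⟩
    exact R.el_mem_U a b c

theorem pow_four_U {g : G} (hg : g ∈ R.U) : g ^ 4 = 1 := by
  obtain ⟨a, b, c, rfl⟩ := (R.mem_U hZ).1 hg
  rw [show 4 = 2 * 2 by norm_num, pow_mul, pow_two, pow_two, R.el_sq hZ, R.two h02]

theorem isPGroup_U : IsPGroup 2 R.U := fun g =>
  ⟨2, Subtype.ext (by simpa only [_root_.Nat.reducePow, _root_.SubmonoidClass.coe_pow, _root_.OneMemClass.coe_one] using R.pow_four_U hZ g.2)⟩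

theorem card_U [Finite F] : Nat.card R.U = Nat.card F ^ 3 := by
  have e : (F × F × F) ≃ R.U := Equiv.ofBijective
    (fun p => ⟨R.el p.1 p.2.1 p.2.2, R.el_mem_U _ _ _⟩) (by
      constructor
      · rintro ⟨a, b, c⟩ ⟨a', b', c'⟩ h
        have h1 := (R.el_inj).1 (congrArg Subtype.val h)
        obtain ⟨rfl, rfl, rfl⟩ := h1
        rfl
      · rintro ⟨g, hg⟩
        obtain ⟨a, b, c, rfl⟩ := (R.mem_U hZ).1 hg
        exact ⟨(a, b, c), rfl⟩)
  rw [← Nat.card_congr e, Nat.card_prod, Nat.card_prod]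
  ring

omit hZ in
theorem isPGroup_upper [Finite F] : IsPGroup 2 ((upper 3 F).map pr) := by
  have : Fact (Nat.Prime 2) := ⟨Nat.prime_two⟩
  have := Fintype.ofFinite F
  obtain ⟨S, hS⟩ := exists_sylow (F := F) 3 2
  rw [← hS]
  exact S.isPGroup'

theorem subgroupOf_U_eq [Finite G] [Finite F] :
    R.U.subgroupOf A = (R.cover hZ).up (isPGroup_upper (F := F)) := by
  ext g
  rw [(R.cover hZ).mem_up, Subgroup.mem_subgroupOf]
  constructor
  · intro hg
    refine ⟨⟨2, Subtype.ext (by simpa only [_root_.Nat.reducePow, _root_.SubmonoidClass.coe_pow, _root_.OneMemClass.coe_one] using R.pow_four_U hZ hg)⟩, ?_⟩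
    obtain ⟨a, b, c, hc⟩ := (R.mem_U hZ).1 hg
    have h1 : g = ⟨R.el a b c, R.el_mem_A a b c⟩ := Subtype.ext hc
    rw [h1, f_el]
    exact ⟨_, upper_el_mem a b c, rfl⟩
  · rintro ⟨h1, u, hu, h2⟩
    obtain ⟨a, b, c, rfl⟩ := exists_upper_el hu
    have h3 : g = ⟨R.el a b c, R.el_mem_A a b c⟩ := by
      apply (R.cover hZ).eq_of_map_eq h1
      · exact ⟨2, Subtype.ext (by simpa only [_root_.Nat.reducePow, _root_.SubmonoidClass.mk_pow, _root_.OneMemClass.coe_one] using R.pow_four_U hZ (R.el_mem_U a b c))⟩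
      · rw [← h2, f_el]
    rw [h3]
    exact R.el_mem_U a b c

/-- `U` has odd index in `A`. -/
theorem not_two_dvd_relIndex [Finite G] [Finite F] : ¬ 2 ∣ R.U.relIndex A := by
  have : Fact (Nat.Prime 2) := ⟨Nat.prime_two⟩
  have := Fintype.ofFinite F
  obtain ⟨S, hS⟩ := exists_sylow (F := F) 3 2
  have h1 : ¬ 2 ∣ ((upper 3 F).map pr : Subgroup (Matrix.ProjectiveSpecialLinearGroup (Fin 3) F)).index := by
    rw [← hS]
    exact S.not_dvd_index
  have h2 := (R.cover hZ).card_two_part (isPGroup_upper (F := F)) h1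
  rw [← R.subgroupOf_U_eq hZ] at h2
  exact h2

/-- `U` is a Sylow 2-subgroup of `A`. -/
theorem exists_sylow_U [Finite G] [Finite F] :
    ∃ S : Sylow 2 ↥A, (S : Subgroup ↥A) = R.U.subgroupOf A := by
  have : Fact (Nat.Prime 2) := ⟨Nat.prime_two⟩
  have hP : IsPGroup 2 (R.U.subgroupOf A) := by
    rw [R.subgroupOf_U_eq hZ]
    exact (R.cover hZ).isPGroup_up _
  exact ⟨hP.toSylow (R.not_two_dvd_relIndex hZ), rfl⟩

/-- The centre of `U` is the root group `x 0 2`. -/
theorem mem_center_U [Finite F] {g : G} (hg : g ∈ R.U) (h : ∀ v ∈ R.U, g * v = v * g) :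
    ∃ c, g = R.x 0 2 c := by
  obtain ⟨a, b, c, rfl⟩ := (R.mem_U hZ).1 hg
  have h1 := h _ (R.el_mem_U 1 0 0)
  have h2 := h _ (R.el_mem_U 0 1 0)
  rw [R.el_mul hZ, R.el_mul hZ, R.el_inj] at h1 h2
  have hb : b = 0 := by
    have := h1.2.2
    simpa using this
  have ha : a = 0 := by
    have := h2.2.2
    simpa using this.symm
  refine ⟨c, ?_⟩
  rw [ha, hb, el, R.x_zero hZ h01, R.x_zero hZ h12, one_mul, one_mul]

/-- Conjugates of the elements of `U` by a torus element. -/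
theorem Tor.conj_el {R : FrameL3 A F} {y : G} {c : Fin 3 → F} (h : R.Tor y c) (a b d : F) :
    y * R.el a b d * y⁻¹
      = R.el (c 0 * a * (c 1)⁻¹) (c 1 * b * (c 2)⁻¹) (c 0 * d * (c 2)⁻¹) := by
  unfold el
  rw [← h.conj hZ h01, ← h.conj hZ h12, ← h.conj hZ h02]
  group

theorem Tor.normalizes {R : FrameL3 A F} {y : G} {c : Fin 3 → F} (h : R.Tor y c) :
    y ∈ Subgroup.normalizer (R.U : Set G) := by
  have key : ∀ {y : G} {c : Fin 3 → F}, R.Tor y c → ∀ g ∈ R.U, y * g * y⁻¹ ∈ R.U := by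
    intro y c h g hg
    obtain ⟨a, b, d, rfl⟩ := (R.mem_U hZ).1 hg
    rw [h.conj_el hZ]
    exact R.el_mem_U _ _ _
  rw [Subgroup.mem_normalizer_iff]
  intro g
  refine ⟨key h g, fun hg => ?_⟩
  have := key h.inv _ hg
  simpa [mul_assoc] using this

/-- `A` is generated by the root elements modulo its centre. -/
theorem exists_closure_mul {g : G} (hg : g ∈ A) :
    ∃ u ∈ Subgroup.closure {g : G | ∃ (i j : Fin 3) (_ : i ≠ j) (s : F), g = R.x i j s},
      ∃ z ∈ A, (∀ a ∈ A, z * a = a * z) ∧ g = u * z := by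
  obtain ⟨M, hM⟩ := pr_surjective (R.f ⟨g, hg⟩)
  have key : ∀ M : Matrix.SpecialLinearGroup (Fin 3) F,
      ∃ u : ↥A, (u : G) ∈ Subgroup.closure
        {g : G | ∃ (i j : Fin 3) (_ : i ≠ j) (s : F), g = R.x i j s} ∧ R.f u = pr M := by
    intro M
    refine Cfsg.Agent.LieClassical.SLGen.transvection_induction
      (fun M => ∃ u : ↥A, (u : G) ∈ Subgroup.closure
        {g : G | ∃ (i j : Fin 3) (_ : i ≠ j) (s : F), g = R.x i j s} ∧ R.f u = pr M) ?_ ?_ M
    · intro i j h c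
      exact ⟨R.X h c, Subgroup.subset_closure ⟨i, j, h, c, rfl⟩, R.f_X h c⟩
    · rintro B C ⟨u, hu, hu'⟩ ⟨v, hv, hv'⟩
      exact ⟨u * v, mul_mem hu hv, by rw [map_mul, map_mul, hu', hv']⟩
  obtain ⟨u, hu, hu'⟩ := key M
  refine ⟨u, hu, (u : G)⁻¹ * g, mul_mem (inv_mem u.2) hg, ?_, by group⟩
  have h1 : u⁻¹ * ⟨g, hg⟩ ∈ Subgroup.center ↥A := by
    rw [← R.mem_ker_f, MonoidHom.mem_ker, map_mul, map_inv, hu', hM, inv_mul_cancel]
  intro a ha
  exact (congrArg Subtype.val (Subgroup.mem_center_iff.1 h1 ⟨a, ha⟩)).symm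

/-- If `A` is perfect it is generated by the root elements. -/
theorem closure_eq (hA : ⁅A, A⁆ = A) :
    Subgroup.closure {g : G | ∃ (i j : Fin 3) (_ : i ≠ j) (s : F), g = R.x i j s} = A := by
  apply le_antisymm
  · rw [Subgroup.closure_le]
    rintro g ⟨i, j, h, s, rfl⟩
    exact R.mem h s
  · have h1 : ⁅A, A⁆ ≤
        Subgroup.closure {g : G | ∃ (i j : Fin 3) (_ : i ≠ j) (s : F), g = R.x i j s} := by
      rw [Subgroup.commutator_le]
      intro g hg k hk
      obtain ⟨u, hu, z, hz, hzc, rfl⟩ := R.exists_closure_mul hZ hg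
      obtain ⟨v, hv, z', hz', hzc', rfl⟩ := R.exists_closure_mul hZ hk
      have huA : u ∈ A := by
        have := mul_mem hg (inv_mem hz)
        simpa using this
      have hvA : v ∈ A := by
        have := mul_mem hk (inv_mem hz')
        simpa using this
      have e : ⁅u * z, v * z'⁆ = ⁅u, v⁆ := by
        rw [commutatorElement_def, commutatorElement_def]
        have c1 : z * (v * z') = v * z' * z := hzc _ hk
        have c2 : z' * u⁻¹ = u⁻¹ * z' := hzc' _ (inv_mem huA)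
        calc u * z * (v * z') * (u * z)⁻¹ * (v * z')⁻¹
            = u * (z * (v * z')) * z⁻¹ * u⁻¹ * z'⁻¹ * v⁻¹ := by group
          _ = u * v * (z' * u⁻¹) * z'⁻¹ * v⁻¹ := by rw [c1]; group
          _ = u * v * u⁻¹ * v⁻¹ := by rw [c2]; group
      rw [e, commutatorElement_def]
      exact mul_mem (mul_mem (mul_mem hu hv) (inv_mem hu)) (inv_mem hv)
    rw [hA] at h1
    exact h1

/-- All root elements `≠ 1` in one root group are conjugate under the torus. -/
theorem conj_x02 {i j k : Fin 3} (hij : i ≠ j) (hik : i ≠ k) (hkj : k ≠ j) {s t : F} (hs : s ≠ 0)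
    (ht : t ≠ 0) : ∃ y ∈ A, y * R.x i j s * y⁻¹ = R.x i j t := by
  have hst : t / s ≠ 0 := div_ne_zero ht hs
  have h := R.tor_w hZ hik hst
  refine ⟨_, h.mem, ?_⟩
  rw [h.conj hZ hij]
  congr 1
  simp only [if_true, if_neg hij.symm, if_neg hkj.symm, inv_one, mul_one]
  rw [div_mul_cancel₀ _ hs]

/-- All involutions of `A` are conjugate in `A`. -/
theorem involution_conj [Finite G] [Finite F] {g : G} (hg : g ∈ A) (hg2 : g * g = 1)
    (hg1 : g ≠ 1) : ∃ y ∈ A, y * g * y⁻¹ = R.x 0 2 1 := by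
  have : Fact (Nat.Prime 2) := ⟨Nat.prime_two⟩
  obtain ⟨S, hS⟩ := R.exists_sylow_U hZ
  -- conjugate into U
  have hP : IsPGroup 2 (Subgroup.zpowers (⟨g, hg⟩ : ↥A)) := by
    intro x
    refine ⟨1, ?_⟩
    obtain ⟨n, hn⟩ := Subgroup.mem_zpowers_iff.1 x.2
    apply Subtype.ext
    have h2 : (⟨g, hg⟩ : ↥A) * ⟨g, hg⟩ = 1 := Subtype.ext hg2
    rw [pow_one, SubmonoidClass.coe_pow, ← hn, OneMemClass.coe_one, pow_two]
    rw [← (Commute.refl (⟨g, hg⟩ : ↥A)).mul_zpow, h2, _root_.one_zpow]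
  obtain ⟨T, hT⟩ := hP.exists_le_sylow
  obtain ⟨y, hy⟩ := MulAction.exists_smul_eq ↥A T S
  have h1 : (y : G) * g * (y : G)⁻¹ ∈ R.U := by
    have h2 : y * ⟨g, hg⟩ * y⁻¹ ∈ (S : Subgroup ↥A) := by
      rw [← hy, Sylow.coe_subgroup_smul, Subgroup.mem_pointwise_smul_iff_inv_smul_mem]
      have : (MulAut.conj y)⁻¹ • (y * ⟨g, hg⟩ * y⁻¹) = ⟨g, hg⟩ :=
        (MulAut.conj y).symm_apply_apply _
      rw [this]
      exact hT (Subgroup.mem_zpowers _)
    rw [hS, Subgroup.mem_subgroupOf] at h2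
    exact h2
  obtain ⟨a, b, c, habc⟩ := (R.mem_U hZ).1 h1
  have hsq : R.el a b c * R.el a b c = 1 := by
    rw [← habc]
    calc (y : G) * g * (y : G)⁻¹ * ((y : G) * g * (y : G)⁻¹) = (y : G) * (g * g) * (y : G)⁻¹ := by
          group
      _ = 1 := by rw [hg2]; group
  have hne : R.el a b c ≠ 1 := by
    rw [← habc]
    intro h2
    apply hg1
    have : g = (y : G)⁻¹ * ((y : G) * g * (y : G)⁻¹) * y := by group
    rw [this, h2]; group
  rw [R.el_sq hZ, R.x_eq_one hZ h02] at hsq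
  -- it suffices to conjugate el a b c
  suffices h3 : ∃ v ∈ A, v * R.el a b c * v⁻¹ = R.x 0 2 1 by
    obtain ⟨v, hv, hv'⟩ := h3
    refine ⟨v * y, mul_mem hv y.2, ?_⟩
    rw [← hv', ← habc]; group
  have step : ∀ (v : G) (s : F) (i j k : Fin 3), i ≠ j → i ≠ k → k ≠ j → v ∈ A → s ≠ 0 →
      v * R.el a b c * v⁻¹ = R.x i j s →
      (∃ n ∈ A, n * R.x i j 1 * n⁻¹ = R.x 0 2 1) → ∃ v ∈ A, v * R.el a b c * v⁻¹ = R.x 0 2 1 := by
    rintro v s i j k hij hik hkj hv hs he ⟨n, hn, hn'⟩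
    obtain ⟨y, hy, hy'⟩ := R.conj_x02 hZ hij hik hkj hs one_ne_zero
    refine ⟨n * (y * v), mul_mem hn (mul_mem hy hv), ?_⟩
    rw [← hn', ← hy', ← he]; group
  rcases mul_eq_zero.1 hsq with ha | hb
  · -- a = 0 : x12 b * x02 c
    subst ha
    have e0 : R.el 0 b c = R.x 1 2 b * R.x 0 2 c := by rw [el, R.x_zero hZ h01, one_mul]
    by_cases hb : b = 0
    · subst hb
      have hc : c ≠ 0 := by
        rintro rfl
        exact hne (R.el_zero hZ)
      refine step 1 c 0 2 1 h02 h01 h12 (one_mem _) hc ?_ ⟨1, one_mem _, by group⟩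
      rw [e0, R.x_zero hZ h12, one_mul]; group
    · refine step (R.x 0 1 (c * b⁻¹)) b 1 2 0 h12 h01.symm h02 (R.mem h01 _) hb ?_ ?_
      · have e1 := R.conj hZ h01 h12 h02 (c * b⁻¹) b
        have e2 := R.comm hZ h01 h02 (by decide) (by decide) (c * b⁻¹) c
        have e3 := R.comm hZ h12 h02 (by decide) (by decide) b c
        rw [inv_mul_cancel_right₀ hb] at e1
        calc R.x 0 1 (c * b⁻¹) * R.el 0 b c * (R.x 0 1 (c * b⁻¹))⁻¹
            = (R.x 0 1 (c * b⁻¹) * R.x 1 2 b * (R.x 0 1 (c * b⁻¹))⁻¹) *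
              ((R.x 0 1 (c * b⁻¹) * R.x 0 2 c) * (R.x 0 1 (c * b⁻¹))⁻¹) := by
                rw [e0]; group
          _ = R.x 1 2 b := by
                rw [e1, e2, mul_inv_cancel_right, ← e3, mul_assoc, R.two h02, mul_one]
      · refine ⟨R.w 0 1 1, R.w_mem h01 1, ?_⟩
        have := R.w_conj_one hZ h01 h12 1
        rw [this]
        rfl
  · -- b = 0 : x01 a * x02 c
    subst hb
    have e0 : R.el a 0 c = R.x 0 1 a * R.x 0 2 c := by rw [el, R.x_zero hZ h12, mul_one]
    by_cases ha : a = 0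
    · subst ha
      have hc : c ≠ 0 := by
        rintro rfl
        exact hne (R.el_zero hZ)
      refine step 1 c 0 2 1 h02 h01 h12 (one_mem _) hc ?_ ⟨1, one_mem _, by group⟩
      rw [e0, R.x_zero hZ h01, one_mul]; group
    · refine step (R.x 1 2 (a⁻¹ * c)) a 0 1 2 h01 h02 h12.symm (R.mem h12 _) ha ?_ ?_
      · have e1 := R.conj' hZ h01 h12 h02 a (a⁻¹ * c)
        have e2 := R.comm hZ h12 h02 (by decide) (by decide) (a⁻¹ * c) c
        have e3 := R.comm hZ h01 h02 (by decide) (by decide) a c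
        rw [mul_inv_cancel_left₀ ha] at e1
        calc R.x 1 2 (a⁻¹ * c) * R.el a 0 c * (R.x 1 2 (a⁻¹ * c))⁻¹
            = (R.x 1 2 (a⁻¹ * c) * R.x 0 1 a * (R.x 1 2 (a⁻¹ * c))⁻¹) *
              ((R.x 1 2 (a⁻¹ * c) * R.x 0 2 c) * (R.x 1 2 (a⁻¹ * c))⁻¹) := by
                rw [e0]; group
          _ = R.x 0 1 a := by
                rw [e1, e2, mul_inv_cancel_right, ← e3, mul_assoc, R.two h02, mul_one]
      · refine ⟨R.w 1 2 1, R.w_mem h12 1, ?_⟩
        have := R.w_conj_one hZ h12 h01 1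
        rw [this]
        rfl

end Odd

end Cfsg.Agent.StdRank2.FrameL3
end

-- part: StdRank2/FrameL3Def
section
/-!
# Frames of type `L₃(F)` of a subgroup `A` with odd centre, and 2-elements normalising `A`
-/

set_option autoImplicit false

namespace Cfsg.Agent.StdRank2

open Subgroup Cfsg.Agent.StdRank2.OutL3 Cfsg.Agent.StdRank2.OutAct

namespace FrameL3

variable {G : Type*} [Group G] {A : Subgroup G} {F : Type*} [Field F] (fr : FrameL3 A F)

theorem map_X {i j : Fin 3} (h : i ≠ j) (s : F) :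
    fr.e (QuotientGroup.mk ⟨fr.x i j s, fr.mem h s⟩) = OutL3.X h s := fr.map h s

theorem pow_two_pow {i j : Fin 3} (h : i ≠ j) (s : F) : fr.x i j s ^ 2 ^ 1 = 1 := by
  rw [pow_one, pow_two, fr.two h]

/-- The rescaled frame. -/
noncomputable def rescale (c : Fin 3 → Fˣ) : FrameL3 A F where
  e := fr.e.trans (tor c)⁻¹
  x i j s := fr.x i j ((c i : F) * s * (c j : F)⁻¹)
  mem h s := fr.mem h _
  map h s := by
    show (tor c)⁻¹ (fr.e _) = OutL3.X h s
    rw [fr.map_X h, ← tor_X, MulAut.inv_apply_self]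
  two h s := fr.two h _

theorem rescale_x (c : Fin 3 → Fˣ) (i j : Fin 3) (s : F) :
    (fr.rescale c).x i j s = fr.x i j ((c i : F) * s * (c j : F)⁻¹) := rfl

theorem rescale_U (c : Fin 3 → Fˣ) : (fr.rescale c).U = fr.U := by
  apply le_antisymm
  · rw [U, closure_le]
    rintro _ ⟨i, j, h, s, rfl⟩
    exact fr.x_mem_U h _
  · rw [U, closure_le]
    rintro _ ⟨i, j, h, s, rfl⟩
    have h1 : fr.x i j s = (fr.rescale c).x i j ((c i : F)⁻¹ * s * (c j : F)) := by
      rw [rescale_x]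
      congr 1
      have := (c i).ne_zero
      have := (c j).ne_zero
      field_simp
    rw [h1]
    exact (fr.rescale c).x_mem_U h _

/-- The images of the elements of `U`. -/
theorem map_mem_Ubar [Finite F] {u : G} (hu : u ∈ fr.U) :
    fr.e (QuotientGroup.mk ⟨u, fr.U_le hu⟩) ∈ Ubar F := by
  have key : ∀ (u : G) (hu : u ∈ fr.U), ∀ h : u ∈ A, fr.e (QuotientGroup.mk ⟨u, h⟩) ∈ Ubar F := by
    intro u hu
    induction hu using closure_induction with
    | mem _ h =>
      obtain ⟨i, j, h, s, rfl⟩ := h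
      intro _
      rw [fr.map_X h.ne s]
      exact X_mem h s
    | one =>
      intro h
      have : (⟨1, h⟩ : A) = 1 := rfl
      rw [this, QuotientGroup.mk_one, map_one]
      exact one_mem _
    | mul a b ha hb iha ihb =>
      intro h
      have h1 : a ∈ A := fr.U_le ha
      have h2 : b ∈ A := fr.U_le hb
      have : (⟨a * b, h⟩ : A) = ⟨a, h1⟩ * ⟨b, h2⟩ := rfl
      rw [this, QuotientGroup.mk_mul, map_mul]
      exact mul_mem (iha h1) (ihb h2)
    | inv a ha iha =>
      intro h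
      have h1 : a ∈ A := fr.U_le ha
      have : (⟨a⁻¹, h⟩ : A) = ⟨a, h1⟩⁻¹ := rfl
      rw [this, QuotientGroup.mk_inv, map_inv]
      exact inv_mem (iha h1)
  exact key u hu _

theorem exists_of_mem_Ubar [Finite F] {x : Matrix.ProjectiveSpecialLinearGroup (Fin 3) F} (hx : x ∈ Ubar F) :
    ∃ (u : G) (hu : u ∈ fr.U), fr.e (QuotientGroup.mk ⟨u, fr.U_le hu⟩) = x := by
  obtain ⟨r, s, t, rfl⟩ := (mem_Ubar x).1 hx
  have h1 : fr.x 0 1 r ∈ fr.U := fr.x_mem_U (by decide) r
  have h2 : fr.x 1 2 s ∈ fr.U := fr.x_mem_U (by decide) s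
  have h3 : fr.x 0 2 t ∈ fr.U := fr.x_mem_U (by decide) t
  refine ⟨fr.x 0 1 r * fr.x 1 2 s * fr.x 0 2 t, mul_mem (mul_mem h1 h2) h3, ?_⟩
  rw [← fr.map_X (i := 0) (j := 1) (by decide) r, ← fr.map_X (i := 1) (j := 2) (by decide) s,
    ← fr.map_X (i := 0) (j := 2) (by decide) t, ← map_mul, ← map_mul, ← QuotientGroup.mk_mul, ← QuotientGroup.mk_mul]
  rfl

theorem X_injective [CharP F 2] {i j : Fin 3} (h : i ≠ j) : Function.Injective (OutL3.X (F := F) h) := by
  intro s t hst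
  obtain ⟨c, hc⟩ := Cfsg.Agent.ClassicalGeometry.AutPSL.Root.exists_smul_of_pr_eq hst
  have h1 := congrFun (congrFun hc i) i
  have h2 := congrFun (congrFun hc i) j
  have h3 : ∀ (a : F) (k l : Fin 3), (Matrix.SpecialLinearGroup.transvection h a : Matrix (Fin 3) (Fin 3) F) k l =
      (1 : Matrix (Fin 3) (Fin 3) F) k l + Matrix.single i j a k l := fun _ _ _ => rfl
  rw [Matrix.smul_apply, h3, h3, Matrix.one_apply_eq, Matrix.single_apply, Matrix.single_apply,
    if_neg (fun e => h e.2.symm), if_neg (fun e => h e.2.symm), add_zero, smul_eq_mul, mul_one] at h1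
  rw [Matrix.smul_apply, h3, h3, Matrix.one_apply_ne h, Matrix.single_apply, Matrix.single_apply,
    if_pos ⟨rfl, rfl⟩, if_pos ⟨rfl, rfl⟩, zero_add, zero_add, smul_eq_mul, ← h1, one_mul] at h2
  exact h2.symm

theorem fd_injective [CharP F 2] : Function.Injective (fd (F := F)) := by
  intro σ τ h
  ext s
  have h1 : fd σ (OutL3.X (i := 0) (j := 1) (by decide) s) = fd τ (OutL3.X (i := 0) (j := 1) (by decide) s) := by
    rw [h]
  rw [fd_X, fd_X] at h1
  exact X_injective _ h1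

variable [Finite G] [Finite F] [CharP F 2]

/-- **2-subgroups of the normaliser of `A` in adapted coordinates.** -/
theorem exists_adapted (hZ : Odd (Nat.card (center ↥A))) (T : Subgroup G) (hT : IsPGroup 2 T)
    (hTA : T ≤ normalizer (A : Set G)) (hTU : ∀ y ∈ T, ∀ u ∈ fr.U, y * u * y⁻¹ ∈ fr.U) :
    ∃ c : Fin 3 → Fˣ, ∀ y ∈ T, ∃ u ∈ fr.U, ∃ σ : F ≃+* F, (∃ k, σ ^ 2 ^ k = 1) ∧
      ((∀ i j : Fin 3, i ≠ j → ∀ s, (u * y) * (fr.rescale c).x i j s * (u * y)⁻¹ = (fr.rescale c).x i j (σ s)) ∨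
       (∀ i j : Fin 3, i ≠ j → ∀ s,
          (u * y) * (fr.rescale c).x i j s * (u * y)⁻¹ = (fr.rescale c).x j.rev i.rev (σ s))) := by
  set D : Subgroup (MulAut (Matrix.ProjectiveSpecialLinearGroup (Fin 3) F)) :=
    (T.subgroupOf (normalizer (A : Set G))).map (act A fr.e) with hD
  have hD2 : IsPGroup 2 D := by
    apply IsPGroup.map
    exact hT.comap_of_injective (normalizer (A : Set G)).subtype (Subtype.val_injective)
  have hDU : ∀ d ∈ D, ∀ x ∈ Ubar F, d x ∈ Ubar F := by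
    rintro _ ⟨y, hy, rfl⟩ x hx
    obtain ⟨u, hu, rfl⟩ := fr.exists_of_mem_Ubar hx
    rw [act_mk]
    exact fr.map_mem_Ubar (hTU y hy u hu)
  obtain ⟨c, hc⟩ := OutL3.exists_frame D hD2 hDU
  refine ⟨c, fun y hy => ?_⟩
  have hyA := hTA hy
  obtain ⟨v, hv, p, hp, ⟨k, hk⟩, h⟩ := hc (act A fr.e ⟨y, hyA⟩) ⟨⟨y, hyA⟩, hy, rfl⟩
  obtain ⟨u, hu, rfl⟩ := fr.exists_of_mem_Ubar hv
  have huA := fr.U_le hu
  have huN : u⁻¹ ∈ normalizer (A : Set G) := inv_mem (le_normalizer huA)
  have huy : u⁻¹ * y ∈ normalizer (A : Set G) := mul_mem huN hyA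
  refine ⟨u⁻¹, inv_mem hu, ?_⟩
  -- the action of `u⁻¹ y` in the rescaled frame is `p`
  have hact : act A (fr.rescale c).e ⟨u⁻¹ * y, huy⟩ = p := by
    have h1 : act A fr.e ⟨u⁻¹ * y, huy⟩ = tor c * p * (tor c)⁻¹ := by
      have h2 : (⟨u⁻¹ * y, huy⟩ : ↥(normalizer (A : Set G))) = ⟨u⁻¹, huN⟩ * ⟨y, hyA⟩ := rfl
      rw [h2, map_mul, h, act_conj_mem fr.e (inv_mem huA) huN]
      have h3 : (⟨u⁻¹, inv_mem huA⟩ : A) = ⟨u, huA⟩⁻¹ := rfl
      rw [h3, QuotientGroup.mk_inv, map_inv, map_inv, inv_mul_cancel_left]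
    apply MulEquiv.ext
    intro z
    obtain ⟨w, rfl⟩ := (fr.rescale c).e.surjective z
    induction w using QuotientGroup.induction_on with
    | H a =>
      rw [act_mk]
      show (tor c)⁻¹ (fr.e (QuotientGroup.mk (cj huy a))) = p ((tor c)⁻¹ (fr.e (QuotientGroup.mk a)))
      have h4 := act_mk fr.e ⟨u⁻¹ * y, huy⟩ a
      rw [h1] at h4
      rw [← h4, MulAut.mul_apply, MulAut.mul_apply, MulAut.inv_apply_self]
  have hpsi : ∀ (σ : F ≃+* F) (i j : Fin 3) (h : i ≠ j) (s : F), p = fd σ →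
      (u⁻¹ * y) * (fr.rescale c).x i j s * (u⁻¹ * y)⁻¹ = (fr.rescale c).x i j (σ s) := by
    intro σ i j hij s hpσ
    refine conj_eq hZ (fr.rescale c).e huy ((fr.rescale c).mem hij s) ((fr.rescale c).mem hij _)
      ((fr.rescale c).pow_two_pow hij s) ((fr.rescale c).pow_two_pow hij _) ?_
    rw [hact, (fr.rescale c).map_X hij, (fr.rescale c).map_X hij, hpσ, fd_X]
  have hpsi' : ∀ (σ : F ≃+* F) (i j : Fin 3) (h : i ≠ j) (s : F), p = fd σ * gr →
      (u⁻¹ * y) * (fr.rescale c).x i j s * (u⁻¹ * y)⁻¹ = (fr.rescale c).x j.rev i.rev (σ s) := by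
    intro σ i j hij s hpσ
    refine conj_eq hZ (fr.rescale c).e huy ((fr.rescale c).mem hij s) ((fr.rescale c).mem (rev_ne hij.symm) _)
      ((fr.rescale c).pow_two_pow hij s) ((fr.rescale c).pow_two_pow (rev_ne hij.symm) _) ?_
    rw [hact, (fr.rescale c).map_X hij, (fr.rescale c).map_X (rev_ne hij.symm), hpσ, MulAut.mul_apply, gr_X, fd_X]
  obtain ⟨σ, hσ | hσ⟩ := hp
  · refine ⟨σ, ⟨k, ?_⟩, Or.inl fun i j hij s => hpsi σ i j hij s hσ⟩
    apply fd_injective
    rw [map_pow, ← hσ, hk, map_one]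
  · refine ⟨σ, ⟨k + 1, ?_⟩, Or.inr fun i j hij s => hpsi' σ i j hij s hσ⟩
    apply fd_injective
    have h1 : (fd σ * gr) ^ 2 = fd (σ ^ 2) := by
      rw [pow_two, mul_assoc, ← mul_assoc gr, gr_mul_fd, mul_assoc (fd σ), gr_mul_gr, mul_one, ← map_mul, pow_two]
    rw [map_one, pow_succ', pow_mul, map_pow, ← h1, ← hσ, ← pow_mul, mul_comm, pow_mul, hk, one_pow]

end FrameL3

end Cfsg.Agent.StdRank2
end

-- part: StdRank2/OutL3Rel
section
/-!
# Coordinates of the unipotent subgroup of a frame of type `L₃(F)`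
-/

set_option autoImplicit false

namespace Cfsg.Agent.StdRank2.OutL3Rel

open Matrix Cfsg.Agent.StdRank2.OutL3 Cfsg.Agent.StdRank2.OutAct Cfsg.Agent.StdRank2.FrameLift
open Cfsg.Agent.ClassicalGeometry.AutPSL.Root Cfsg.Agent.ClassicalGeometry.AutPSL.SylowU

variable {F : Type*} [Field F]

/-- Unitriangular matrices. -/
def ut (r s t : F) : Matrix.SpecialLinearGroup (Fin 3) F :=
  ⟨!![1, r, t; 0, 1, s; 0, 0, 1], by rw [Matrix.det_fin_three]; simp⟩

theorem ut_mul (r s t r' s' t' : F) : ut r s t * ut r' s' t' = ut (r + r') (s + s') (t + t' + r * s') := by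
  apply Subtype.ext
  show (!![1, r, t; 0, 1, s; 0, 0, 1] : Matrix (Fin 3) (Fin 3) F) * !![1, r', t'; 0, 1, s'; 0, 0, 1] = _
  ext i j
  show _ = (!![1, r + r', t + t' + r * s'; 0, 1, s + s'; 0, 0, 1] : Matrix (Fin 3) (Fin 3) F) i j
  (revert i j; simp only [Matrix.mul_apply, Fin.sum_univ_three, _root_.Fin.forall_fin_succ, _root_.Matrix.of_apply, _root_.Matrix.cons_val', _root_.Matrix.cons_val_fin_one, Fin.isValue, _root_.Matrix.cons_val_zero, _root_.Matrix.cons_val_one, _root_.Matrix.cons_val, _root_.mul_one, _root_.MulZeroClass.mul_zero, _root_.add_zero, _root_.Matrix.cons_val_succ, _root_.forall_const, _root_.true_and, _root_.one_mul, _root_.add_eq_right, _root_.mul_eq_zero, _root_.true_or, _root_.MulZeroClass.zero_mul, _root_.zero_add, _root_.and_self, _root_.implies_true, _root_.and_true]) <;> (repeat' with_reducible apply And.intro) <;> ring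

theorem ut_mem [Finite F] (r s t : F) : ut r s t ∈ upper 3 F := by
  rw [mem_upper]
  intro i j hij
  show (!![1, r, t; 0, 1, s; 0, 0, 1] : Matrix (Fin 3) (Fin 3) F) i j = _
  fin_cases i <;> fin_cases j <;> simp_all

theorem ut_inj {r s t r' s' t' : F} (h : ut r s t = ut r' s' t') : r = r' ∧ s = s' ∧ t = t' := by
  have h1 : (!![1, r, t; 0, 1, s; 0, 0, 1] : Matrix (Fin 3) (Fin 3) F) = !![1, r', t'; 0, 1, s'; 0, 0, 1] :=
    congrArg Subtype.val h
  refine ⟨?_, ?_, ?_⟩
  · simpa using congrFun (congrFun h1 0) 1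
  · simpa using congrFun (congrFun h1 1) 2
  · simpa using congrFun (congrFun h1 0) 2

theorem X01 (r : F) : X (i := 0) (j := 1) (by decide) r = pr (ut r 0 0) := by
  rw [X_eq]
  congr 1
  apply Subtype.ext
  show (1 : Matrix (Fin 3) (Fin 3) F) + single 0 1 r = !![1, r, 0; 0, 1, 0; 0, 0, 1]
  ext i j
  (revert i j; simp only [single_apply, _root_.Fin.forall_fin_succ, Fin.isValue, _root_.Matrix.add_apply, _root_.Matrix.of_apply, _root_.Matrix.cons_val', _root_.Matrix.cons_val_fin_one, _root_.one_ne_zero, _root_.and_false, ↓reduceIte, _root_.add_zero, _root_.Matrix.cons_val_zero, _root_.Matrix.cons_val_succ, _root_.Fin.succ_zero_eq_one, _root_.and_true, _root_.Fin.succ_one_eq_two, Fin.reduceEq, _root_.IsEmpty.forall_iff, _root_.Matrix.one_apply_eq, Nat.reduceAdd, _root_.ne_eq, _root_.zero_ne_one, _root_.not_false_eq_true, _root_.Matrix.one_apply_ne, _root_.zero_add, _root_.and_self, _root_.Fin.succ_ne_zero, _root_.true_and])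

theorem X12 (s : F) : X (i := 1) (j := 2) (by decide) s = pr (ut 0 s 0) := by
  rw [X_eq]
  congr 1
  apply Subtype.ext
  show (1 : Matrix (Fin 3) (Fin 3) F) + single 1 2 s = !![1, 0, 0; 0, 1, s; 0, 0, 1]
  ext i j
  (revert i j; simp only [single_apply, _root_.Fin.forall_fin_succ, Fin.isValue, _root_.Matrix.add_apply, _root_.Matrix.of_apply, _root_.Matrix.cons_val', _root_.Matrix.cons_val_fin_one, Fin.reduceEq, _root_.and_false, ↓reduceIte, _root_.add_zero, _root_.Matrix.cons_val_zero, _root_.Matrix.cons_val_succ, _root_.Fin.succ_zero_eq_one, _root_.Fin.succ_one_eq_two, _root_.and_true, _root_.IsEmpty.forall_iff, _root_.Matrix.one_apply_eq, Nat.reduceAdd, _root_.ne_eq, _root_.zero_ne_one, _root_.not_false_eq_true, _root_.Matrix.one_apply_ne, _root_.one_ne_zero, _root_.and_self, _root_.Fin.succ_ne_zero, _root_.zero_add, _root_.true_and])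

theorem X02 (t : F) : X (i := 0) (j := 2) (by decide) t = pr (ut 0 0 t) := by
  rw [X_eq]
  congr 1
  apply Subtype.ext
  show (1 : Matrix (Fin 3) (Fin 3) F) + single 0 2 t = !![1, 0, t; 0, 1, 0; 0, 0, 1]
  ext i j
  (revert i j; simp only [single_apply, _root_.Fin.forall_fin_succ, Fin.isValue, _root_.Matrix.add_apply, _root_.Matrix.of_apply, _root_.Matrix.cons_val', _root_.Matrix.cons_val_fin_one, Fin.reduceEq, _root_.and_false, ↓reduceIte, _root_.add_zero, _root_.Matrix.cons_val_zero, _root_.Matrix.cons_val_succ, _root_.Fin.succ_zero_eq_one, _root_.Fin.succ_one_eq_two, _root_.and_true, _root_.IsEmpty.forall_iff, _root_.Matrix.one_apply_eq, Nat.reduceAdd, _root_.ne_eq, _root_.zero_ne_one, _root_.not_false_eq_true, _root_.Matrix.one_apply_ne, _root_.zero_add, _root_.and_self, _root_.Fin.succ_ne_zero, _root_.true_and])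

theorem pr_ut_inj [Finite F] {r s t r' s' t' : F} (h : pr (ut r s t) = pr (ut r' s' t')) :
    r = r' ∧ s = s' ∧ t = t' :=
  ut_inj (pr_injOn_upper (ut_mem r s t) (ut_mem r' s' t') h)

section G

variable {G : Type*} [Group G] [Finite G] {A : Subgroup G} [Finite F] [CharP F 2] (fr : FrameL3 A F)
  (hZ : Odd (Nat.card (Subgroup.center ↥A)))

omit [Finite G] [Finite F] [CharP F 2] in
theorem is2_x {i j : Fin 3} (h : i ≠ j) (s : F) : Is2 (⟨fr.x i j s, fr.mem h s⟩ : A) :=
  is2_of_sq (Subtype.ext (fr.two h s))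

/-- The map of `A` onto `PSL₃(F)`. -/
noncomputable def cov : ↥A →* Matrix.ProjectiveSpecialLinearGroup (Fin 3) F :=
  fr.e.toMonoidHom.comp (QuotientGroup.mk' (Subgroup.center ↥A))

omit [Finite G] [Finite F] [CharP F 2] in
theorem cov_apply (a : A) : cov fr a = fr.e (QuotientGroup.mk a) := rfl

theorem isPGroup_Ubar : IsPGroup 2 (Ubar F) := by
  have : Fact (Nat.Prime 2) := ⟨Nat.prime_two⟩
  have := Fintype.ofFinite F
  obtain ⟨S, hS⟩ := exists_sylow (F := F) 3 2
  show IsPGroup 2 ((upper 3 F).map pr)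
  rw [← hS]
  exact S.isPGroup'

include hZ

theorem cover : OddCover (cov fr) := OddCover.of_center fr.e hZ

omit [Finite G] in
theorem U_is2 {g : G} (hg : g ∈ fr.U) [Finite A] : Is2 g := by
  have hc : OddCover (cov fr) := OddCover.of_center fr.e hZ
  have key : ∀ g ∈ fr.U, ∀ h : g ∈ A, (⟨g, h⟩ : A) ∈ hc.up isPGroup_Ubar := by
    intro g hg
    induction hg using Subgroup.closure_induction with
    | mem _ h =>
      obtain ⟨i, j, h, s, rfl⟩ := h
      intro _
      rw [hc.mem_up]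
      exact ⟨is2_x fr h.ne s, by rw [cov_apply, fr.map_X h.ne s]; exact X_mem h s⟩
    | one => intro h; exact one_mem _
    | mul a b ha hb iha ihb => intro h; exact mul_mem (iha (fr.U_le ha)) (ihb (fr.U_le hb))
    | inv a ha iha => intro h; exact inv_mem (iha (fr.U_le ha))
  have h1 := ((hc.mem_up isPGroup_Ubar).1 (key g hg (fr.U_le hg))).1
  obtain ⟨n, hn⟩ := h1
  exact ⟨n, congrArg Subtype.val hn⟩

/-- Elements of `U` are determined by their images. -/
theorem eq_of_cov {g h : G} (hg : g ∈ fr.U) (hh : h ∈ fr.U)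
    (e : cov fr ⟨g, fr.U_le hg⟩ = cov fr ⟨h, fr.U_le hh⟩) : g = h := by
  obtain ⟨n, hn⟩ := U_is2 fr hZ hg
  obtain ⟨m, hm⟩ := U_is2 fr hZ hh
  have := (cover fr hZ).eq_of_map_eq (a := ⟨g, fr.U_le hg⟩) (b := ⟨h, fr.U_le hh⟩) ⟨n, Subtype.ext hn⟩
    ⟨m, Subtype.ext hm⟩ e
  exact congrArg Subtype.val this

omit [Finite G] [Finite F] [CharP F 2] hZ

/-- Elements of `U` in Heisenberg coordinates. -/
def u (r s t : F) : G := fr.x 0 1 r * fr.x 1 2 s * fr.x 0 2 (t - r * s)

theorem u_eq_el (r s t : F) : u fr r s t = fr.el r s (t - r * s) := rfl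

theorem u_mem (r s t : F) : u fr r s t ∈ fr.U :=
  mul_mem (mul_mem (fr.x_mem_U (by decide) _) (fr.x_mem_U (by decide) _)) (fr.x_mem_U (by decide) _)

theorem cov_u (r s t : F) : cov fr ⟨u fr r s t, fr.U_le (u_mem fr r s t)⟩ = pr (ut r s t) := by
  have h1 : (⟨u fr r s t, fr.U_le (u_mem fr r s t)⟩ : A) =
      ⟨fr.x 0 1 r, fr.mem (by decide) r⟩ * ⟨fr.x 1 2 s, fr.mem (by decide) s⟩ *
        ⟨fr.x 0 2 (t - r * s), fr.mem (by decide) _⟩ := rfl
  rw [h1, map_mul, map_mul, cov_apply, cov_apply, cov_apply, fr.map_X (by decide), fr.map_X (by decide),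
    fr.map_X (by decide), X01, X12, X02, ← map_mul, ← map_mul, ut_mul, ut_mul]
  congr 1
  apply Subtype.ext
  show (!![1, r + 0 + 0, _; 0, 1, _; 0, 0, 1] : Matrix (Fin 3) (Fin 3) F) = !![1, r, t; 0, 1, s; 0, 0, 1]
  congr 1
  ext i j
  (revert i j; simp [_root_.Fin.forall_fin_succ])

variable [Finite G] [Finite F] [CharP F 2]
include hZ

theorem u_mul (r s t r' s' t' : F) :
    u fr r s t * u fr r' s' t' = u fr (r + r') (s + s') (t + t' + r * s') := by
  apply eq_of_cov fr hZ (mul_mem (u_mem fr _ _ _) (u_mem fr _ _ _)) (u_mem fr _ _ _)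
  have h1 : (⟨u fr r s t * u fr r' s' t', fr.U_le (mul_mem (u_mem fr _ _ _) (u_mem fr _ _ _))⟩ : A) =
      ⟨u fr r s t, fr.U_le (u_mem fr _ _ _)⟩ * ⟨u fr r' s' t', fr.U_le (u_mem fr _ _ _)⟩ := rfl
  rw [h1, map_mul, cov_u, cov_u, cov_u, ← map_mul, ut_mul]

omit [Finite G] [CharP F 2] hZ in
theorem u_inj {r s t r' s' t' : F} (h : u fr r s t = u fr r' s' t') : r = r' ∧ s = s' ∧ t = t' := by
  apply pr_ut_inj
  rw [← cov_u fr, ← cov_u fr]
  congr 1
  exact Subtype.ext h

theorem mem_U {g : G} : g ∈ fr.U ↔ ∃ r s t, g = u fr r s t := by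
  constructor
  · intro hg
    obtain ⟨r, s, t, h⟩ := (mem_Ubar _).1 (fr.map_mem_Ubar hg)
    refine ⟨r, s, t + r * s, ?_⟩
    apply eq_of_cov fr hZ hg (u_mem fr _ _ _)
    rw [cov_u, cov_apply, h, X01, X12, X02, ← map_mul, ← map_mul, ut_mul, ut_mul]
    congr 1
    apply Subtype.ext
    show (!![1, r + 0 + 0, _; 0, 1, _; 0, 0, 1] : Matrix (Fin 3) (Fin 3) F) = !![1, r, t + r * s; 0, 1, s; 0, 0, 1]
    congr 1
    ext i j
    (revert i j; simp [add_comm, _root_.Fin.forall_fin_succ])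
  · rintro ⟨r, s, t, rfl⟩
    exact u_mem fr _ _ _

omit [Finite G] [Finite F] [CharP F 2] hZ in
theorem x01_zero [Finite F] [CharP F 2] [Finite G] (hZ : Odd (Nat.card (Subgroup.center ↥A))) {i j : Fin 3}
    (h : i ≠ j) : fr.x i j 0 = 1 := by
  have h1 := (cover fr hZ).eq_of_map_eq (a := ⟨fr.x i j 0, fr.mem h 0⟩) (b := 1) (is2_x fr h 0) is2_one (by
    rw [cov_apply, fr.map_X h, map_one, X_eq]
    have : Matrix.SpecialLinearGroup.transvection h (0 : F) = 1 := by
      apply Subtype.ext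
      show (1 : Matrix (Fin 3) (Fin 3) F) + single i j 0 = 1
      rw [single_zero, add_zero]
    rw [this, map_one])
  exact congrArg Subtype.val h1

theorem u_r (r : F) : u fr r 0 0 = fr.x 0 1 r := by
  rw [u, x01_zero fr hZ (by decide), mul_zero, sub_zero, x01_zero fr hZ (by decide), mul_one, mul_one]

theorem u_s (s : F) : u fr 0 s 0 = fr.x 1 2 s := by
  rw [u, x01_zero fr hZ (by decide), zero_mul, sub_zero, x01_zero fr hZ (by decide), mul_one, one_mul]

theorem u_t (t : F) : u fr 0 0 t = fr.x 0 2 t := by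
  rw [u, x01_zero fr hZ (by decide), zero_mul, sub_zero, x01_zero fr hZ (by decide), one_mul, one_mul]

theorem u_zero : u fr 0 0 0 = 1 := by rw [u_r fr hZ, x01_zero fr hZ (by decide)]

theorem u_inv (r s t : F) : (u fr r s t)⁻¹ = u fr r s (t + r * s) := by
  rw [inv_eq_iff_mul_eq_one, u_mul fr hZ, ← u_zero fr hZ, CharTwo.add_self_eq_zero, CharTwo.add_self_eq_zero]
  congr 1
  rw [← add_assoc, CharTwo.add_self_eq_zero, zero_add, CharTwo.add_self_eq_zero]

theorem u_sq (r s t : F) : u fr r s t * u fr r s t = u fr 0 0 (r * s) := by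
  rw [u_mul fr hZ, CharTwo.add_self_eq_zero, CharTwo.add_self_eq_zero, CharTwo.add_self_eq_zero, zero_add]

theorem u_comm_iff (r s t r' s' t' : F) :
    u fr r s t * u fr r' s' t' = u fr r' s' t' * u fr r s t ↔ r * s' = r' * s := by
  rw [u_mul fr hZ, u_mul fr hZ]
  constructor
  · intro h
    have := (u_inj fr h).2.2
    rw [add_comm t' t] at this
    exact add_left_cancel this
  · intro h
    rw [h, add_comm r' r, add_comm s' s, add_comm t' t]

end G

end Cfsg.Agent.StdRank2.OutL3Rel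
end

-- part: StdRank2/OutL3Facts
section
/-!
# Elements of the normaliser of `A` (type `L₃(F)`) with prescribed action on `U`
-/

set_option autoImplicit false

namespace Cfsg.Agent.StdRank2.OutL3Facts

open Matrix Cfsg.Agent.StdRank2.OutL3 Cfsg.Agent.StdRank2.OutAct Cfsg.Agent.StdRank2.FrameLift
open Cfsg.Agent.StdRank2.OutL3Rel
open Cfsg.Agent.ClassicalGeometry.AutPSL.Root Cfsg.Agent.ClassicalGeometry.AutPSL.SylowU
open Cfsg.Agent.ClassicalGeometry.AutPSL.Auto Cfsg.Agent.ClassicalGeometry.AutPSL.Main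

variable {F : Type*} [Field F]

/-! ### Automorphisms of `PSL₃(F)` -/

theorem conj_ut (a b c r s t : F) :
    MulAut.conj (pr (ut a b c)) (pr (ut r s t)) = pr (ut r s (t + a * s - r * b)) := by
  rw [MulAut.conj_apply, mul_inv_eq_iff_eq_mul, ← map_mul, ← map_mul, ut_mul, ut_mul, add_comm a r, add_comm b s]
  congr 2
  ring

theorem tor_ut_r (d : Fin 3 → Fˣ) (r : F) : tor d (pr (ut r 0 0)) = pr (ut ((d 0 : F) * r * (d 1 : F)⁻¹) 0 0) := by
  rw [← X01, tor_X, X01]

theorem tor_ut_s (d : Fin 3 → Fˣ) (s : F) : tor d (pr (ut 0 s 0)) = pr (ut 0 ((d 1 : F) * s * (d 2 : F)⁻¹) 0) := by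
  rw [← X12, tor_X, X12]

theorem fd_ut_r (σ : F ≃+* F) (r : F) : fd σ (pr (ut r 0 0)) = pr (ut (σ r) 0 0) := by
  rw [← X01, fd_X, X01]

theorem fd_ut_s (σ : F ≃+* F) (s : F) : fd σ (pr (ut 0 s 0)) = pr (ut 0 (σ s) 0) := by
  rw [← X12, fd_X, X12]

theorem gr_ut_r [CharP F 2] (r : F) : gr (pr (ut r 0 0)) = pr (ut 0 r 0) := by
  rw [← X01, gr_X, ← X12]

theorem gr_ut_s [CharP F 2] (s : F) : gr (pr (ut 0 s 0)) = pr (ut s 0 0) := by
  rw [← X12, gr_X, ← X01]

theorem gr_ut_t [CharP F 2] (t : F) : gr (pr (ut 0 0 t)) = pr (ut 0 0 t) := by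
  rw [← X02, gr_X]

theorem tor_eq_one {d : Fin 3 → Fˣ} (h1 : d 0 = d 1) (h2 : d 1 = d 2) : tor d = 1 := by
  have hd : ∀ i, d i = d 0 := by
    intro i
    fin_cases i
    · rfl
    · exact h1.symm
    · exact (h1.trans h2).symm
  apply ext_X
  intro i j hij t
  rw [tor_X, MulAut.one_apply, hd i, hd j]
  congr 1
  rw [mul_comm (d 0 : F) t, mul_assoc, mul_inv_cancel₀ (d 0).ne_zero, mul_one]

/-- An automorphism normalising the unitriangular group and trivial modulo its centre. -/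
theorem eq_conj_of_unip [Finite F] [CharP F 2] (α : MulAut (Matrix.ProjectiveSpecialLinearGroup (Fin 3) F))
    (hα : ∀ x ∈ Ubar F, α x ∈ Ubar F) (hr : ∀ r, ∃ t, α (pr (ut r 0 0)) = pr (ut r 0 t))
    (hs : ∀ s, ∃ t, α (pr (ut 0 s 0)) = pr (ut 0 s t)) : ∃ v ∈ Ubar F, α = MulAut.conj v := by
  obtain ⟨v, hv, d, p, hp, rfl⟩ := exists_triple α hα
  obtain ⟨a, b, c, hv'⟩ := (mem_Ubar v).1 hv
  have hv'' : v = pr (ut a b (c + a * b)) := by
    rw [hv', X01, X12, X02, ← map_mul, ← map_mul, ut_mul, ut_mul]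
    congr 1
    apply Subtype.ext
    show (!![1, a + 0 + 0, _; 0, 1, _; 0, 0, 1] : Matrix (Fin 3) (Fin 3) F) = !![1, a, c + a * b; 0, 1, b; 0, 0, 1]
    congr 1
    ext i j
    (revert i j; simp [add_comm, _root_.Fin.forall_fin_succ])
  obtain ⟨σ, rfl | rfl⟩ := hp
  · have h1 : ∀ r, (d 0 : F) * σ r * (d 1 : F)⁻¹ = r := by
      intro r
      obtain ⟨t, ht⟩ := hr r
      rw [MulAut.mul_apply, MulAut.mul_apply, fd_ut_r, tor_ut_r, hv'', conj_ut] at ht
      exact (pr_ut_inj ht).1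
    have h2 : ∀ s, (d 1 : F) * σ s * (d 2 : F)⁻¹ = s := by
      intro s
      obtain ⟨t, ht⟩ := hs s
      rw [MulAut.mul_apply, MulAut.mul_apply, fd_ut_s, tor_ut_s, hv'', conj_ut] at ht
      exact (pr_ut_inj ht).2.1
    have h3 : d 0 = d 1 := by
      have := h1 1
      rw [map_one, mul_one, mul_inv_eq_iff_eq_mul₀ (d 1).ne_zero, one_mul] at this
      exact Units.ext this
    have h4 : d 1 = d 2 := by
      have := h2 1
      rw [map_one, mul_one, mul_inv_eq_iff_eq_mul₀ (d 2).ne_zero, one_mul] at this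
      exact Units.ext this
    have h5 : σ = 1 := by
      ext r
      have := h1 r
      rw [h3, mul_comm (d 1 : F), mul_assoc, mul_inv_cancel₀ (d 1).ne_zero, mul_one] at this
      exact this
    refine ⟨v, hv, ?_⟩
    rw [tor_eq_one h3 h4, h5, map_one, mul_one, mul_one]
  · exfalso
    obtain ⟨t, ht⟩ := hr 1
    rw [MulAut.mul_apply, MulAut.mul_apply, MulAut.mul_apply, gr_ut_r, fd_ut_s, tor_ut_s, hv'', conj_ut] at ht
    exact zero_ne_one (pr_ut_inj ht).1

/-- An automorphism centralising the first maximal elementary abelian subgroup. -/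
theorem eq_conj_of_cent [Finite F] [CharP F 2] (α : MulAut (Matrix.ProjectiveSpecialLinearGroup (Fin 3) F))
    (hr : ∀ r, α (pr (ut r 0 0)) = pr (ut r 0 0)) (ht : ∀ t, α (pr (ut 0 0 t)) = pr (ut 0 0 t)) :
    ∃ r t, α = MulAut.conj (pr (ut r 0 t)) := by
  have : Fact (Nat.Prime 2) := ⟨Nat.prime_two⟩
  have := Fintype.ofFinite F
  rcases surj_three 2 le_rfl α with ⟨C, σ, hC⟩ | ⟨C, σ, hC⟩
  · have h01 : ∀ s, (C : Matrix (Fin 3) (Fin 3) F) * single 0 1 (σ s) = single 0 1 s * (C : Matrix (Fin 3) (Fin 3) F) := by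
      intro s
      have h1 := hr s
      rw [← X01, X_eq, hC, lift_pr, MulAut.mul_apply, fld_transvection] at h1
      exact cj_transvection_eq h1
    have h02 : ∀ s, (C : Matrix (Fin 3) (Fin 3) F) * single 0 2 (σ s) = single 0 2 s * (C : Matrix (Fin 3) (Fin 3) F) := by
      intro s
      have h1 := ht s
      rw [← X02, X_eq, hC, lift_pr, MulAut.mul_apply, fld_transvection] at h1
      exact cj_transvection_eq h1
    set c := (C : Matrix (Fin 3) (Fin 3) F) with hc
    have e1 := h01 1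
    have e2 := h02 1
    rw [map_one] at e1 e2
    have a1 : c 0 0 = c 1 1 := by simpa using congrFun (congrFun e1 0) 1
    have a2 : c 1 0 = 0 := by simpa using congrFun (congrFun e1 1) 1
    have a3 : c 2 0 = 0 := by simpa using congrFun (congrFun e1 2) 1
    have a4 : c 1 2 = 0 := by simpa using (congrFun (congrFun e1 0) 2).symm
    have a5 : c 0 0 = c 2 2 := by simpa using congrFun (congrFun e2 0) 2
    have a6 : c 2 1 = 0 := by simpa using (congrFun (congrFun e2 0) 1).symm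
    have hdet : c.det ≠ 0 := by
      have h1 : IsUnit c.det := (Matrix.isUnit_iff_isUnit_det _).1 C.isUnit
      exact h1.ne_zero
    have a0 : c 0 0 ≠ 0 := by
      intro h0
      apply hdet
      rw [Matrix.det_fin_three, a2, a3, h0]
      ring
    have hσ : σ = 1 := by
      ext s
      have h1 : c 0 0 * σ s = s * c 1 1 := by simpa only [_root_.Fin.isValue, _root_.Matrix.mul_single_apply_same, _root_.Matrix.single_mul_apply_same] using congrFun (congrFun (h01 s) 0) 1
      rw [← a1, mul_comm s] at h1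
      exact mul_left_cancel₀ a0 h1
    refine ⟨c 0 1 * (c 0 0)⁻¹, c 0 2 * (c 0 0)⁻¹, ?_⟩
    have hlift : lift (cj C) = MulAut.conj (pr (ut (c 0 1 * (c 0 0)⁻¹) 0 (c 0 2 * (c 0 0)⁻¹))) := by
      set w := ut (c 0 1 * (c 0 0)⁻¹) 0 (c 0 2 * (c 0 0)⁻¹) with hw
      have hcw : c = (c 0 0) • (w : Matrix (Fin 3) (Fin 3) F) := by
        have hw' : (w : Matrix (Fin 3) (Fin 3) F) = !![1, c 0 1 * (c 0 0)⁻¹, c 0 2 * (c 0 0)⁻¹; 0, 1, 0; 0, 0, 1] := rfl
        rw [hw']
        ext i j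
        rw [Matrix.smul_apply]
        (revert i j; simp only [a2, a3, a4, a6, ← a1, ← a5, mul_left_comm (c 0 0), mul_inv_cancel₀ a0, _root_.Fin.forall_fin_succ, Fin.isValue, _root_.Matrix.of_apply, _root_.Matrix.cons_val', _root_.Matrix.cons_val_fin_one, _root_.smul_eq_mul, _root_.Matrix.cons_val_zero, _root_.Matrix.cons_val_succ, _root_.Fin.succ_zero_eq_one, _root_.Fin.succ_one_eq_two, _root_.IsEmpty.forall_iff, _root_.and_true, _root_.mul_one, _root_.and_self, _root_.MulZeroClass.mul_zero])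
      have h2 : cj C = MulAut.conj w := by
        obtain ⟨a, ha⟩ : ∃ a : F, a = c 0 0 := ⟨_, rfl⟩
        rw [← ha] at hcw a0
        apply MulEquiv.ext
        intro g
        apply Subtype.ext
        rw [coe_cj, MulAut.conj_apply, Matrix.SpecialLinearGroup.coe_mul, Matrix.SpecialLinearGroup.coe_mul]
        have h3 : c * (((C⁻¹ : GL (Fin 3) F) : Matrix (Fin 3) (Fin 3) F)) = 1 := C.mul_inv
        have h4 : ((w⁻¹ : Matrix.SpecialLinearGroup (Fin 3) F) : Matrix (Fin 3) (Fin 3) F) * (w : Matrix (Fin 3) (Fin 3) F) = 1 := by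
          rw [← Matrix.SpecialLinearGroup.coe_mul, inv_mul_cancel, Matrix.SpecialLinearGroup.coe_one]
        have h5 : ((C⁻¹ : GL (Fin 3) F) : Matrix (Fin 3) (Fin 3) F) =
            a⁻¹ • ((w⁻¹ : Matrix.SpecialLinearGroup (Fin 3) F) : Matrix (Fin 3) (Fin 3) F) := by
          have h6 : ((w⁻¹ : Matrix.SpecialLinearGroup (Fin 3) F) : Matrix (Fin 3) (Fin 3) F) * (c *
              (((C⁻¹ : GL (Fin 3) F) : Matrix (Fin 3) (Fin 3) F))) =
              ((w⁻¹ : Matrix.SpecialLinearGroup (Fin 3) F) : Matrix (Fin 3) (Fin 3) F) := by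
            rw [h3, Matrix.mul_one]
          rw [← Matrix.mul_assoc, hcw, Matrix.mul_smul, h4, Matrix.smul_mul, Matrix.one_mul] at h6
          rw [← h6, smul_smul, inv_mul_cancel₀ a0, one_smul]
        rw [h5, ← hc]
        conv_lhs => rw [hcw]
        rw [Matrix.smul_mul, Matrix.smul_mul, Matrix.mul_smul, smul_smul, mul_inv_cancel₀ a0, one_smul]
      rw [h2]
      apply MulEquiv.ext
      intro x
      obtain ⟨x, rfl⟩ := pr_surjective x
      rw [lift_pr, MulAut.conj_apply, MulAut.conj_apply, map_mul, map_mul, map_inv]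
    rw [hC, hσ, map_one, mul_one, hlift]
  · exfalso
    have h01 : (C : Matrix (Fin 3) (Fin 3) F) * single 1 0 (σ (-1)) = single 0 1 1 * (C : Matrix (Fin 3) (Fin 3) F) := by
      have h1 := hr 1
      rw [← X01, X_eq, hC, lift_pr, MulAut.mul_apply, MulAut.mul_apply, itr_transvection, fld_transvection] at h1
      exact cj_transvection_eq h1
    have h02 : (C : Matrix (Fin 3) (Fin 3) F) * single 2 0 (σ (-1)) = single 0 2 1 * (C : Matrix (Fin 3) (Fin 3) F) := by
      have h1 := ht 1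
      rw [← X02, X_eq, hC, lift_pr, MulAut.mul_apply, MulAut.mul_apply, itr_transvection, fld_transvection] at h1
      exact cj_transvection_eq h1
    have hdet : (C : Matrix (Fin 3) (Fin 3) F).det ≠ 0 := by
      have h1 : IsUnit (C : Matrix (Fin 3) (Fin 3) F).det := (Matrix.isUnit_iff_isUnit_det _).1 C.isUnit
      exact h1.ne_zero
    have a1 : (C : Matrix (Fin 3) (Fin 3) F) 1 1 = 0 := by simpa only [_root_.Fin.isValue, _root_.Matrix.single_mul_apply_same, _root_.one_mul, _root_.RingEquiv.map_neg_one, _root_.ne_eq, _root_.one_ne_zero, _root_.not_false_eq_true, _root_.Matrix.mul_single_apply_of_ne] using (congrFun (congrFun h01 0) 1).symm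
    have a2 : (C : Matrix (Fin 3) (Fin 3) F) 1 2 = 0 := by simpa only [_root_.Fin.isValue, _root_.Matrix.single_mul_apply_same, _root_.one_mul, _root_.RingEquiv.map_neg_one, _root_.ne_eq, _root_.Fin.reduceEq, _root_.not_false_eq_true, _root_.Matrix.mul_single_apply_of_ne] using (congrFun (congrFun h01 0) 2).symm
    have a3 : (C : Matrix (Fin 3) (Fin 3) F) 2 1 = 0 := by simpa using (congrFun (congrFun h02 0) 1).symm
    have a4 : (C : Matrix (Fin 3) (Fin 3) F) 2 2 = 0 := by simpa only [_root_.Fin.isValue, _root_.Matrix.single_mul_apply_same, _root_.one_mul, _root_.RingEquiv.map_neg_one, _root_.ne_eq, _root_.Fin.reduceEq, _root_.not_false_eq_true, _root_.Matrix.mul_single_apply_of_ne] using (congrFun (congrFun h02 0) 2).symm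
    apply hdet
    rw [Matrix.det_fin_three, a1, a2, a3, a4]
    ring

/-! ### Elements of the normaliser of `A` -/

section G

variable {G : Type*} [Group G] [Finite G] {A : Subgroup G} [Finite F] [CharP F 2] (fr : FrameL3 A F)
  (hZ : Odd (Nat.card (Subgroup.center ↥A)))

omit [Finite G] [Finite F] [CharP F 2] in
theorem act_cov {y : G} (hy : y ∈ Subgroup.normalizer (A : Set G)) (a : A) :
    act A fr.e ⟨y, hy⟩ (cov fr a) = cov fr (OutAct.cj hy a) := act_mk fr.e ⟨y, hy⟩ a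

omit [Finite G] [Finite F] [CharP F 2] in
theorem act_u {y : G} (hy : y ∈ Subgroup.normalizer (A : Set G)) {r s t r' s' t' : F}
    (h : y * u fr r s t * y⁻¹ = u fr r' s' t') :
    act A fr.e ⟨y, hy⟩ (pr (ut r s t)) = pr (ut r' s' t') := by
  rw [← cov_u fr, act_cov, ← cov_u fr]
  congr 1
  exact Subtype.ext h

omit [Finite G] [Finite F] [CharP F 2] in
theorem mem_centralizer (hA : _root_.commutator ↥A = ⊤) {y v : G} (hy : y ∈ Subgroup.normalizer (A : Set G))
    (hv : v ∈ A) (h : act A fr.e ⟨y, hy⟩ = MulAut.conj (cov fr ⟨v, hv⟩)) :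
    v⁻¹ * y ∈ Subgroup.centralizer (A : Set G) := by
  have hvN : v⁻¹ ∈ Subgroup.normalizer (A : Set G) := Subgroup.le_normalizer (inv_mem hv)
  have h1 : act A fr.e ⟨v⁻¹ * y, mul_mem hvN hy⟩ = 1 := by
    have h2 : (⟨v⁻¹ * y, mul_mem hvN hy⟩ : ↥(Subgroup.normalizer (A : Set G))) = ⟨v⁻¹, hvN⟩ * ⟨y, hy⟩ := rfl
    rw [h2, map_mul, h, act_conj_mem fr.e (inv_mem hv) hvN]
    have h3 : (⟨v⁻¹, inv_mem hv⟩ : A) = ⟨v, hv⟩⁻¹ := rfl
    rw [h3, QuotientGroup.mk_inv, map_inv, map_inv, cov_apply, inv_mul_cancel]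
  exact mem_centralizer_of_act_eq_one hA fr.e h1

include hZ

/-- **An element of `N(A)` normalising `U` and trivial on `U / Z` lies in `U C(A)`.** -/
theorem exists_of_trivial (hA : _root_.commutator ↥A = ⊤) {y : G} (hy : y ∈ Subgroup.normalizer (A : Set G))
    (h : ∀ r s t, ∃ t', y * u fr r s t * y⁻¹ = u fr r s t') :
    ∃ v ∈ fr.U, v⁻¹ * y ∈ Subgroup.centralizer (A : Set G) := by
  obtain ⟨v, hv, hα⟩ := eq_conj_of_unip (act A fr.e ⟨y, hy⟩) (by
      intro x hx
      obtain ⟨g, hg, rfl⟩ := fr.exists_of_mem_Ubar hx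
      obtain ⟨r, s, t, rfl⟩ := (mem_U fr hZ).1 hg
      obtain ⟨t', ht'⟩ := h r s t
      have h1 := act_u fr hy ht'
      rw [← cov_u fr, ← cov_u fr] at h1
      show act A fr.e ⟨y, hy⟩ (cov fr _) ∈ _
      rw [h1]
      exact fr.map_mem_Ubar (u_mem fr _ _ _))
    (fun r => by
      obtain ⟨t', ht'⟩ := h r 0 0
      exact ⟨t', act_u fr hy ht'⟩)
    (fun s => by
      obtain ⟨t', ht'⟩ := h 0 s 0
      exact ⟨t', act_u fr hy ht'⟩)
  obtain ⟨g, hg, rfl⟩ := fr.exists_of_mem_Ubar hv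
  exact ⟨g, hg, mem_centralizer fr hA hy (fr.U_le hg) hα⟩

omit [Finite G] hZ in
/-- **The centraliser of `E₁` in `N(A)` is `E₁ C(A)`.** -/
theorem exists_of_cent_one (hA : _root_.commutator ↥A = ⊤) {y : G} (hy : y ∈ Subgroup.normalizer (A : Set G))
    (h : ∀ r t, y * u fr r 0 t * y⁻¹ = u fr r 0 t) :
    ∃ r t, (u fr r 0 t)⁻¹ * y ∈ Subgroup.centralizer (A : Set G) := by
  obtain ⟨r, t, hα⟩ := eq_conj_of_cent (act A fr.e ⟨y, hy⟩) (fun r => act_u fr hy (h r 0))
    (fun t => act_u fr hy (h 0 t))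
  refine ⟨r, t, mem_centralizer fr hA hy (fr.U_le (u_mem fr r 0 t)) ?_⟩
  rw [cov_u, hα]

omit [Finite G] hZ in
/-- **The centraliser of `E₂` in `N(A)` is `E₂ C(A)`.** -/
theorem exists_of_cent_two (hA : _root_.commutator ↥A = ⊤) {y : G} (hy : y ∈ Subgroup.normalizer (A : Set G))
    (h : ∀ s t, y * u fr 0 s t * y⁻¹ = u fr 0 s t) :
    ∃ s t, (u fr 0 s t)⁻¹ * y ∈ Subgroup.centralizer (A : Set G) := by
  set α := act A fr.e ⟨y, hy⟩ with hα
  have h2 : (gr : MulAut (Matrix.ProjectiveSpecialLinearGroup (Fin 3) F))⁻¹ = gr :=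
    inv_eq_of_mul_eq_one_left gr_mul_gr
  obtain ⟨r, t, h1⟩ := eq_conj_of_cent (gr * α * gr⁻¹) (fun r => by
      rw [h2, MulAut.mul_apply, MulAut.mul_apply, gr_ut_r, hα, act_u fr hy (h r 0), gr_ut_s])
    (fun t => by
      rw [h2, MulAut.mul_apply, MulAut.mul_apply, gr_ut_t, hα, act_u fr hy (h 0 t), gr_ut_t])
  have h3 : gr (pr (ut r 0 t)) = pr (ut 0 r t) := by
    have h4 : ut r 0 t = ut r 0 0 * ut 0 0 t := by rw [ut_mul]; simp
    have h5 : ut 0 r t = ut 0 r 0 * ut 0 0 t := by rw [ut_mul]; simp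
    rw [h4, h5, map_mul, map_mul, map_mul, gr_ut_r, gr_ut_t]
  refine ⟨r, t, mem_centralizer fr hA hy (fr.U_le (u_mem fr 0 r t)) ?_⟩
  rw [cov_u, ← h3, ← hα]
  have h6 : α = gr⁻¹ * (gr * α * gr⁻¹) * gr := by group
  rw [h6, h1, h2]
  apply MulEquiv.ext
  intro x
  rw [MulAut.mul_apply, MulAut.mul_apply, MulAut.conj_apply, MulAut.conj_apply, map_mul, map_mul, map_inv]
  congr 2
  have h7 := congrArg (fun β : MulAut (Matrix.ProjectiveSpecialLinearGroup (Fin 3) F) => β x) (gr_mul_gr (F := F))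
  exact h7

end G

end Cfsg.Agent.StdRank2.OutL3Facts
end

private theorem dce_ff6b0fbf4768 : _root_.True := by
  try have : _root_.True := by simp only [_root_.Cfsg.Agent.ClassicalGeometry.AutPSL.SylowU.upper.congr_simp]
  try have : _root_.True := by simp only [_root_.Cfsg.Agent.StdRank2.FrameL3.el.eq_1]
  try have : _root_.True := by simp only [_root_.Cfsg.Agent.StdRank2.FrameL3.U.eq_1]
  try have : _root_.True := by simp only [_root_.Cfsg.Agent.StdRank2.ModelL3.dg.congr_simp]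
  try have : _root_.True := by simp only [_root_.Cfsg.Agent.StdRank2.ModelL3.wl.eq_1]
  try have : _root_.True := by simp only [_root_.Cfsg.Agent.StdRank2.OutL3Rel.u.eq_1]
  try have : _root_.True := by simp only [_root_.Cfsg.Agent.StdRank2.OutL3.gr.eq_1]
  exact _root_.True.intro
end

-- part: StdRank2/SchQuot
section
set_option linter.all false
open scoped Cfsg.Agent.FastGrp

/-!
# The Schreier property of perfect central extensions (light version of `Schreier/CentExt`)
-/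

set_option autoImplicit false

namespace Cfsg.Agent.StdRank2.SchQuot

open Subgroup Cfsg.Agent.Schreier.Basic Cfsg.Agent.Schreier.Tools

variable {C : Type*} [Group C]

theorem map_center (φ : MulAut C) : (center C).map φ.toMonoidHom = center C := by
  ext x
  constructor
  · rintro ⟨y, hy, rfl⟩
    rw [mem_center_iff]
    intro g
    have h1 := mem_center_iff.mp hy (φ.symm g)
    have h2 := congrArg φ h1
    rw [map_mul, map_mul, MulEquiv.apply_symm_apply] at h2
    exact h2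
  · intro hx
    refine ⟨φ.symm x, ?_, φ.apply_symm_apply x⟩
    rw [SetLike.mem_coe, mem_center_iff]
    intro g
    have h1 := mem_center_iff.mp hx (φ g)
    have h2 := congrArg φ.symm h1
    rw [map_mul, map_mul, MulEquiv.symm_apply_apply] at h2
    exact h2

/-- The action of the automorphism group on the central quotient. -/
def quoC : MulAut C →* MulAut (C ⧸ center C) where
  toFun φ := QuotientGroup.congr (center C) (center C) φ (map_center φ)
  map_one' := by
    ext x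
    induction x using QuotientGroup.induction_on with
    | H c => rfl
  map_mul' φ ψ := by
    ext x
    induction x using QuotientGroup.induction_on with
    | H c => rfl

theorem quoC_mk (φ : MulAut C) (c : C) : quoC φ (QuotientGroup.mk c) = QuotientGroup.mk (φ c) := rfl

/-- A perfect central extension of a group with the Schreier property has the Schreier property. -/
theorem sch_of_center (hperf : _root_.commutator C = ⊤) (h : Sch (C ⧸ center C)) : Sch C := by
  intro D hD φ hφ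
  have h1 := h (D.map quoC) (map_perfect _ hD) ⟨φ, hφ, rfl⟩
  obtain ⟨y, hy⟩ := h1
  obtain ⟨c, rfl⟩ := QuotientGroup.mk_surjective y
  have h2 : ∀ x : C, (c * x * c⁻¹)⁻¹ * φ x ∈ center C := by
    intro x
    have h3 := DFunLike.congr_fun hy (QuotientGroup.mk x)
    rw [MulAut.conj_apply, quoC_mk] at h3
    rw [← QuotientGroup.eq]
    exact h3
  let δ : C →* Subgroup.center C :=
    { toFun := fun x => ⟨(c * x * c⁻¹)⁻¹ * φ x, h2 x⟩
      map_one' := by
        apply Subtype.ext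
        simp
      map_mul' := fun x y => by
        apply Subtype.ext
        show (c * (x * y) * c⁻¹)⁻¹ * φ (x * y) = (c * x * c⁻¹)⁻¹ * φ x * ((c * y * c⁻¹)⁻¹ * φ y)
        have h3 := Subgroup.mem_center_iff.1 (h2 x) (c * y * c⁻¹)⁻¹
        calc (c * (x * y) * c⁻¹)⁻¹ * φ (x * y) = (c * y * c⁻¹)⁻¹ * ((c * x * c⁻¹)⁻¹ * φ x) * φ y := by
              rw [map_mul]; group
          _ = _ := by rw [h3]; group }
  have h4 : ∀ x, δ x = 1 := by
    intro x
    have h5 : _root_.commutator C ≤ δ.ker := by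
      rw [_root_.commutator_def, Subgroup.commutator_le]
      intro a _ b _
      rw [MonoidHom.mem_ker, map_commutatorElement]
      exact commutatorElement_eq_one_iff_mul_comm.2 (Subtype.ext (Subgroup.mem_center_iff.1 (δ b).2 (δ a)))
    rw [hperf] at h5
    exact h5 (Subgroup.mem_top x)
  refine ⟨c, ?_⟩
  ext x
  have h5 : (c * x * c⁻¹)⁻¹ * φ x = 1 := congrArg Subtype.val (h4 x)
  rw [inv_mul_eq_one] at h5
  rw [MulAut.conj_apply, h5]

end Cfsg.Agent.StdRank2.SchQuot
end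
end
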