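import Cfsg.Agent.StdL3.OneOut
import Cfsg.Agent.StdSpFour.CaseCDefs_m3
import Cfsg.Agent.ONType.OuterL
import Cfsg.Agent.StdSpFour.CaseBFld_mg_m3
import Cfsg.Agent.LThreeFour.Inv_m3
import Cfsg.Agent.StdL3.HeisCoord
import Cfsg.Agent.StdL3.OuterMat
import Mathlib.FieldTheory.Finite.GaloisField
import Cfsg.Agent.StdRank2.OutField
import Cfsg.Agent.StdEven.OuterKill_m3
import Cfsg.Agent.StdSpFour.SplitA.OutFuse_m3
import Cfsg.Agent.StdRank2.UFour.GrowA2_m3
import Cfsg.Agent.UFiveTwo.AutOut_mg_m3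
import Mathlib.Algebra.Group.Subgroup.Lattice
import Mathlib.Algebra.Field.Basic
import Mathlib.Algebra.Field.ZMod
import Mathlib.Algebra.CharP.Two
import Mathlib.Tactic
import Cfsg.Agent.StdSpFour.Fld_m3
import Cfsg.Agent.Lib.GoldschmidtFusion
import Cfsg.Agent.StdRank2.UClose.Aut_m3
import Cfsg.Agent.StdRank2.UTn
import Cfsg.Agent.StdSpFour.Trich_mg_m3
import Cfsg.Agent.StdEven.Red_m3
import Cfsg.Agent.StdL2.Assemble_m3
import Cfsg.Agent.FastGrp
import Cfsg.Agent.Prune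
set_option linter.all false

section
prune_inst 0x7fb0fcfb8df8addfdfff7e7faedbdffc39d15fffffdffd4bffe0e1ff0fdf030a09c52b8d8de050fe0ef7629410b87813f9ffca3fee6bdc7ffffd5ff45ffbee0fe5f7bd08515688340fbc0fff63f07f8e7f3fffffffffffffffffffffffffffbeffffffffffff

-- part: StdRank2/L3Asm_mg
section
prune_inst 0x80000200000000000000051240000040480000000020000140a00e0002004340080001000080101000020a0000000000020000100000000000000000000000000008000800000000000000000004000000000000000000000000000000000000000000000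
set_option linter.all false
open scoped Cfsg.Agent.FastGrp

-- part: StdRank2/L3Four/Core
section
/-!
# Type `L₃(4)`: the grown group in the form `L3G.Core`

`core : Setup A t → Core (base S) Y1 Y2 Y3`, for `A : Dat L`, `L ≅ L₃(4)` in a group `X` (no cores), by the growth
argument of `StdL3/One*`; and the transport along a field isomorphism.
-/

set_option autoImplicit false
set_option linter.unusedSectionVars false
set_option linter.constructorNameAsVariable false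

namespace Cfsg.Agent.StdRank2.L3Four

open Cfsg.Agent.LThreeFour
open Cfsg.Agent.SporadicA.FieldFour
open Cfsg.Agent.StdL3.OneRoot
open Cfsg.Agent.StdL3.OneY
open Cfsg.Agent.StdL3.OneGrow
open Cfsg.Agent.StdRank2.L3G

variable {X : Type*} [Group X] {L : Subgroup X} {A : Dat L} {t : X}

/-- The root groups and `t`. -/
@[simps]
def base (S : Setup A t) : Base F4 X where
  xa := r A 0 1
  xb := r A 1 2
  xc := r A 0 2
  t := t
  xa_add x y := (r_add A (by decide) x y).symm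
  xb_add x y := (r_add A (by decide) x y).symm
  xc_add x y := (r_add A (by decide) x y).symm
  c_a x y := r_row A (by decide) (by decide) x y
  c_b x y := r_col A (by decide) (by decide) x y
  a_b x y := by
    rw [r_sum A (i := 0) (j := 2) (k := 1) (by decide) (by decide) (by decide) x y]
    have h1 := r_row A (i := 0) (j := 1) (k := 2) (by decide) (by decide) x (x * y)
    have h2 := r_col A (i := 1) (j := 2) (k := 0) (by decide) (by decide) y (x * y)
    rw [mul_assoc, h1, ← mul_assoc, h2, mul_assoc]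
  u_inj x y z h := by
    have h1 : E A ⟨x, y, z⟩ = 1 := by rw [E_eq]; exact h
    exact E_zero h1
  t_sq := S.tt
  t_a x := S.tL _ (r_mem A _ _ _)
  t_b x := S.tL _ (r_mem A _ _ _)
  t_c x := S.tL _ (r_mem A _ _ _)
  t_not x y z h := S.tn (by
    rw [h]; exact L.mul_mem (L.mul_mem (r_mem A _ _ _) (r_mem A _ _ _)) (r_mem A _ _ _))

/-- from the convention `t y = y (t x)` of `RG` to the convention `y t y⁻¹ = x t`. -/
theorem conj_of_mv {y x : X} (hy : y * y = 1) (hx : t * x = x * t) (h : t * y = y * (t * x)) :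
    y * t * y⁻¹ = x * t := by
  have h1 : y⁻¹ = y := inv_eq_of_mul_eq_one_right hy
  rw [h1, mul_assoc, h, ← mul_assoc, hy, one_mul, hx]

/-- **The grown groups for `q = 4`.** -/
theorem core (S : Setup A t) : Core (base S) S.Y1 S.Y2 S.Y3 where
  memA := S.rg1.le
  memB := S.rg2.le
  memZ := S.rg3.le
  A_sq := S.three.sq1
  B_sq := S.three.sq2
  Z_sq := S.three.sq3
  Z_A z hz y hy := (S.three.c13 y hy z hz).symm
  Z_B z hz y hy := (S.three.c23 y hy z hz).symm
  A_B y hy y' hy' := by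
    obtain ⟨z, hz, e⟩ := S.three.comm12 hy hy'
    -- `y' y = y y' z`
    have e1 : y * y' * y⁻¹ * y'⁻¹ = y * y' * (z⁻¹ * (y * y')⁻¹) := by
      rw [← mul_inv_rev, ← e, mul_inv_rev, mul_assoc (y * y')]
    have e2 : (y * y') * z⁻¹ = z⁻¹ * (y * y') := by
      rw [mul_assoc, S.three.c23 y' hy' _ (S.Y3.inv_mem hz), ← mul_assoc,
        S.three.c13 y hy _ (S.Y3.inv_mem hz), mul_assoc]
    rw [e1, ← mul_assoc, e2, mul_inv_cancel_right]
    exact S.Y3.inv_mem hz
  conjA y hy := by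
    obtain ⟨u, hu⟩ := S.rg1.mv y hy
    exact ⟨u, conj_of_mv (S.three.sq1 y hy) (S.tL _ (r_mem A _ _ _)) hu⟩
  conjB y hy := by
    obtain ⟨u, hu⟩ := S.rg2.mv y hy
    exact ⟨u, conj_of_mv (S.three.sq2 y hy) (S.tL _ (r_mem A _ _ _)) hu⟩
  conjZ y hy := by
    obtain ⟨u, hu⟩ := S.rg3.mv y hy
    exact ⟨u, conj_of_mv (S.three.sq3 y hy) (S.tL _ (r_mem A _ _ _)) hu⟩
  ontoA u := by
    obtain ⟨y, hy, hu⟩ := S.rg1.surj u
    exact ⟨y, hy, conj_of_mv (S.three.sq1 y hy) (S.tL _ (r_mem A _ _ _)) hu⟩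
  ontoB u := by
    obtain ⟨y, hy, hu⟩ := S.rg2.surj u
    exact ⟨y, hy, conj_of_mv (S.three.sq2 y hy) (S.tL _ (r_mem A _ _ _)) hu⟩
  ontoZ u := by
    obtain ⟨y, hy, hu⟩ := S.rg3.surj u
    exact ⟨y, hy, conj_of_mv (S.three.sq3 y hy) (S.tL _ (r_mem A _ _ _)) hu⟩
  centA y hy h := S.rg1.fix y hy h.symm
  centB y hy h := S.rg2.fix y hy h.symm
  centZ y hy h := S.rg3.fix y hy h.symm

/-! ### transport along a field isomorphism -/

variable {F K : Type*} [Field F] [CharP F 2] [Field K] [CharP K 2]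

/-- Reparametrisation. -/
@[simps]
def _root_.Cfsg.Agent.StdRank2.L3G.Base.comap (E : Base F X) (f : K ≃+* F) : Base K X where
  xa x := E.xa (f x)
  xb x := E.xb (f x)
  xc x := E.xc (f x)
  t := E.t
  xa_add x y := by rw [map_add, E.xa_add]
  xb_add x y := by rw [map_add, E.xb_add]
  xc_add x y := by rw [map_add, E.xc_add]
  c_a x y := E.c_a _ _
  c_b x y := E.c_b _ _
  a_b x y := by rw [E.a_b, map_mul]
  u_inj x y z h := by
    obtain ⟨h1, h2, h3⟩ := E.u_inj _ _ _ h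
    simpa using And.intro h1 (And.intro h2 h3)
  t_sq := E.t_sq
  t_a x := E.t_a _
  t_b x := E.t_b _
  t_c x := E.t_c _
  t_not x y z := E.t_not _ _ _

theorem _root_.Cfsg.Agent.StdRank2.L3G.Core.comap {E : Base F X} {P Q R : Subgroup X} (C : Core E P Q R)
    (f : K ≃+* F) : Core (E.comap f) P Q R where
  memA c := C.memA _
  memB c := C.memB _
  memZ c := C.memZ _
  A_sq := C.A_sq
  B_sq := C.B_sq
  Z_sq := C.Z_sq
  Z_A := C.Z_A
  Z_B := C.Z_B
  A_B := C.A_B
  conjA g hg := by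
    obtain ⟨c, hc⟩ := C.conjA g hg
    exact ⟨f.symm c, by rw [Base.comap_xa, f.apply_symm_apply]; exact hc⟩
  conjB g hg := by
    obtain ⟨c, hc⟩ := C.conjB g hg
    exact ⟨f.symm c, by rw [Base.comap_xb, f.apply_symm_apply]; exact hc⟩
  conjZ g hg := by
    obtain ⟨c, hc⟩ := C.conjZ g hg
    exact ⟨f.symm c, by rw [Base.comap_xc, f.apply_symm_apply]; exact hc⟩
  ontoA c := C.ontoA _
  ontoB c := C.ontoB _
  ontoZ c := C.ontoZ _
  centA g hg h := by
    obtain ⟨c, hc⟩ := C.centA g hg h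
    exact ⟨f.symm c, by rw [Base.comap_xa, f.apply_symm_apply]; exact hc⟩
  centB g hg h := by
    obtain ⟨c, hc⟩ := C.centB g hg h
    exact ⟨f.symm c, by rw [Base.comap_xb, f.apply_symm_apply]; exact hc⟩
  centZ g hg h := by
    obtain ⟨c, hc⟩ := C.centZ g hg h
    exact ⟨f.symm c, by rw [Base.comap_xc, f.apply_symm_apply]; exact hc⟩

end Cfsg.Agent.StdRank2.L3Four
end

-- part: StdRank2/L3Four/Inst
section
/-!
# Type `L₃(4)`: the growth argument in the situation `L3X.XSit`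

`exists_core : XSit A t fr → Nat.card F = 4 → (S : L3Zh.Seed h.env) → Core (baseX h) (Ag S) (Bg S) S.Zh`, with the
Weyl elements and the torus.
-/

set_option autoImplicit false
set_option linter.unusedSectionVars false
set_option linter.constructorNameAsVariable false
set_option linter.dupNamespace false

namespace Cfsg.Agent.StdRank2.L3Four

open Subgroup
open Cfsg.Agent.LThreeFour
open Cfsg.Agent.SporadicA.FieldFour
open Cfsg.Agent.StdL3.OneRoot
open Cfsg.Agent.StdL3.OneY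
open Cfsg.Agent.StdL3.OneGrow
open Cfsg.Agent.StdRank2.L3G
open Cfsg.Agent.StdRank2.FrameL3

variable {X : Type*} [Group X] [Finite X] {A : Subgroup X} {t : X}
  {F : Type*} [Field F] [Finite F] [CharP F 2] {fr : FrameL3 A F}

/-- The base of the frame. -/
@[simps]
def baseX (h : L3X.XSit A t fr) : Base F X where
  xa := fr.x 0 1
  xb := fr.x 1 2
  xc := fr.x 0 2
  t := t
  xa_add x y := (fr.add h.hZ (by decide) x y).symm
  xb_add x y := (fr.add h.hZ (by decide) x y).symm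
  xc_add x y := (fr.add h.hZ (by decide) x y).symm
  c_a x y := fr.comm h.hZ (by decide) (by decide) (by decide) (by decide) x y
  c_b x y := fr.comm h.hZ (by decide) (by decide) (by decide) (by decide) x y
  a_b x y := by
    rw [← h.el_a, ← h.el_b, ← h.el_z, fr.el_mul h.hZ, fr.el_mul h.hZ, fr.el_mul h.hZ]
    congr 1
    · ring
    · ring
    · have : x * y + x * y = 0 := CharTwo.add_self_eq_zero _
      simp [this]
  u_inj x y z hh := by
    have h1 : fr.el x y z = fr.el 0 0 0 := by rw [fr.el_zero h.hZ]; exact hh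
    exact fr.el_inj.1 h1
  t_sq := h.tt
  t_a x := h.tA _ (fr.mem (by decide) x)
  t_b x := h.tA _ (fr.mem (by decide) x)
  t_c x := h.tA _ (fr.mem (by decide) x)
  t_not x y z hh := h.t_not (hh ▸ h.el_mem x y z)

section

variable (h : L3X.XSit A t fr)
include h

theorem f_inj : Function.Injective fr.f := by
  rw [← MonoidHom.ker_eq_bot_iff, eq_bot_iff]
  intro a ha
  rw [fr.mem_ker_f] at ha
  rw [mem_bot]
  apply Subtype.ext
  exact h.Z a a.2 fun b hb => (congrArg Subtype.val (mem_center_iff.mp ha ⟨b, hb⟩)).symm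

/-- `A ≃* PSL₃(F)`. -/
noncomputable def eA : ↥A ≃* Matrix.ProjectiveSpecialLinearGroup (Fin 3) F :=
  MulEquiv.ofBijective fr.f ⟨f_inj h, fr.f_surjective h.hZ⟩

/-- the coordinates of `A`. -/
noncomputable def dat (κ : F4 ≃+* F) : Dat ↥A :=
  datPSL.map ((pslCongr κ).trans (eA h).symm)

theorem slCongr_T (κ : F4 ≃+* F) {i j : Fin 3} (hij : i ≠ j) (u : F4) :
    slCongr κ (Cfsg.Agent.ONType.Psl.T i j u) = Matrix.SpecialLinearGroup.transvection hij (κ u) := by
  apply Subtype.ext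
  ext a b
  show κ (Cfsg.Agent.ONType.Psl.tm i j u a b) =
    (1 : Matrix (Fin 3) (Fin 3) F) a b + Matrix.single i j (κ u) a b
  unfold Cfsg.Agent.ONType.Psl.tm
  rw [Matrix.one_apply, Matrix.single_apply]
  by_cases h1 : a = b
  · subst h1
    rw [if_pos rfl, if_pos rfl, if_neg (fun e => hij (e.1.trans e.2.symm)), map_one, add_zero]
  · rw [if_neg h1, if_neg h1, zero_add]
    by_cases h2 : a = i ∧ b = j
    · rw [if_pos h2, if_pos ⟨h2.1.symm, h2.2.symm⟩]
    · rw [if_neg h2, if_neg (fun e => h2 ⟨e.1.symm, e.2.symm⟩), map_zero]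

theorem dat_x' (κ : F4 ≃+* F) {i j : Fin 3} (hij : i ≠ j) (u : F4) :
    (dat h κ).x i j u = ⟨fr.x i j (κ u), fr.mem hij _⟩ := by
  show (eA h).symm (pslCongr κ (Cfsg.Agent.ONType.Psl.t i j u)) = _
  rw [MulEquiv.symm_apply_eq]
  show _ = fr.f (fr.X hij (κ u))
  rw [fr.f_X, ← slCongr_T h κ hij u]
  rfl

theorem r_dat (κ : F4 ≃+* F) {i j : Fin 3} (hij : i ≠ j) (u : F4) :
    r (dat h κ) i j u = fr.x i j (κ u) := congrArg Subtype.val (dat_x' h κ hij u)

theorem E_dat (κ : F4 ≃+* F) (a b c : F4) :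
    E (dat h κ) ⟨a, b, c⟩ = fr.el (κ a) (κ b) (κ c) := by
  rw [E_eq, r_dat h κ (by decide), r_dat h κ (by decide), r_dat h κ (by decide)]
  rfl

theorem z_dat (κ : F4 ≃+* F) (c : F4) : z (dat h κ) c = h.env.z (κ c) := by
  rw [z, E_dat, map_zero]
  rfl

theorem wey_dat (κ : F4 ≃+* F) {i j : Fin 3} (hij : i ≠ j) :
    ((wey (dat h κ) i j : ↥A) : X) = fr.w i j 1 := by
  have h1 : ((wey (dat h κ) i j : ↥A) : X) =
      r (dat h κ) i j 1 * r (dat h κ) j i 1 * r (dat h κ) i j 1 := rfl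
  rw [h1, r_dat h κ hij, r_dat h κ hij.symm, map_one, FrameL3.w, inv_one]

/-- the input of the growth argument. -/
theorem setup (κ : F4 ≃+* F) (S : L3Zh.Seed h.env) : Setup (dat h κ) t where
  tt := h.tt
  tL := h.tA
  tn := h.t_not
  cent := by
    intro x hx hxE
    have h1 : L3Zh.YY h.env x 0 := by
      refine ⟨fun a b c => ?_, ?_⟩
      · have h2 := hxE ⟨κ.symm a, κ.symm b, κ.symm c⟩
        rw [E_dat, κ.apply_symm_apply, κ.apply_symm_apply, κ.apply_symm_apply] at h2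
        exact h2
      · rw [h.env.z_zero, mul_one]
        exact hx
    obtain ⟨c, hc⟩ := h1.ker
    refine ⟨κ.symm c, ?_⟩
    rw [z_dat, κ.apply_symm_apply]
    rcases hc with hc | hc
    · exact Or.inl hc
    · right
      rw [hx, hc, ← mul_assoc]
      show t * t * h.env.z c = h.env.z c
      rw [h.tt, one_mul]
  w := by
    obtain ⟨y, -, hy⟩ := S.onto 1
    refine ⟨y⁻¹, 1, by decide, fun p => ?_, ?_⟩
    · obtain ⟨a, b, c⟩ := p
      rw [E_dat]
      exact hy.inv.el _ _ _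
    · rw [inv_inv, z_dat, map_one]
      exact hy.t_conj
  centR := by
    intro x hx h0 h1
    obtain ⟨a, c, hc⟩ := h.cent_one hx
      (fun s => by
        have := h1 (κ.symm s)
        rwa [r_dat h κ (by decide), κ.apply_symm_apply] at this)
      (fun s => by
        have := h0 (κ.symm s)
        rwa [r_dat h κ (by decide), κ.apply_symm_apply] at this)
    refine ⟨κ.symm c, κ.symm a, ?_⟩
    have e : fr.x 0 2 c * fr.x 0 1 a = fr.x 0 1 a * fr.x 0 2 c := (baseX h).c_a c a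
    rw [r_dat h κ (by decide), r_dat h κ (by decide), κ.apply_symm_apply, κ.apply_symm_apply, e]
    rcases hc with hc | hc
    · exact Or.inl hc
    · right
      rw [hx, hc, ← mul_assoc, h.tt, one_mul]
  centC := by
    intro x hx h0 h1
    obtain ⟨a, c, hc⟩ := h.cent_two hx
      (fun s => by
        have := h1 (κ.symm s)
        rwa [r_dat h κ (by decide), κ.apply_symm_apply] at this)
      (fun s => by
        have := h0 (κ.symm s)
        rwa [r_dat h κ (by decide), κ.apply_symm_apply] at this)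
    refine ⟨κ.symm c, κ.symm a, ?_⟩
    have e : fr.x 0 2 c * fr.x 1 2 a = fr.x 1 2 a * fr.x 0 2 c := (baseX h).c_b c a
    rw [r_dat h κ (by decide), r_dat h κ (by decide), κ.apply_symm_apply, κ.apply_symm_apply, e]
    rcases hc with hc | hc
    · exact Or.inl hc
    · right
      rw [hx, hc, ← mul_assoc, h.tt, one_mul]

/-- `hh` is a torus element. -/
theorem isTor_hh (κ : F4 ≃+* F) :
    L3X.IsTor fr (hh (dat h κ)) ![1, κ F4.w, κ F4.v] := by
  have hw : κ F4.w ≠ 0 := by rw [Ne, map_eq_zero_iff κ κ.injective]; decide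
  have hv : κ F4.v ≠ 0 := by rw [Ne, map_eq_zero_iff κ κ.injective]; decide
  refine ⟨hh_mem _, ?_, ?_⟩
  · intro i
    fin_cases i
    · exact one_ne_zero
    · exact hw
    · exact hv
  · intro i j hij s
    have key : ∀ i j : Fin 3, i ≠ j → ∀ s : F4, Cfsg.Agent.ONType.Psl.kap i j *
        ((![1, F4.w, F4.v] : Fin 3 → F4) i * s * ((![1, F4.w, F4.v] : Fin 3 → F4) j)⁻¹) = s := by
      decide
    have hc : ∀ i, (![1, κ F4.w, κ F4.v] : Fin 3 → F) i = κ ((![1, F4.w, F4.v] : Fin 3 → F4) i) := by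
      intro i
      fin_cases i
      · exact (map_one κ).symm
      · rfl
      · rfl
    obtain ⟨u, rfl⟩ := κ.surjective s
    have h1 := congrArg Subtype.val ((dat h κ).h_x i j hij
      ((![1, F4.w, F4.v] : Fin 3 → F4) i * u * ((![1, F4.w, F4.v] : Fin 3 → F4) j)⁻¹))
    rw [key i j hij] at h1
    have h2 : (hh (dat h κ))⁻¹ * r (dat h κ) i j ((![1, F4.w, F4.v] : Fin 3 → F4) i * u *
        ((![1, F4.w, F4.v] : Fin 3 → F4) j)⁻¹) * hh (dat h κ) = r (dat h κ) i j u := h1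
    rw [r_dat h κ hij, r_dat h κ hij] at h2
    rw [hc, hc, ← map_mul, ← map_inv₀, ← map_mul, ← h2]
    group

/-- `Zh` is the group `Y₁₃`. -/
theorem Y3_eq (κ : F4 ≃+* F) (S : L3Zh.Seed h.env) : (setup h κ S).Y3 = S.Zh := by
  set H := (setup h κ S).toInp with hH
  have hne := h.exists_ne
  have hle : S.Zh ≤ H.Y0 := by
    intro x hx
    obtain ⟨u, hu⟩ := S.yy x hx
    have hxY : x ∈ H.Y := by
      refine ⟨fun p => ?_, κ.symm u, ?_⟩
      · obtain ⟨a, b, c⟩ := p
        rw [E_dat]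
        exact hu.el _ _ _
      · rw [z_dat, κ.apply_symm_apply]
        have h1 : x * t = t * x * h.env.z u := hu.t
        have h2 := hu.z u
        calc t * x = t * x * (h.env.z u * h.env.z u) := by rw [h.env.z_self, mul_one]
          _ = x * t * h.env.z u := by rw [← mul_assoc, ← h1]
          _ = _ := by rw [mul_assoc]
    have hcj : ∀ y ∈ S.Zh, Inp.cj (dat h κ) y ∈ S.Zh := by
      intro y hy
      have h3 := (isTor_hh h κ).inv
      have h4 := S.conj_mem hne (h.nor_of_tor h3) hy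
      rw [inv_inv] at h4
      exact h4
    have hnu : Inp.nu (dat h κ) x ∈ S.Zh :=
      mul_mem (mul_mem hx (hcj x hx)) (hcj _ (hcj x hx))
    have h5 := H.nu_fix hxY
    obtain ⟨v, hv⟩ := S.yy _ hnu
    have h6 : v = 0 := hv.t_comm h5.symm
    subst h6
    obtain ⟨c, hc⟩ := S.ker _ hnu hv
    exact ⟨hxY, κ.symm c, by rw [z_dat, κ.apply_symm_apply]; exact hc⟩
  apply le_antisymm _ hle
  intro y hy
  have hy' : y ∈ H.Y0 := hy
  obtain ⟨c, hc⟩ := H.mv hy'
  obtain ⟨x, hx, hxu⟩ := S.onto (κ c)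
  have hx2 : t * x = x * (t * z (dat h κ) c) := by
    rw [z_dat]
    have h1 : x * t = t * x * h.env.z (κ c) := hxu.t
    calc t * x = t * x * (h.env.z (κ c) * h.env.z (κ c)) := by rw [h.env.z_self, mul_one]
      _ = x * t * h.env.z (κ c) := by rw [← mul_assoc, ← h1]
      _ = _ := by rw [mul_assoc]
  obtain ⟨d, hd⟩ := H.eq_mul_z (hle hx) hy' hx2 hc
  rw [hd, z_dat]
  exact mul_mem hx (S.z_mem _)

end

/-! ### the output -/

section

variable {h : L3X.XSit A t fr}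

/-- the grown root group for `a = 01`. -/
def Ag (S : L3Zh.Seed h.env) : Subgroup X := cs (fr.w 1 2 1) S.Zh

/-- the grown root group for `b = 12`. -/
def Bg (S : L3Zh.Seed h.env) : Subgroup X := cs (fr.w 0 1 1) S.Zh

theorem mem_Ag (S : L3Zh.Seed h.env) {g : X} :
    g ∈ Ag S ↔ fr.w 1 2 1 * g * (fr.w 1 2 1)⁻¹ ∈ S.Zh := Iff.rfl

theorem mem_Bg (S : L3Zh.Seed h.env) {g : X} :
    g ∈ Bg S ↔ fr.w 0 1 1 * g * (fr.w 0 1 1)⁻¹ ∈ S.Zh := Iff.rfl

theorem exists_kap (hF : Nat.card F = 4) : Nonempty (F4 ≃+* F) := by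
  have : Fintype F := Fintype.ofFinite F
  exact ⟨FiniteField.ringEquivOfCardEq (F4.card_eq.trans (by
    rw [← Nat.card_eq_fintype_card, hF]))⟩

/-- **The grown groups (`q = 4`).** -/
theorem core_X (hF : Nat.card F = 4) (S : L3Zh.Seed h.env) :
    Core (baseX h) (Ag S) (Bg S) S.Zh := by
  obtain ⟨κ⟩ := exists_kap (F := F) hF
  have h1 := (core (setup h κ S)).comap κ.symm
  have h2 : (base (setup h κ S)).comap κ.symm = baseX h := by
    have e : ∀ {i j : Fin 3} (hij : i ≠ j),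
        (fun x => r (dat h κ) i j (κ.symm x)) = fr.x i j := by
      intro i j hij
      funext x
      rw [r_dat h κ hij, κ.apply_symm_apply]
    have e1 := e (i := 0) (j := 1) (by decide)
    have e2 := e (i := 1) (j := 2) (by decide)
    have e3 := e (i := 0) (j := 2) (by decide)
    unfold Base.comap base baseX
    simp only [e1, e2, e3]
  have h3 : (setup h κ S).Y1 = Ag S := by
    unfold Setup.Y1 Ag
    rw [Y3_eq, wey_dat h κ (by decide)]
  have h4 : (setup h κ S).Y2 = Bg S := by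
    unfold Setup.Y2 Bg
    rw [Y3_eq, wey_dat h κ (by decide)]
  rw [h2, h3, h4, Y3_eq] at h1
  exact h1

theorem braid {i j : Fin 3} (h : L3X.XSit A t fr) (hij : i ≠ j) : (fr.w i j 1 * fr.x i j 1) ^ 3 = 1 := by
  have h1 := fr.w_conj_one h.hZ hij hij 1
  rw [Equiv.swap_apply_left, Equiv.swap_apply_right, fr.w_inv hij] at h1
  -- `n x n = y`
  have h2 := fr.two hij 1
  have h3 := fr.two hij.symm 1
  have h4 : fr.w i j 1 = fr.x i j 1 * fr.x j i 1 * fr.x i j 1 := by
    rw [FrameL3.w, inv_one]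
  calc (fr.w i j 1 * fr.x i j 1) ^ 3
      = (fr.w i j 1 * fr.x i j 1 * fr.w i j 1) * fr.x i j 1 * fr.w i j 1 * fr.x i j 1 := by
        rw [pow_succ, pow_two]; simp only [mul_assoc]
    _ = fr.x j i 1 * fr.x i j 1 * (fr.x i j 1 * fr.x j i 1 * fr.x i j 1) * fr.x i j 1 := by
        rw [h1, h4]
    _ = fr.x j i 1 * (fr.x i j 1 * fr.x i j 1) * fr.x j i 1 * (fr.x i j 1 * fr.x i j 1) := by
        simp only [mul_assoc]
    _ = 1 := by rw [h2, mul_one, mul_one, h3]

theorem weylA_X (S : L3Zh.Seed h.env) : L3Wey.WeylA (baseX h) (Ag S) S.Zh (fr.w 1 2 1) where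
  sq := fr.w_mul_self (by decide) 1
  t := h.tA _ (fr.w_mem (by decide) 1)
  a x := fr.w_conj_one h.hZ (i := 1) (j := 2) (by decide) (k := 0) (l := 1) (by decide) x
  c x := fr.w_conj_one h.hZ (i := 1) (j := 2) (by decide) (k := 0) (l := 2) (by decide) x
  A _ hg := hg
  braid := braid h (by decide)

theorem weylB_X (S : L3Zh.Seed h.env) : L3Wey.WeylA (baseX h).swap (Bg S) S.Zh (fr.w 0 1 1) where
  sq := fr.w_mul_self (by decide) 1
  t := h.tA _ (fr.w_mem (by decide) 1)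
  a x := fr.w_conj_one h.hZ (i := 0) (j := 1) (by decide) (k := 1) (l := 2) (by decide) x
  c x := fr.w_conj_one h.hZ (i := 0) (j := 1) (by decide) (k := 0) (l := 2) (by decide) x
  A _ hg := hg
  braid := braid h (by decide)

/-! ### the torus -/

theorem torus_Zh (S : L3Zh.Seed h.env) {y : X} (hy : y ∈ L3X.torus fr) {g : X} (hg : g ∈ S.Zh) :
    y * g * y⁻¹ ∈ S.Zh := by
  obtain ⟨c, hc⟩ := hy
  exact S.conj_mem h.exists_ne (h.nor_of_tor hc) hg

theorem torus_Ag (S : L3Zh.Seed h.env) {y : X} (hy : y ∈ L3X.torus fr) {g : X} (hg : g ∈ Ag S) :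
    y * g * y⁻¹ ∈ Ag S := by
  rw [mem_Ag] at hg ⊢
  have h1 := torus_Zh S ((h.torus_conj (i := 1) (j := 2) (by decide)).1 hy) hg
  have e : fr.w 1 2 1 * (y * g * y⁻¹) * (fr.w 1 2 1)⁻¹ =
      fr.w 1 2 1 * y * (fr.w 1 2 1)⁻¹ * (fr.w 1 2 1 * g * (fr.w 1 2 1)⁻¹) *
        (fr.w 1 2 1 * y * (fr.w 1 2 1)⁻¹)⁻¹ := by group
  rw [e]
  exact h1

theorem torus_Bg (S : L3Zh.Seed h.env) {y : X} (hy : y ∈ L3X.torus fr) {g : X} (hg : g ∈ Bg S) :
    y * g * y⁻¹ ∈ Bg S := by
  rw [mem_Bg] at hg ⊢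
  have h1 := torus_Zh S ((h.torus_conj (i := 0) (j := 1) (by decide)).1 hy) hg
  have e : fr.w 0 1 1 * (y * g * y⁻¹) * (fr.w 0 1 1)⁻¹ =
      fr.w 0 1 1 * y * (fr.w 0 1 1)⁻¹ * (fr.w 0 1 1 * g * (fr.w 0 1 1)⁻¹) *
        (fr.w 0 1 1 * y * (fr.w 0 1 1)⁻¹)⁻¹ := by group
  rw [e]
  exact h1

end

end Cfsg.Agent.StdRank2.L3Four
end

-- part: StdL3/OneGrown
section
set_option autoImplicit false
set_option linter.constructorNameAsVariable false
set_option linter.unusedVariables false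

/-!
# The grown group `U` is `Heis (Q ν)`: `Setup A t → Pack U t`
-/

namespace Cfsg.Agent.StdL3.OneGrow

open Cfsg.Agent.LThreeFour
open Cfsg.Agent.SporadicA.FieldFour
open Cfsg.Agent.ONType.Psl (kap)
open Cfsg.Agent.StdL3.OneRoot
open Cfsg.Agent.StdL3.OneY
open Cfsg.Agent.StdL3.OnePair
open Cfsg.Agent.StdL3.OneThree
open Cfsg.Agent.StdL3.HeisCoord

variable {X : Type*} [Group X] {L : Subgroup X} {A : Dat L} {t : X}

namespace Setup

/-- conjugation by `h⁻¹` -/
def HC (A : Dat L) : X →* X := (MulAut.conj (hh A)⁻¹).toMonoidHom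

theorem HC_apply (x : X) : HC A x = (hh A)⁻¹ * x * hh A := by
  change (hh A)⁻¹ * x * ((hh A)⁻¹)⁻¹ = _
  rw [inv_inv]

/-- conjugation by `t` -/
def TC (t : X) : X →* X := (MulAut.conj t).toMonoidHom

theorem TC_apply (x : X) : TC t x = t * x * t⁻¹ := rfl

theorem TC_of (S : Setup A t) {y : X} {i j : Fin 3} {u : F4} (h : t * y = y * (t * r A i j u)) :
    TC t y = y * r A i j u := by
  have h1 := S.tL _ (r_mem A i j u)
  rw [TC_apply, h, h1]; group

theorem TC_fix (S : Setup A t) {y : X} : TC t y = y ↔ t * y = y * t := by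
  rw [TC_apply]
  constructor
  · intro h
    calc t * y = t * y * t⁻¹ * t := by group
      _ = y * t := by rw [h]
  · intro h
    rw [h]; group

theorem t_hh (S : Setup A t) : t * hh A = hh A * t := S.tL _ (hh_mem A)

theorem grown (S : Setup A t) :
    Grown (TC t) (HC A) S.Y1 S.Y2 S.Y3 S.U (r A 0 1) (r A 1 2) (r A 0 2) where
  card1 := S.card_Y1
  card2 := S.card_Y2
  card3 := S.card_Y3
  cardU := S.card_U
  sq1 := S.three.sq1
  sq2 := S.three.sq2
  sq3 := S.three.sq3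
  le1 := S.three.Y1_le
  le2 := S.three.Y2_le
  le3 := S.three.Y3_le
  gen := by
    rintro u ⟨y1, h1, y2, h2, y3, h3, rfl⟩
    exact ⟨y1, h1, y2, h2, y3, h3, rfl⟩
  c13 := S.three.c13
  c23 := S.three.c23
  c12 := by
    intro y hy y' hy'
    obtain ⟨z, hz, h⟩ := S.three.comm12 hy hy'
    refine ⟨z⁻¹, S.Y3.inv_mem hz, ?_⟩
    rw [h]; group
  TH := by
    intro y
    have h1 := S.t_hh
    have h2 : t * (hh A)⁻¹ = (hh A)⁻¹ * t := by
      calc t * (hh A)⁻¹ = (hh A)⁻¹ * (hh A * t) * (hh A)⁻¹ := by group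
        _ = (hh A)⁻¹ * (t * hh A) * (hh A)⁻¹ := by rw [h1]
        _ = (hh A)⁻¹ * t := by group
    have h3 : hh A * t⁻¹ = t⁻¹ * hh A := by
      calc hh A * t⁻¹ = t⁻¹ * (t * hh A) * t⁻¹ := by group
        _ = t⁻¹ * (hh A * t) * t⁻¹ := by rw [h1]
        _ = t⁻¹ * hh A := by group
    rw [HC_apply, HC_apply, TC_apply, TC_apply]
    calc t * ((hh A)⁻¹ * y * hh A) * t⁻¹ = (t * (hh A)⁻¹) * y * (hh A * t⁻¹) := by group
      _ = (hh A)⁻¹ * (t * y * t⁻¹) * hh A := by rw [h2, h3]; group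
  HHH := by
    intro y
    rw [HC_apply, HC_apply, HC_apply]
    have h := hh_cube A
    have h' : (hh A)⁻¹ * (hh A)⁻¹ * (hh A)⁻¹ = 1 := by
      calc (hh A)⁻¹ * (hh A)⁻¹ * (hh A)⁻¹ = (hh A * hh A * hh A)⁻¹ := by group
        _ = 1 := by rw [h, inv_one]
    calc (hh A)⁻¹ * ((hh A)⁻¹ * ((hh A)⁻¹ * y * hh A) * hh A) * hh A
        = ((hh A)⁻¹ * (hh A)⁻¹ * (hh A)⁻¹) * y * (hh A * hh A * hh A) := by group
      _ = y := by rw [h, h']; group
  T3 := by
    intro y hy
    obtain ⟨u, hu⟩ := S.rg3.mv y hy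
    rw [S.TC_of hu]
    exact S.Y3.mul_mem hy (S.rg3.le u)
  H1 := by
    intro y hy
    rw [HC_apply]; exact S.h_Y1 hy
  H2 := by
    intro y hy
    rw [HC_apply]; exact S.h_Y2 hy
  H3 := by
    intro y hy
    rw [HC_apply]; exact S.h_Y3 hy
  fix1 := by
    intro y hy h
    rw [HC_apply] at h
    exact S.rg1.h_fix S.tL (by decide) inj01 hy h
  fix2 := by
    intro y hy h
    rw [HC_apply] at h
    exact S.rg2.h_fix S.tL (by decide) inj12 hy h
  fix3 := by
    intro y hy h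
    rw [HC_apply] at h
    exact S.rg3.h_fix S.tL (by decide) inj02 hy h
  m1 := S.rg1.le
  m2 := S.rg2.le
  m3 := S.rg3.le
  a1 := fun a b => (r_add A (by decide) a b).symm
  a2 := fun a b => (r_add A (by decide) a b).symm
  a3 := fun a b => (r_add A (by decide) a b).symm
  i1 := inj01
  i2 := inj12
  i3 := inj02
  h1 := by
    intro a
    rw [HC_apply]
    exact congrArg Subtype.val (A.h_x 0 1 (by decide) a)
  h2 := by
    intro a
    rw [HC_apply]
    exact congrArg Subtype.val (A.h_x 1 2 (by decide) a)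
  h3 := by
    intro a
    rw [HC_apply]
    exact congrArg Subtype.val (A.h_x 0 2 (by decide) a)
  comm := fun a b => r_sum A (by decide) (by decide) (by decide) a b
  t1 := fun a => S.TC_fix.2 (S.tL _ (r_mem A _ _ a))
  t2 := fun a => S.TC_fix.2 (S.tL _ (r_mem A _ _ a))
  t3 := fun a => S.TC_fix.2 (S.tL _ (r_mem A _ _ a))
  lift1 := by
    obtain ⟨y, hy, h⟩ := S.rg1.surj 1
    exact ⟨y, hy, S.TC_of h⟩
  lift2 := by
    obtain ⟨y, hy, h⟩ := S.rg2.surj 1
    exact ⟨y, hy, S.TC_of h⟩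
  tfix3 := by
    intro y hy h
    exact S.rg3.fix y hy (S.TC_fix.1 h)

end Setup

end Cfsg.Agent.StdL3.OneGrow
end

-- part: StdRank2/L3Four/Coord
section
/-!
# Type `L₃(4)`: coordinates on the grown group, in the form `L3G.Coord`
-/

set_option autoImplicit false
set_option linter.unusedSectionVars false
set_option linter.constructorNameAsVariable false

namespace Cfsg.Agent.StdRank2.L3Four

open Cfsg.Agent.LThreeFour
open Cfsg.Agent.SporadicA.FieldFour
open Cfsg.Agent.StdL3.OneRoot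
open Cfsg.Agent.StdL3.OneY
open Cfsg.Agent.StdL3.OneGrow
open Cfsg.Agent.StdL3.HeisCoord (zz)
open Cfsg.Agent.StdRank2.L3G

variable {X : Type*} [Group X] {L : Subgroup X} {A : Dat L} {t : X}

theorem zz_eq_cm {x y : X} (hx : x * x = 1) (hy : y * y = 1) : zz x y = cm x y := by
  unfold zz cm
  rw [inv_of_sq hx, inv_of_sq hy]

/-- **Coordinates for `q = 4`.** -/
theorem exists_coord (S : Setup A t) : Nonempty (Coord (base S) S.Y1 S.Y2 S.Y3) := by
  obtain ⟨ν, p, q, r', pm, qm, rm, pa, qa, ra, pT, qT, rT, h1, h2, h3⟩ := S.grown.exists_coords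
  have C := core S
  have conv : ∀ {y : X} {i j : Fin 3} {u : F4}, y * y = 1 →
      Setup.TC t y = y * r A i j u →
      y * t * y⁻¹ = r A i j u * t := by
    intro y i j u hy h
    have hx := S.tL _ (r_mem A i j u)
    refine conj_of_mv hy hx ?_
    rw [Setup.TC_apply] at h
    calc t * y = (t * y * t⁻¹) * t := by group
      _ = _ := by rw [h, mul_assoc, ← hx]
  exact ⟨{
    pa := p
    pb := q
    pc := r'
    g := ν
    pa_mem := pm
    pb_mem := qm
    pc_mem := rm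
    pa_add := pa
    pb_add := qa
    pc_add := ra
    pa_t := fun s => conv (C.A_sq _ (pm s)) (pT s)
    pb_t := fun s => conv (C.B_sq _ (qm s)) (qT s)
    pc_t := fun s => conv (C.Z_sq _ (rm s)) (rT s)
    pa_xb := fun s u => by
      rw [← zz_eq_cm (C.A_sq _ (pm s)) (C.B_sq _ (C.memB u))]
      exact h1 s u
    xa_pb := fun s u => by
      rw [← zz_eq_cm (C.A_sq _ (C.memA s)) (C.B_sq _ (qm u))]
      exact h2 s u
    pa_pb := fun s u => by
      rw [← zz_eq_cm (C.A_sq _ (pm s)) (C.B_sq _ (qm u))]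
      exact h3 s u }⟩

variable {F K : Type*} [Field F] [CharP F 2] [Field K] [CharP K 2]

/-- Reparametrisation of coordinates. -/
@[simps]
def _root_.Cfsg.Agent.StdRank2.L3G.Coord.comap {E : Base F X} {P Q R : Subgroup X}
    (C : Coord E P Q R) (f : K ≃+* F) : Coord (E.comap f) P Q R where
  pa x := C.pa (f x)
  pb x := C.pb (f x)
  pc x := C.pc (f x)
  g := f.symm C.g
  pa_mem _ := C.pa_mem _
  pb_mem _ := C.pb_mem _
  pc_mem _ := C.pc_mem _
  pa_add s r := by rw [map_add, C.pa_add]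
  pb_add s r := by rw [map_add, C.pb_add]
  pc_add s r := by rw [map_add, C.pc_add]
  pa_t s := C.pa_t _
  pb_t s := C.pb_t _
  pc_t s := C.pc_t _
  pa_xb s r := by rw [map_mul]; exact C.pa_xb _ _
  xa_pb s r := by rw [map_mul]; exact C.xa_pb _ _
  pa_pb s r := by
    rw [Base.comap_xc, map_mul, map_mul, map_mul, f.apply_symm_apply]; exact C.pa_pb _ _

/-- Coordinates over any field with four elements. -/
theorem exists_coord_of (S : Setup A t) (f : K ≃+* F4) :
    Nonempty (Coord ((base S).comap f) S.Y1 S.Y2 S.Y3) := by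
  obtain ⟨C⟩ := exists_coord S
  exact ⟨C.comap f⟩

/-! ### the version for an arbitrary base and a torus element of order 3 -/

/-- Conjugation. -/
def cjH (k : X) : X →* X := (MulAut.conj k).toMonoidHom

theorem cjH_apply (k x : X) : cjH k x = k * x * k⁻¹ := rfl

section Torus

variable {E : Base F4 X} {P Q R : Subgroup X}

theorem fix_eq_one {x : F4 → X} {Y : Subgroup X} {k s : X} (hks : s * k = k * s)
    (hxi : ∀ a b, x a = x b → a = b) (x0 : x 0 = 1) {m : F4} (hm : m ≠ 1)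
    (hk : ∀ a, k * x a * k⁻¹ = x (m * a))
    (conj : ∀ g ∈ Y, ∃ c, g * s * g⁻¹ = x c * s) (cent : ∀ g ∈ Y, g * s = s * g → ∃ c, g = x c)
    {y : X} (hy : y ∈ Y) (h : k * y * k⁻¹ = y) : y = 1 := by
  have key : ∀ c : F4, x (m * c) = x c → c = 0 := by
    intro c hc
    have h1 := hxi _ _ hc
    have h2 : (m - 1) * c = 0 := by rw [sub_mul, h1, one_mul, sub_self]
    rcases mul_eq_zero.1 h2 with h3 | h3
    · exact absurd (sub_eq_zero.1 h3) hm
    · exact h3
  obtain ⟨c, hc⟩ := conj y hy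
  have hk2 : k * s * k⁻¹ = s := by rw [← hks, mul_inv_cancel_right]
  have h1 : x (m * c) * s = x c * s := by
    calc x (m * c) * s = (k * x c * k⁻¹) * (k * s * k⁻¹) := by rw [hk, hk2]
      _ = k * (x c * s) * k⁻¹ := by group
      _ = k * (y * s * y⁻¹) * k⁻¹ := by rw [hc]
      _ = (k * y * k⁻¹) * (k * s * k⁻¹) * (k * y * k⁻¹)⁻¹ := by group
      _ = x c * s := by rw [h, hk2, hc]
  have hc0 := key c (mul_right_cancel h1)
  subst hc0
  rw [x0, one_mul] at hc
  obtain ⟨d, rfl⟩ := cent y hy (comm_of_conj hc)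
  have h2 := key d (by rw [← hk, h])
  rw [h2, x0]

/-- The grown configuration in the sense of `StdL3.HeisCoord`. -/
theorem grown_of (C : Core E P Q R) {k : X} (h3 : k * k * k = 1) (ht : E.t * k = k * E.t)
    (hP : ∀ g ∈ P, k * g * k⁻¹ ∈ P) (hQ : ∀ g ∈ Q, k * g * k⁻¹ ∈ Q)
    (hR : ∀ g ∈ R, k * g * k⁻¹ ∈ R)
    (ha : ∀ x, k * E.xa x * k⁻¹ = E.xa (F4.w * x)) (hb : ∀ x, k * E.xb x * k⁻¹ = E.xb (F4.w * x)) :
    Cfsg.Agent.StdL3.HeisCoord.Grown (cjH E.t) (cjH k) P Q R C.Sh E.xa E.xb E.xc := by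
  have hc : ∀ x, k * E.xc x * k⁻¹ = E.xc (F4.v * x) := by
    intro x
    have h1 : E.xc (x * 1) = E.xa x * E.xb 1 * (E.xa x)⁻¹ * (E.xb 1)⁻¹ := by
      rw [E.a_b]; group
    have h2 : E.xc ((F4.w * x) * (F4.w * 1))
        = E.xa (F4.w * x) * E.xb (F4.w * 1) * (E.xa (F4.w * x))⁻¹ * (E.xb (F4.w * 1))⁻¹ := by
      rw [E.a_b]; group
    rw [mul_one] at h1
    have h3 : F4.v * x = (F4.w * x) * (F4.w * 1) := by cases x <;> rfl
    rw [h3, h2, h1, ← ha, ← hb]
    group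
  have c4 : Nat.card F4 = 4 := by rw [Nat.card_eq_fintype_card, F4.card_eq]
  have hT : ∀ {Y : Subgroup X} {x : F4 → X}, (∀ g ∈ Y, g * g = 1) → (∀ c, x c ∈ Y) →
      ∀ y ∈ Y, ∀ c, y * E.t * y⁻¹ = x c * E.t → cjH E.t y = y * x c := by
    intro Y x hs hx y hy c h
    exact Core.t_conj_of C (hs _ (hx c)) (Core.comm_of_sq' C hs (hx c) hy) h
  exact {
    card1 := by rw [C.card_A, c4]; norm_num
    card2 := by rw [C.card_B, c4]; norm_num
    card3 := by rw [C.card_Z, c4]; norm_num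
    cardU := by rw [C.card_Sh, c4]; norm_num
    sq1 := C.A_sq
    sq2 := C.B_sq
    sq3 := C.Z_sq
    le1 := C.A_le
    le2 := C.B_le
    le3 := C.Z_le
    gen := fun u hu => hu
    c13 := fun y hy z hz => (C.Z_A z hz y hy).symm
    c23 := fun y hy z hz => (C.Z_B z hz y hy).symm
    c12 := fun y hy y' hy' => by
      refine ⟨(cm y y'), C.cm_mem hy hy', ?_⟩
      have h1 := C.Z_A _ (C.cm_mem hy hy') y hy
      have h2 := C.Z_B _ (C.cm_mem hy hy') y' hy'
      calc y * y' = cm y y' * (y' * y) := by unfold cm; group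
        _ = (cm y y' * y') * y := by group
        _ = y' * (cm y y' * y) := by rw [h2]; group
        _ = _ := by rw [h1]; group
    TH := fun y => by
      have e : E.t * k⁻¹ = k⁻¹ * E.t := by
        rw [eq_inv_mul_iff_mul_eq, ← mul_assoc, ← ht, mul_inv_cancel_right]
      have e' : k⁻¹ * E.t⁻¹ = E.t⁻¹ * k⁻¹ := by
        rw [← mul_inv_rev, ← mul_inv_rev, ht]
      simp only [cjH_apply]
      calc E.t * (k * y * k⁻¹) * E.t⁻¹ = (E.t * k) * y * (k⁻¹ * E.t⁻¹) := by group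
        _ = (k * E.t) * y * (E.t⁻¹ * k⁻¹) := by rw [ht, e']
        _ = _ := by group
    HHH := fun y => by
      simp only [cjH_apply]
      have h3' : k⁻¹ * k⁻¹ * k⁻¹ = 1 := by
        calc k⁻¹ * k⁻¹ * k⁻¹ = (k * k * k)⁻¹ := by group
          _ = 1 := by rw [h3, inv_one]
      calc k * (k * (k * y * k⁻¹) * k⁻¹) * k⁻¹ = (k * k * k) * y * (k⁻¹ * k⁻¹ * k⁻¹) := by group
        _ = y := by rw [h3, h3', one_mul, mul_one]
    T3 := fun y hy => by
      obtain ⟨c, hc⟩ := C.conjZ y hy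
      rw [hT C.Z_sq C.memZ y hy c hc]
      exact R.mul_mem hy (C.memZ c)
    H1 := hP
    H2 := hQ
    H3 := hR
    fix1 := fun y hy h => fix_eq_one ht (fun _ _ => E.xa_inj) E.xa_zero
      (m := F4.w) (by decide) ha C.conjA C.centA hy h
    fix2 := fun y hy h => fix_eq_one ht (fun _ _ => E.xb_inj) E.xb_zero
      (m := F4.w) (by decide) hb C.conjB C.centB hy h
    fix3 := fun y hy h => fix_eq_one ht (fun _ _ => E.xc_inj) E.xc_zero
      (m := F4.v) (by decide) hc C.conjZ C.centZ hy h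
    m1 := C.memA
    m2 := C.memB
    m3 := C.memZ
    a1 := E.xa_add
    a2 := E.xb_add
    a3 := E.xc_add
    i1 := fun _ => E.xa_eq_one
    i2 := fun _ => E.xb_eq_one
    i3 := fun _ => E.xc_eq_one
    h1 := ha
    h2 := hb
    h3 := hc
    comm := fun a b => by
      rw [E.a_b, ← mul_assoc, E.c_b, mul_assoc, E.c_a, ← mul_assoc]
    t1 := fun a => by rw [cjH_apply, E.t_a, mul_inv_cancel_right]
    t2 := fun a => by rw [cjH_apply, E.t_b, mul_inv_cancel_right]
    t3 := fun a => by rw [cjH_apply, E.t_c, mul_inv_cancel_right]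
    lift1 := by
      obtain ⟨y, hy, h⟩ := C.ontoA 1
      exact ⟨y, hy, hT C.A_sq C.memA y hy 1 h⟩
    lift2 := by
      obtain ⟨y, hy, h⟩ := C.ontoB 1
      exact ⟨y, hy, hT C.B_sq C.memB y hy 1 h⟩
    tfix3 := fun y hy h => by
      refine C.centZ y hy ?_
      rw [cjH_apply] at h
      have : E.t * y = y * E.t := by
        calc E.t * y = (E.t * y * E.t⁻¹) * E.t := by group
          _ = _ := by rw [h]
      exact this.symm }

theorem exists_coord_F4 (C : Core E P Q R) {k : X} (h3 : k * k * k = 1) (ht : E.t * k = k * E.t)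
    (hP : ∀ g ∈ P, k * g * k⁻¹ ∈ P) (hQ : ∀ g ∈ Q, k * g * k⁻¹ ∈ Q)
    (hR : ∀ g ∈ R, k * g * k⁻¹ ∈ R)
    (ha : ∀ x, k * E.xa x * k⁻¹ = E.xa (F4.w * x)) (hb : ∀ x, k * E.xb x * k⁻¹ = E.xb (F4.w * x)) :
    Nonempty (Coord E P Q R) := by
  obtain ⟨ν, p, q, r', pm, qm, rm, pa, qa, ra, pT, qT, rT, h1, h2, h3⟩ :=
    (grown_of C h3 ht hP hQ hR ha hb).exists_coords
  have conv : ∀ {y z : X}, y * y = 1 → E.t * z = z * E.t → cjH E.t y = y * z →
      y * E.t * y⁻¹ = z * E.t := by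
    intro y z hy hx h
    refine conj_of_mv hy hx ?_
    rw [cjH_apply] at h
    calc E.t * y = (E.t * y * E.t⁻¹) * E.t := by group
      _ = _ := by rw [h, mul_assoc, ← hx]
  exact ⟨{
    pa := p
    pb := q
    pc := r'
    g := ν
    pa_mem := pm
    pb_mem := qm
    pc_mem := rm
    pa_add := pa
    pb_add := qa
    pc_add := ra
    pa_t := fun s => conv (C.A_sq _ (pm s)) (E.t_a _) (pT s)
    pb_t := fun s => conv (C.B_sq _ (qm s)) (E.t_b _) (qT s)
    pc_t := fun s => conv (C.Z_sq _ (rm s)) (E.t_c _) (rT s)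
    pa_xb := fun s u => by
      rw [← zz_eq_cm (C.A_sq _ (pm s)) (C.B_sq _ (C.memB u))]
      exact h1 s u
    xa_pb := fun s u => by
      rw [← zz_eq_cm (C.A_sq _ (C.memA s)) (C.B_sq _ (qm u))]
      exact h2 s u
    pa_pb := fun s u => by
      rw [← zz_eq_cm (C.A_sq _ (pm s)) (C.B_sq _ (qm u))]
      exact h3 s u }⟩

end Torus

theorem comap_comap_symm {E : Base F X} (f : K ≃+* F) : (E.comap f).comap f.symm = E := by
  cases E
  simp [Base.comap]

theorem exists_F4_iso (hF : Nat.card F = 4) {w : F} (hw0 : w ≠ 0) (hw1 : w ≠ 1) :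
    ∃ f : F4 ≃+* F, f F4.w = w := by
  have : Finite F := Nat.finite_of_card_ne_zero (by rw [hF]; norm_num)
  have : Fintype F := Fintype.ofFinite F
  let f0 : F4 ≃+* F := FiniteField.ringEquivOfCardEq (by
    rw [F4.card_eq, ← Nat.card_eq_fintype_card, hF])
  obtain ⟨u, hu⟩ := f0.surjective w
  have h1 : u ≠ 0 := by rintro rfl; exact hw0 (by rw [← hu, map_zero])
  have h2 : u ≠ 1 := by rintro rfl; exact hw1 (by rw [← hu, map_one])
  by_cases h : u = F4.w
  · exact ⟨f0, by rw [← h, hu]⟩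
  · have h3 : u = F4.v := by
      cases u
      · exact absurd rfl h1
      · exact absurd rfl h2
      · exact absurd rfl h
      · rfl
    refine ⟨Cfsg.Agent.StdL3.OuterMat.phi.trans f0, ?_⟩
    have : Cfsg.Agent.StdL3.OuterMat.phi F4.w = F4.v := rfl
    rw [RingEquiv.trans_apply, this, ← h3, hu]

/-- **Coordinates for `q = 4`**, general base `E`, torus element `k` of order 3. -/
theorem exists_coord_torus (hF : Nat.card F = 4) {E : Base F X} {P Q R : Subgroup X}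
    (C : Core E P Q R) {k : X} (h3 : k * k * k = 1) (ht : E.t * k = k * E.t)
    (hP : ∀ g ∈ P, k * g * k⁻¹ ∈ P) (hQ : ∀ g ∈ Q, k * g * k⁻¹ ∈ Q)
    (hR : ∀ g ∈ R, k * g * k⁻¹ ∈ R) {w : F} (hw0 : w ≠ 0) (hw1 : w ≠ 1)
    (ha : ∀ x, k * E.xa x * k⁻¹ = E.xa (w * x)) (hb : ∀ x, k * E.xb x * k⁻¹ = E.xb (w * x)) :
    Nonempty (Coord E P Q R) := by
  obtain ⟨f, hf⟩ := exists_F4_iso hF hw0 hw1
  obtain ⟨D⟩ := exists_coord_F4 (C.comap f) h3 ht hP hQ hR
    (fun x => by
      change k * E.xa (f x) * k⁻¹ = E.xa (f (F4.w * x))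
      rw [ha, map_mul, hf])
    (fun x => by
      change k * E.xb (f x) * k⁻¹ = E.xb (f (F4.w * x))
      rw [hb, map_mul, hf])
  have h := comap_comap_symm (E := E) f
  exact h ▸ ⟨D.comap f.symm⟩

end Cfsg.Agent.StdRank2.L3Four
end

-- part: StdRank2/L3Four/Input
section
/-!
# Type `L₃(q)`, all `q ≥ 4` even: the input of the root system in `X`

`exists_input_all : XSit A t fr → L3Zh.Seed h.env → ∃ Ag Bg, Nonempty (L3Roots.Input h Ag Bg S.Zh)`.
-/

set_option autoImplicit false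
set_option linter.unusedSectionVars false
set_option linter.constructorNameAsVariable false
set_option linter.dupNamespace false

namespace Cfsg.Agent.StdRank2.L3Four

open Subgroup
open Cfsg.Agent.LThreeFour
open Cfsg.Agent.SporadicA.FieldFour
open Cfsg.Agent.StdL3.OneRoot
open Cfsg.Agent.StdRank2.L3G
open Cfsg.Agent.StdRank2.FrameL3

variable {X : Type*} [Group X] [Finite X] {A : Subgroup X} {t : X}
  {F : Type*} [Field F] [Finite F] [CharP F 2] {fr : FrameL3 A F}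

/-- **Coordinates in `X` (`q = 4`).** -/
theorem exists_coord_X {h : L3X.XSit A t fr} (hF : Nat.card F = 4) (S : L3Zh.Seed h.env) :
    Nonempty (Coord (baseX h) (Ag S) (Bg S) S.Zh) := by
  obtain ⟨κ⟩ := exists_kap (F := F) hF
  have hk := (isTor_hh h κ).inv
  have hkT : (hh (dat h κ))⁻¹ ∈ L3X.torus fr := ⟨_, hk⟩
  have hw0 : κ F4.w ≠ 0 := by rw [Ne, map_eq_zero_iff κ κ.injective]; decide
  have hw1 : κ F4.w ≠ 1 := by
    rw [Ne, ← map_one κ, κ.injective.eq_iff]; decide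
  refine exists_coord_torus hF (core_X hF S) (k := (hh (dat h κ))⁻¹) ?_ ?_
    (fun g hg => torus_Ag S hkT hg) (fun g hg => torus_Bg S hkT hg) (fun g hg => torus_Zh S hkT hg)
    hw0 hw1 ?_ ?_
  · rw [← mul_inv_rev, ← mul_inv_rev, ← mul_assoc, hh_cube, inv_one]
  · exact h.tA _ (inv_mem (hh_mem _))
  · intro x
    show (hh (dat h κ))⁻¹ * fr.x 0 1 x * (hh (dat h κ))⁻¹⁻¹ = fr.x 0 1 (κ F4.w * x)
    rw [hk.2.2 0 1 (by decide)]
    congr 1
    simp
    ring
  · intro x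
    show (hh (dat h κ))⁻¹ * fr.x 1 2 x * (hh (dat h κ))⁻¹⁻¹ = fr.x 1 2 (κ F4.w * x)
    rw [hk.2.2 1 2 (by decide)]
    congr 1
    have h1 : κ F4.v = κ F4.w * κ F4.w := by rw [← map_mul]; rfl
    show (κ F4.w)⁻¹ * x * (κ F4.v)⁻¹⁻¹ = κ F4.w * x
    rw [h1, inv_inv]
    field_simp

/-- **The input in `X` (`q = 4`).** -/
theorem exists_input_four (h : L3X.XSit A t fr) (hF : Nat.card F = 4) (S : L3Zh.Seed h.env) :
    Nonempty (L3Roots.Input h (Ag S) (Bg S) S.Zh) := by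
  obtain ⟨K⟩ := exists_coord_X hF S
  exact ⟨⟨core_X hF S, K, weylA_X S, weylB_X S⟩⟩

/-- `q = 4` or `q ≥ 8`. -/
theorem four_or_eight (h : L3X.XSit A t fr) : Nat.card F = 4 ∨ 8 ≤ Nat.card F := by
  have : Fintype F := Fintype.ofFinite F
  obtain ⟨n, -, hn⟩ := FiniteField.card F 2
  have h4 := h.four
  rw [Nat.card_eq_fintype_card] at h4 ⊢
  rw [hn] at h4 ⊢
  have h1 : (n : ℕ) = 2 ∨ 3 ≤ (n : ℕ) := by
    by_contra hcon
    push Not at hcon
    have h2 : (n : ℕ) ≤ 1 := by omega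
    have h3 := Nat.pow_le_pow_right (n := 2) (by norm_num) h2
    omega
  rcases h1 with h1 | h1
  · left; rw [h1]; norm_num
  · right
    have h3 := Nat.pow_le_pow_right (n := 2) (by norm_num) h1
    omega

/-- **The input in `X`, all `q ≥ 4`.** -/
theorem exists_input_all (h : L3X.XSit A t fr) (S : L3Zh.Seed h.env) :
    ∃ Ag Bg : Subgroup X, Nonempty (L3Roots.Input h Ag Bg S.Zh) := by
  rcases four_or_eight h with hF | hF
  · exact ⟨_, _, exists_input_four h hF S⟩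
  · obtain ⟨ν, hν0, hν1⟩ := h.exists_nu hF
    exact ⟨_, _, L3Roots.exists_input h hν0 hν1 ((h.seedG S hν0 hν1).grown
      (fr.w_mul_self (by decide) 1) (fr.w_mul_self (by decide) 1))⟩

end Cfsg.Agent.StdRank2.L3Four
end

-- part: StdRank2/L3Four/Start
section
/-!
# Type `L₃(4)`: the start (helper805's argument for the graph-field involutions)

`concl1`: `t` is conjugate to `a` or to `t a` for some involution `a ∈ A`, if it is conjugate to some element `≠ t` of `T`.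
-/

set_option autoImplicit false
set_option linter.unusedSectionVars false
set_option linter.dupNamespace false

namespace Cfsg.Agent.StdRank2.L3Four.Start

open Subgroup Cfsg.Agent.SignalizersComponents Cfsg.Agent.StdEven.Syl Cfsg.Agent.StdEven.Loc
open Cfsg.Agent.StdEven.StepFour Cfsg.Agent.StdL2.Setup Cfsg.Agent.StdEven.Perf
open Cfsg.Agent.Schreier.Basic
open Cfsg.Agent.StdRank2.L3Data Cfsg.Agent.StdRank2.OutL3Inv Cfsg.Agent.StdRank2.OutL3Je
open Cfsg.Agent.StdRank2.OutL3Rel Cfsg.Agent.StdRank2.OutL3Outer Cfsg.Agent.StdRank2.OutField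
open Cfsg.Agent.SporadicA.FieldFour
open scoped commutatorElement

section Field

variable {F : Type*} [Field F] [Finite F] [CharP F 2]

theorem aut_eq (hF : Nat.card F = 4) (σ : F ≃+* F) : σ = 1 ∨ ∀ x, σ x = x * x := by
  obtain ⟨κ⟩ := exists_kap (F := F) hF
  rcases Cfsg.Agent.ONType.OuterL.ringEquiv_eq ((κ.trans σ).trans κ.symm) with h | h
  · left
    ext x
    obtain ⟨y, rfl⟩ := κ.surjective x
    have h1 := congrArg κ (h y)
    simpa using h1
  · right
    intro x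
    obtain ⟨y, rfl⟩ := κ.surjective x
    have h1 := congrArg κ (h y)
    simpa only [_root_.RingEquiv.coe_trans, _root_.Function.comp_apply, _root_.RingEquiv.apply_symm_apply, _root_.map_mul] using h1

theorem aut_unique (hF : Nat.card F = 4) {σ τ : F ≃+* F} (hσ : σ ≠ 1) (hτ : τ ≠ 1) : σ = τ := by
  ext x
  rw [(aut_eq hF σ).resolve_left hσ, (aut_eq hF τ).resolve_left hτ]

theorem fix_eq (hF : Nat.card F = 4) {σ : F ≃+* F} (hσ : σ ≠ 1) {x : F} (hx : σ x = x) : x = 0 ∨ x = 1 := by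
  rw [(aut_eq hF σ).resolve_left hσ] at hx
  have h1 : x * (x - 1) = 0 := by rw [mul_sub, hx, mul_one, sub_self]
  rcases mul_eq_zero.1 h1 with h2 | h2
  · exact Or.inl h2
  · exact Or.inr (sub_eq_zero.1 h2)

end Field

variable {G : Type*} [Group G] {L A : Subgroup G} {t : G} {T : Subgroup G}
  {F : Type*} [Field F] [CharP F 2] {fr : FrameL3 A F}

/-- `f` induces an inner automorphism of `A`. -/
def Inn (A : Subgroup G) (f : G) : Prop := ∃ a ∈ A, a⁻¹ * f ∈ centralizer (A : Set G)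

/-- `t` is conjugate to an involution of `A` or of `t A`. -/
def Concl1 (A : Subgroup G) (t : G) : Prop :=
  ∃ a ∈ A, a * a = 1 ∧ a ≠ 1 ∧ ((∃ g : G, g * t * g⁻¹ = a) ∨ ∃ g : G, g * t * g⁻¹ = t * a)

theorem conj_ne_one {g x : G} (hx : x ≠ 1) : g * x * g⁻¹ ≠ 1 := by
  intro h
  apply hx
  have : x = g⁻¹ * (g * x * g⁻¹) * g := by group
  rw [this, h]; group

theorem conj_sq {g x : G} (hx : x * x = 1) : g * x * g⁻¹ * (g * x * g⁻¹) = 1 := by
  calc g * x * g⁻¹ * (g * x * g⁻¹) = g * (x * x) * g⁻¹ := by group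
    _ = 1 := by rw [hx]; group

variable [Finite G] [Finite F]

/-- Either the conclusion or graph-field type. -/
theorem graph_or (h : Sit L A t T fr) (hS : Sch ↥A) (hno : ¬ Concl1 A t) {s g : G} (hs : s ∈ T) (hst : s ≠ t)
    (hg : g * t * g⁻¹ = s) :
    ∃ w ∈ fr.U, ∃ σ : F ≃+* F, σ ≠ 1 ∧ σ * σ = 1 ∧ Grf fr (w * s * w⁻¹) σ := by
  have hss : s * s = 1 := by rw [← hg]; exact conj_sq h.tt
  have hs1 : s ≠ 1 := by rw [← hg]; exact conj_ne_one h.t_ne
  by_cases hin : ∃ a ∈ A, a⁻¹ * s ∈ centralizer (A : Set G)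
  · exfalso
    obtain ⟨a, ha, haf⟩ := hin
    obtain ⟨v, hvT, hvA, r, hrT, hrK, hfe⟩ := h.isT.exists_of_inner hs ha haf
    have hrv : r * v = v * r := comm_of_centralizer hrK hvA
    have h1 : (v * v) * (r * r) = 1 := by
      rw [← hss, hfe]
      calc v * v * (r * r) = v * (v * r) * r := by group
        _ = v * (r * v) * r := by rw [hrv]
        _ = v * r * (v * r) := by group
    have h2 : v * v = 1 := by
      apply h.isT.eq_one_of_mem h.hZ (mul_mem hvT hvT) (mul_mem hvA hvA)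
      rw [eq_inv_of_mul_eq_one_left h1]
      exact inv_mem (mul_mem hrK hrK)
    rw [h2, one_mul] at h1
    rcases h.isT.uniq r hrT hrK h1 with h3 | h3
    · rw [h3, mul_one] at hfe
      exact hno ⟨v, hvA, h2, by rw [← hfe]; exact hs1, Or.inl ⟨g, by rw [hg, hfe]⟩⟩
    · rw [h3] at hfe hrv
      refine hno ⟨v, hvA, h2, ?_, Or.inr ⟨g, by rw [hg, hfe, hrv]⟩⟩
      rintro rfl
      rw [one_mul] at hfe
      exact hst hfe
  · rcases good_or h.hZ h.had h.isT.syl.le h.perfect h.four hs hss hin with h1 | ⟨-, w, hw, σ, h1, h2, h3⟩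
    · exfalso
      obtain ⟨B, hB, hBf, hB2, w, hw, hww, hw1, c, hc⟩ := h1
      obtain ⟨a, ha, haa, ha1, y, hy⟩ :=
        exists_conj_mul h.conf.std h.conf.ht h.conf.htA h.conf.cyc hS hg hB hBf hB2 hw hww hw1 hc
      exact hno ⟨a, ha, haa, ha1, Or.inr ⟨y, hy⟩⟩
    · exact ⟨w, hw, σ, h1, h2, h3⟩

/-- a power of `r` has square `t`. -/
theorem exists_pow (h : Sit L A t T fr) {r : G} (hr : r ∈ T) (hrK : r ∈ centralizer (A : Set G)) (h1 : r ≠ 1)
    (h2 : r ≠ t) : ∃ n : ℕ, r ^ n * r ^ n = t := by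
  obtain ⟨k, hk⟩ := h.isT.syl.two ⟨r, hr⟩
  have hk : r ^ 2 ^ k = 1 := congrArg Subtype.val hk
  obtain ⟨k, hk, hko⟩ := (Nat.dvd_prime_pow Nat.prime_two).mp (orderOf_dvd_of_pow_eq_one hk)
  match k, hko with
  | 0, hko =>
    exfalso
    rw [pow_zero, orderOf_eq_one_iff] at hko
    exact h1 hko
  | 1, hko =>
    exfalso
    rcases h.isT.uniq r hr hrK (by rw [← pow_two, ← pow_one 2, ← hko, pow_orderOf_eq_one]) with h | h
    · exact h1 h
    · exact h2 h
  | k + 2, hko =>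
    refine ⟨2 ^ k, ?_⟩
    have h3 : r ^ 2 ^ k * r ^ 2 ^ k = r ^ 2 ^ (k + 1) := by rw [← pow_add]; congr 1; ring
    rw [h3]
    rcases h.isT.uniq (r ^ 2 ^ (k + 1)) (pow_mem hr _) (pow_mem hrK _) (by
      rw [← pow_add]
      have : 2 ^ (k + 1) + 2 ^ (k + 1) = 2 ^ (k + 2) := by ring
      rw [this, ← hko, pow_orderOf_eq_one]) with h | h
    · exfalso
      have h4 := orderOf_dvd_of_pow_eq_one h
      rw [hko] at h4
      have h5 := Nat.le_of_dvd (by positivity) h4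
      have h6 : 2 ^ (k + 1) < 2 ^ (k + 2) := Nat.pow_lt_pow_right (by norm_num) (by omega)
      omega
    · exact h

/-- 2-elements of `C(t)` are conjugate into `T`. -/
theorem exists_into (h : Sit L A t T fr) {x : G} (hx : x * t = t * x) (h2 : ∃ k : ℕ, x ^ 2 ^ k = 1) :
    ∃ c : G, c * t = t * c ∧ c * x * c⁻¹ ∈ T := by
  have hTc := h.isT.syl_cent h.conf.std h.conf.ht h.conf.htA
  have hP : IsPGroup 2 (zpowers x) := by
    rintro ⟨y, hy⟩
    obtain ⟨k, hk⟩ := h2
    obtain ⟨m, hm⟩ := mem_zpowers_iff.1 hy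
    refine ⟨k, Subtype.ext ?_⟩
    show y ^ 2 ^ k = 1
    rw [← hm, ← zpow_natCast, ← zpow_mul, mul_comm, zpow_mul, zpow_natCast, hk, one_zpow]
  obtain ⟨c, hc, hcx⟩ := hTc.exists_conj hP (by
    rw [zpowers_le, mem_centralizer_singleton_iff]
    exact hx)
  rw [mem_centralizer_singleton_iff] at hc
  exact ⟨c, hc, hcx x (mem_zpowers x)⟩

/-- `C_R(f) = ⟨t⟩`. -/
theorem cent_R (h : Sit L A t T fr) (hS : Sch ↥A) (hno : ¬ Concl1 A t) {f g : G} (hft : f ≠ t)
    (hg : g * t * g⁻¹ = f) {r : G} (hr : r ∈ T) (hrK : r ∈ centralizer (A : Set G)) (hrf : r * f = f * r) :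
    r = 1 ∨ r = t := by
  by_contra hcon
  push Not at hcon
  obtain ⟨n, hn⟩ := exists_pow h hr hrK hcon.1 hcon.2
  set x := r ^ n with hx
  have hxf : x * f = f * x := by
    have : Commute r f := hrf
    exact this.pow_left n
  have hxt : x * t = t * x := h.isT.cent x (pow_mem hr n)
  set ρ := g⁻¹ * x * g with hρ
  set s := g⁻¹ * t * g with hs
  have hρρ : ρ * ρ = s := by
    calc ρ * ρ = g⁻¹ * (x * x) * g := by rw [hρ]; group
      _ = s := by rw [hn]
  have hρt : ρ * t = t * ρ := by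
    have e : t = g⁻¹ * f * g := by rw [← hg]; group
    calc ρ * t = g⁻¹ * (x * f) * g := by rw [e, hρ]; group
      _ = g⁻¹ * (f * x) * g := by rw [hxf]
      _ = t * ρ := by rw [e, hρ]; group
  have hss : s * s = 1 := by
    calc s * s = g⁻¹ * (t * t) * g := by rw [hs]; group
      _ = 1 := by rw [h.tt]; group
  obtain ⟨c, hct, hcT⟩ := exists_into h hρt ⟨2, by
    rw [show (2 : ℕ) ^ 2 = 2 + 2 from rfl, pow_add, pow_two, hρρ, hss]⟩
  have hs1T : c * s * c⁻¹ ∈ T := by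
    have : c * s * c⁻¹ = (c * ρ * c⁻¹) * (c * ρ * c⁻¹) := by rw [← hρρ]; group
    rw [this]
    exact mul_mem hcT hcT
  have hst : c * s * c⁻¹ ≠ t := by
    intro e
    apply hft
    have e1 : s = t := by
      have e2 : s = c⁻¹ * (c * s * c⁻¹) * c := by group
      rw [e2, e, mul_assoc, ← hct]; group
    rw [← hg]
    have e3 : t * g = g * t := by
      calc t * g = g * (g⁻¹ * t * g) := by group
        _ = g * t := by rw [← hs, e1]
    rw [← e3]; group
  obtain ⟨w, hw, σ, hσ1, hσ2, hgr⟩ := graph_or h hS hno (g := c * g⁻¹) hs1T hst (by rw [hs]; group)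
  -- a square has field type
  have hGT : GT fr (c * s * c⁻¹) σ := by
    have hwT : FT fr w 1 := FT.of_mem_U hw
    have h1 : GT fr (w * (c * s * c⁻¹) * w⁻¹) σ := ⟨1, one_mem _, by rw [one_mul]; exact hgr⟩
    have h2 := ((hwT.inv h.hZ).mul_gt h.hZ h1).mul_ft h.hZ hwT
    have e1 : w⁻¹ * (w * (c * s * c⁻¹) * w⁻¹) * w = c * s * c⁻¹ := by group
    rw [e1] at h2
    simpa only [_root_.inv_one, _root_.one_mul, _root_.mul_one] using h2
  have hFT : ∃ τ, FT fr (c * s * c⁻¹) τ := by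
    have e1 : c * s * c⁻¹ = (c * ρ * c⁻¹) * (c * ρ * c⁻¹) := by rw [← hρρ]; group
    rw [e1]
    rcases h.had.cases hcT with ⟨τ, h1⟩ | ⟨τ, h1⟩
    · exact ⟨_, h1.mul h.hZ h1⟩
    · exact ⟨_, h1.mul h.hZ h1⟩
  obtain ⟨τ, hτ⟩ := hFT
  exact hτ.not_gt h.hZ hGT

/-- **An element normalising `⟨t, f⟩` and mapping `t` to `f`.** -/
theorem exists_y (h : Sit L A t T fr) (hF : Nat.card F = 4) (hS : Sch ↥A) (hno : ¬ Concl1 A t) {f g : G}
    (hfT : f ∈ T) (hft : f ≠ t) (hg : g * t * g⁻¹ = f) {σ : F ≃+* F} (hσ : σ ≠ 1) (hf : Grf fr f σ) :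
    ∃ y : G, y * t * y⁻¹ = f ∧ (y * f * y⁻¹ = t ∨ y * f * y⁻¹ = t * f) := by
  have hff : f * f = 1 := by rw [← hg]; exact conj_sq h.tt
  have hfi : f⁻¹ = f := inv_eq_of_mul_eq_one_left hff
  have hti : t⁻¹ = t := inv_eq_of_mul_eq_one_left h.tt
  have htf : f * t = t * f := h.isT.cent f hfT
  set s := g⁻¹ * t * g with hs
  have hss : s * s = 1 := by
    calc s * s = g⁻¹ * (t * t) * g := by rw [hs]; group
      _ = 1 := by rw [h.tt]; group
  have hst' : s * t = t * s := by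
    have e : g⁻¹ * f * g = t := by rw [← hg]; group
    calc s * t = s * (g⁻¹ * f * g) := by rw [e]
      _ = g⁻¹ * (t * f) * g := by rw [hs]; group
      _ = g⁻¹ * (f * t) * g := by rw [htf]
      _ = (g⁻¹ * f * g) * s := by rw [hs]; group
      _ = t * s := by rw [e]
  obtain ⟨c, hct, hcT⟩ := exists_into h hst' ⟨1, by rw [pow_one, pow_two, hss]⟩
  have hst : c * s * c⁻¹ ≠ t := by
    intro e
    apply hft
    have e1 : s = t := by
      have e2 : s = c⁻¹ * (c * s * c⁻¹) * c := by group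
      rw [e2, e, mul_assoc, ← hct]; group
    rw [← hg]
    have e3 : t * g = g * t := by
      calc t * g = g * (g⁻¹ * t * g) := by group
        _ = g * t := by rw [← hs, e1]
    rw [← e3]; group
  obtain ⟨w, hw, τ, hτ1, -, hgr⟩ := graph_or h hS hno (g := c * g⁻¹) hcT hst (by rw [hs]; group)
  obtain rfl := aut_unique hF hτ1 hσ
  have hwt : w * t = t * w := (h.t_comm (fr.U_le hw)).symm
  set k := w * c * g⁻¹ with hk
  set s2 := w * (c * s * c⁻¹) * w⁻¹ with hs2
  have hkt : k * t * k⁻¹ = s2 := by rw [hk, hs2, hs]; group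
  have hkf : k * f * k⁻¹ = t := by
    calc k * f * k⁻¹ = w * (c * t) * c⁻¹ * w⁻¹ := by rw [hk, ← hg]; group
      _ = (w * t) * w⁻¹ := by rw [hct]; group
      _ = t := by rw [hwt]; group
  have hs2T : s2 ∈ T := mul_mem (mul_mem (h.U_le hw) hcT) (inv_mem (h.U_le hw))
  have hs22 : s2 * s2 = 1 := by rw [← hkt]; exact conj_sq h.tt
  set r := f⁻¹ * s2 with hr
  have hrT : r ∈ T := mul_mem (inv_mem hfT) hs2T
  have hrK : r ∈ centralizer (A : Set G) := by
    have h1 := hf.inv.mul hgr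
    rw [inv_mul_cancel] at h1
    exact mem_centralizer_of_fld_one (fr := fr) h.perfect (h.isT.syl.le hrT) h1
  have hs2e : s2 = f * r := by rw [hr]; group
  by_cases hrt : r = 1 ∨ r = t
  · refine ⟨k⁻¹, ?_, ?_⟩
    · rw [inv_inv, ← hkf]; group
    · rcases hrt with h1 | h1
      · left
        rw [h1, mul_one] at hs2e
        rw [inv_inv, ← hs2e, ← hkt]; group
      · right
        rw [h1] at hs2e
        have e1 : k⁻¹ * (f * t) * k = t := by rw [← hs2e, ← hkt]; group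
        have e2 : k⁻¹ * t * k = f := by rw [← hkf]; group
        have e3 : k⁻¹ * (f * t) * k = (k⁻¹ * f * k) * (k⁻¹ * t * k) := by group
        rw [e3, e2] at e1
        rw [inv_inv]
        calc k⁻¹ * f * k = (k⁻¹ * f * k * f) * f⁻¹ := by group
          _ = t * f := by rw [e1, hfi]
  · push Not at hrt
    obtain ⟨n, hn⟩ := exists_pow h hrT hrK hrt.1 hrt.2
    set x := r ^ n with hx
    have hfr : f * r * f⁻¹ = r⁻¹ := by
      rw [hs2e] at hs22
      rw [hfi]
      exact eq_inv_of_mul_eq_one_left (by rw [← hs22]; group)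
    have hfx : f * x * f⁻¹ = x⁻¹ := by
      rw [hx, ← conj_pow, hfr, inv_pow]
    have hxr : x * r = r * x := by
      rw [hx, ← pow_succ, ← pow_succ']
    have hxt : x * t = t * x := h.isT.cent x (pow_mem hrT n)
    -- `x⁻¹ f x = f t`
    have hxf : x⁻¹ * f * x = f * t := by
      have e1 : x⁻¹ * f = f * x := by rw [← hfx]; group
      rw [e1, mul_assoc, hn]
    have hxs : x⁻¹ * s2 * x = s2 * t := by
      have e0 : x⁻¹ * r * x = r := by rw [mul_assoc, ← hxr]; group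
      have e1 : t * r = r * t := (h.isT.cent r hrT).symm
      calc x⁻¹ * s2 * x = (x⁻¹ * f * x) * (x⁻¹ * r * x) := by rw [hs2e]; group
        _ = f * (t * r) := by rw [hxf, e0]; group
        _ = s2 * t := by rw [e1, hs2e]; group
    set ρ := k⁻¹ * x * k with hρ
    have hρt : ρ⁻¹ * t * ρ = t * f := by
      have e1 : k⁻¹ * s2 * k = t := by rw [← hkt]; group
      have e2 : k⁻¹ * t * k = f := by rw [← hkf]; group
      calc ρ⁻¹ * t * ρ = k⁻¹ * (x⁻¹ * (k * t * k⁻¹) * x) * k := by rw [hρ]; group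
        _ = (k⁻¹ * s2 * k) * (k⁻¹ * t * k) := by rw [hkt, hxs]; group
        _ = t * f := by rw [e1, e2]
    have hρf : ρ⁻¹ * f * ρ = f := by
      calc ρ⁻¹ * f * ρ = k⁻¹ * (x⁻¹ * (k * f * k⁻¹) * x) * k := by rw [hρ]; group
        _ = k⁻¹ * (x⁻¹ * (t * x)) * k := by rw [hkf]; group
        _ = k⁻¹ * (x⁻¹ * (x * t)) * k := by rw [hxt]
        _ = k⁻¹ * (k * f * k⁻¹) * k := by rw [hkf]; group
        _ = f := by group
    refine ⟨x⁻¹ * ρ⁻¹, ?_, Or.inr ?_⟩
    · calc x⁻¹ * ρ⁻¹ * t * (x⁻¹ * ρ⁻¹)⁻¹ = x⁻¹ * (ρ⁻¹ * t * ρ) * x := by group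
        _ = x⁻¹ * (t * x) * (x⁻¹ * f * x) := by rw [hρt]; group
        _ = x⁻¹ * (x * t) * (f * t) := by rw [hxf, hxt]
        _ = t * (t * f) := by rw [htf]; group
        _ = f := by rw [← mul_assoc, h.tt, one_mul]
    · calc x⁻¹ * ρ⁻¹ * f * (x⁻¹ * ρ⁻¹)⁻¹ = x⁻¹ * (ρ⁻¹ * f * ρ) * x := by group
        _ = t * f := by rw [hρf, hxf, htf]

/-! ### The centraliser of `⟨t, f⟩` -/

/-- elements of `C_U(f)` of order two, graph-field type over `F₄`. -/
theorem unique_inv (hZ : Odd (Nat.card (center ↥A))) (hF : Nat.card F = 4) {f : G} {σ : F ≃+* F} (hσ : σ ≠ 1)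
    (hf : Grf fr f σ) {v : G} (hv : v ∈ fr.U) (hvf : f * v = v * f) (hvv : v * v = 1) (hv1 : v ≠ 1) :
    v = fr.x 0 2 1 := by
  obtain ⟨r, s, m, rfl⟩ := (mem_U fr hZ).1 hv
  obtain ⟨h1, h2, h3⟩ := (comm_iff_grf hZ hf r s m).1 hvf
  rw [u_sq fr hZ, ← u_zero fr hZ] at hvv
  have h4 := (u_inj fr hvv).2.2
  have h5 : r = 0 ∧ s = 0 := by
    rcases mul_eq_zero.1 h4 with h | h
    · exact ⟨h, by rw [← h2, h, map_zero]⟩
    · exact ⟨by rw [← h1, h, map_zero], h⟩
  obtain ⟨rfl, rfl⟩ := h5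
  rw [mul_zero, add_zero] at h3
  rcases fix_eq hF hσ h3 with rfl | rfl
  · exact absurd (u_zero fr hZ) hv1
  · exact u_t fr hZ 1

/-- `x 0 2 1` is a commutator of two elements of `C_U(f)`. -/
theorem exists_comm (hZ : Odd (Nat.card (center ↥A))) (hF : Nat.card F = 4) {f : G} {σ : F ≃+* F} (hσ : σ ≠ 1)
    (h2 : σ * σ = 1) (hf : Grf fr f σ) : ∃ v ∈ fr.U, ∃ w ∈ fr.U, f * v = v * f ∧ f * w = w * f ∧
      ⁅v, w⁆ = fr.x 0 2 1 := by
  obtain ⟨o, ho⟩ := exists_trace h2 hσ (map_one σ)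
  have hσo : σ o = o + 1 := by
    have h3 : o + o = 0 := CharTwo.add_self_eq_zero o
    linear_combination ho - h3
  have hσσ : σ (o + 1) = o := by rw [← hσo]; exact invol_apply h2 o
  have hsq : σ o = o * o := (aut_eq hF σ).resolve_left hσ o
  have hoo : o * o = o + 1 := by rw [← hsq, hσo]
  have h3 : ∀ x : F, x + x = 0 := fun x => CharTwo.add_self_eq_zero x
  refine ⟨u fr 1 1 o, u_mem fr _ _ _, u fr o (o + 1) o, u_mem fr _ _ _, ?_, ?_, ?_⟩
  · rw [comm_iff_grf hZ hf]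
    refine ⟨map_one σ, map_one σ, ?_⟩
    rw [mul_one, hσσ]
  · rw [comm_iff_grf hZ hf]
    refine ⟨hσσ, hσo, ?_⟩
    have e1 : o + o * (o + 1) = o + 1 := by linear_combination hoo + h3 o
    rw [e1, hσσ]
  · rw [commutatorElement_def, u_inv fr hZ, u_inv fr hZ, u_mul fr hZ, u_mul fr hZ, u_mul fr hZ, ← u_t fr hZ]
    congr 1
    · linear_combination h3 1 + h3 o
    · linear_combination h3 1 + h3 (o + 1)
    · have : (1 : F) + 1 = 0 := h3 1
      linear_combination 4 * hoo + (5 * o + 2) * this + (2 + 2 * o - o ^ 2) * this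

/-- `C_U(f)`. -/
def CU (fr : FrameL3 A F) (f : G) : Subgroup G := fr.U ⊓ centralizer ({f} : Set G)

theorem mem_CU {f v : G} : v ∈ CU fr f ↔ v ∈ fr.U ∧ v * f = f * v := by
  rw [CU, mem_inf, mem_centralizer_singleton_iff]

/-- `T` normalises `U`. -/
theorem norm_U (h : Sit L A t T fr) {q v : G} (hq : q ∈ T) (hv : v ∈ fr.U) : q * v * q⁻¹ ∈ fr.U := by
  rcases h.had.cases hq with ⟨τ, h1⟩ | ⟨τ, h1⟩
  · exact h1.norm h.hZ hv
  · exact h1.norm h.hZ hv

theorem norm_CU (h : Sit L A t T fr) {f q v : G} (hq : q ∈ T) (hqf : q * f = f * q) (hv : v ∈ CU fr f) :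
    q * v * q⁻¹ ∈ CU fr f := by
  rw [mem_CU] at hv ⊢
  refine ⟨norm_U h hq hv.1, ?_⟩
  have h1 : q⁻¹ * f = f * q⁻¹ := by rw [inv_mul_eq_iff_eq_mul, ← mul_assoc, hqf, mul_inv_cancel_right]
  calc q * v * q⁻¹ * f = q * (v * (q⁻¹ * f)) := by group
    _ = q * (v * f) * q⁻¹ := by rw [h1]; group
    _ = (q * f) * v * q⁻¹ := by rw [hv.2]; group
    _ = f * (q * v * q⁻¹) := by rw [hqf]; group

/-- elements of `C_T(f)` of type `1` or of the type of `f`. -/
theorem exists_CU (h : Sit L A t T fr) (hS : Sch ↥A) (hno : ¬ Concl1 A t) {f g : G}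
    (hfT : f ∈ T) (hft : f ≠ t) (hg : g * t * g⁻¹ = f) {σ : F ≃+* F} (h2 : σ * σ = 1)
    (hf : Grf fr f σ) {a : G} (ha : a ∈ T) (haf : a * f = f * a) (hty : FT fr a 1 ∨ GT fr a σ) :
    ∃ u ∈ CU fr f, ∀ b ∈ T, b * f = f * b → (u⁻¹ * a) * b = b * (u⁻¹ * a) := by
  have key : ∀ a ∈ T, a * f = f * a → FT fr a 1 →
      ∃ u ∈ CU fr f, ∀ b ∈ T, b * f = f * b → (u⁻¹ * a) * b = b * (u⁻¹ * a) := by
    intro a ha haf h1
    obtain ⟨v, hv, hvK⟩ := h1.exists_of_one h.hZ h.perfect (h.isT.syl.le ha)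
    set r := v⁻¹ * a with hr
    have hrT : r ∈ T := mul_mem (inv_mem (h.U_le hv)) ha
    have har : a = v * r := by rw [hr]; group
    have e1 : v⁻¹ * (f * v * f⁻¹) = r * (f * r * f⁻¹)⁻¹ := by
      have e2 : (f * v * f⁻¹) * (f * r * f⁻¹) = v * r := by
        calc (f * v * f⁻¹) * (f * r * f⁻¹) = f * (v * r) * f⁻¹ := by group
          _ = v * r := by rw [← har, ← haf, mul_inv_cancel_right]
      rw [eq_mul_inv_iff_mul_eq, mul_assoc, e2, inv_mul_cancel_left]
    have hfK : f * r * f⁻¹ ∈ centralizer (A : Set G) :=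
      conj_mem_of_mem_normalizer (h.isT.normK hfT) hvK
    have e3 : v⁻¹ * (f * v * f⁻¹) = 1 := by
      apply eq_one_of_centralizer h.hZ (fr := fr) (mul_mem (inv_mem hv) (norm_U h hfT hv))
      rw [e1]
      exact mul_mem hvK (inv_mem hfK)
    have e4 : f * v * f⁻¹ = v := (inv_mul_eq_one.1 e3).symm
    have e5 : f * r * f⁻¹ = r := by
      rw [e3] at e1
      exact (mul_inv_eq_one.1 e1.symm).symm
    refine ⟨v, mem_CU.2 ⟨hv, (mul_inv_eq_iff_eq_mul.1 e4).symm⟩, fun b hb _ => ?_⟩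
    rcases cent_R h hS hno hft hg hrT hvK (mul_inv_eq_iff_eq_mul.1 e5).symm with h3 | h3
    · show r * b = b * r
      rw [h3, one_mul, mul_one]
    · show r * b = b * r
      rw [h3]
      exact (h.isT.cent b hb).symm
  rcases hty with h1 | h1
  · exact key a ha haf h1
  · have h3 : FT fr (a * f) 1 := by
      rw [← h2]
      exact h1.mul h.hZ ⟨1, one_mem _, by rw [one_mul]; exact hf⟩
    obtain ⟨u, hu, hub⟩ := key (a * f) (mul_mem ha hfT) (by rw [← mul_assoc f a f, ← haf]) h3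
    refine ⟨u, hu, fun b hb hbf => ?_⟩
    have h4 := hub b hb hbf
    have e1 : f⁻¹ * b = b * f⁻¹ := by rw [inv_mul_eq_iff_eq_mul, ← mul_assoc, ← hbf, mul_inv_cancel_right]
    calc u⁻¹ * a * b = u⁻¹ * (a * f) * (f⁻¹ * b) := by group
      _ = (u⁻¹ * (a * f) * b) * f⁻¹ := by rw [e1]; group
      _ = b * (u⁻¹ * a) := by rw [h4]; group

/-- commutators in `C_T(f)` lie in `C_U(f)`. -/
theorem comm_mem (h : Sit L A t T fr) (hF : Nat.card F = 4) (hS : Sch ↥A) (hno : ¬ Concl1 A t) {f g : G}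
    (hfT : f ∈ T) (hft : f ≠ t) (hg : g * t * g⁻¹ = f) {σ : F ≃+* F} (hσ : σ ≠ 1) (h2 : σ * σ = 1)
    (hf : Grf fr f σ) {a b : G} (ha : a ∈ T) (haf : a * f = f * a) (hb : b ∈ T) (hbf : b * f = f * b) :
    ⁅a, b⁆ ∈ CU fr f := by
  have key : ∀ a ∈ T, a * f = f * a → (FT fr a 1 ∨ GT fr a σ) → ∀ b ∈ T, b * f = f * b → ⁅a, b⁆ ∈ CU fr f := by
    intro a ha haf hty b hb hbf
    obtain ⟨u, hu, hub⟩ := exists_CU h hS hno hfT hft hg h2 hf ha haf hty
    have h1 := hub b hb hbf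
    set z := u⁻¹ * a with hz
    have haz : a = u * z := by rw [hz]; group
    have e1 : ⁅a, b⁆ = u * (b * u⁻¹ * b⁻¹) := by
      rw [commutatorElement_def, haz]
      calc u * z * b * (u * z)⁻¹ * b⁻¹ = u * (z * b) * z⁻¹ * u⁻¹ * b⁻¹ := by group
        _ = u * (b * z) * z⁻¹ * u⁻¹ * b⁻¹ := by rw [h1]
        _ = _ := by group
    rw [e1]
    exact mul_mem hu (norm_CU h hb hbf (inv_mem hu))
  by_cases h3 : FT fr a 1 ∨ GT fr a σ
  · exact key a ha haf h3 b hb hbf
  by_cases h4 : FT fr b 1 ∨ GT fr b σ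
  · rw [← commutatorElement_inv]
    exact inv_mem (key b hb hbf h4 a ha haf)
  -- both of type `(σ, 1)` or `(1, γ)`
  have hcl : ∀ x ∈ T, ¬ (FT fr x 1 ∨ GT fr x σ) → FT fr x σ ∨ GT fr x 1 := by
    intro x hx hn
    rw [not_or] at hn
    rcases h.had.cases hx with ⟨τ, h5⟩ | ⟨τ, h5⟩
    · left
      by_cases h6 : τ = 1
      · subst h6; exact absurd h5 hn.1
      · rw [← aut_unique hF h6 hσ]; exact h5
    · right
      by_cases h6 : τ = 1
      · subst h6; exact h5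
      · rw [aut_unique hF h6 hσ] at h5; exact absurd h5 hn.2
  have hσi : σ⁻¹ = σ := inv_eq_of_mul_eq_one_left h2
  have hc : FT fr (a⁻¹ * b) 1 ∨ GT fr (a⁻¹ * b) σ := by
    rcases hcl a ha h3 with h5 | h5 <;> rcases hcl b hb h4 with h6 | h6
    · left
      have := (h5.inv h.hZ).mul h.hZ h6
      rwa [inv_mul_cancel] at this
    · right
      have := (h5.inv h.hZ).mul_gt h.hZ h6
      rwa [hσi, mul_one] at this
    · right
      have := (h5.inv h.hZ).mul_ft h.hZ h6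
      rwa [inv_one, one_mul] at this
    · left
      have := (h5.inv h.hZ).mul h.hZ h6
      rwa [inv_mul_cancel] at this
  have hcf : a⁻¹ * b * f = f * (a⁻¹ * b) := by
    have e1 : a⁻¹ * f = f * a⁻¹ := by rw [inv_mul_eq_iff_eq_mul, ← mul_assoc, haf, mul_inv_cancel_right]
    rw [mul_assoc, hbf, ← mul_assoc, e1, mul_assoc]
  have h7 := key _ (mul_mem (inv_mem ha) hb) hcf hc a ha haf
  have e2 : ⁅a, b⁆ = a * ⁅a⁻¹ * b, a⁆⁻¹ * a⁻¹ := by
    rw [commutatorElement_def, commutatorElement_def]; group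
  rw [e2]
  exact norm_CU h ha haf (inv_mem h7)

/-- **The main step.** -/
theorem concl1_of_syl (h : Sit L A t T fr) (hF : Nat.card F = 4) (hS : Sch ↥A) {f g : G}
    (hfT : f ∈ T) (hft : f ≠ t) (hg : g * t * g⁻¹ = f) {σ : F ≃+* F} (hσ : σ ≠ 1) (h2 : σ * σ = 1)
    (hf : Grf fr f σ)
    (hQ : IsSyl (T ⊓ centralizer ({f} : Set G)) (centralizer ({t} : Set G) ⊓ centralizer ({f} : Set G))) :
    Concl1 A t := by
  by_contra hno
  have hff : f * f = 1 := by rw [← hg]; exact conj_sq h.tt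
  obtain ⟨y, hyt, hyf⟩ := exists_y h hF hS hno hfT hft hg hσ hf
  set N : Subgroup G := centralizer ({t} : Set G) ⊓ centralizer ({f} : Set G) with hN
  set Q : Subgroup G := T ⊓ centralizer ({f} : Set G) with hQd
  have memN : ∀ x : G, x ∈ N ↔ x * t = t * x ∧ x * f = f * x := by
    intro x
    rw [hN, mem_inf, mem_centralizer_singleton_iff, mem_centralizer_singleton_iff]
  have hyN : y ∈ normalizer (N : Set G) := by
    apply mem_normalizer_of_conj_le
    intro x hx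
    rw [memN] at hx ⊢
    obtain ⟨hx1, hx2⟩ := hx
    -- `y x y⁻¹` commutes with `f = y t y⁻¹` and with `y f y⁻¹`
    have e1 : y * x * y⁻¹ * f = f * (y * x * y⁻¹) := by
      rw [← hyt]
      calc y * x * y⁻¹ * (y * t * y⁻¹) = y * (x * t) * y⁻¹ := by group
        _ = y * (t * x) * y⁻¹ := by rw [hx1]
        _ = _ := by group
    have e2 : y * x * y⁻¹ * (y * f * y⁻¹) = (y * f * y⁻¹) * (y * x * y⁻¹) := by
      calc y * x * y⁻¹ * (y * f * y⁻¹) = y * (x * f) * y⁻¹ := by group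
        _ = y * (f * x) * y⁻¹ := by rw [hx2]
        _ = _ := by group
    refine ⟨?_, e1⟩
    rcases hyf with h3 | h3
    · rw [h3] at e2; exact e2
    · rw [h3] at e2
      -- commutes with `t f` and `f`
      have e3 : y * x * y⁻¹ * t = (y * x * y⁻¹ * (t * f)) * f := by
        calc y * x * y⁻¹ * t = y * x * y⁻¹ * t * (f * f) := by rw [hff, mul_one]
          _ = _ := by group
      rw [e3, e2, mul_assoc, e1]
      calc t * f * (f * (y * x * y⁻¹)) = t * (f * f) * (y * x * y⁻¹) := by group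
        _ = _ := by rw [hff, mul_one]
  obtain ⟨n, hn, hnQ⟩ := hQ.frattini hyN
  rw [memN] at hn
  set d := n * y with hd
  have hdt : d * t * d⁻¹ = f := by
    calc d * t * d⁻¹ = n * (y * t * y⁻¹) * n⁻¹ := by rw [hd]; group
      _ = f := by rw [hyt, hn.2]; group
  -- `z`
  obtain ⟨v, hv, w, hw, hvf, hwf, hvw⟩ := exists_comm (fr := fr) h.hZ hF hσ h2 hf
  set z := fr.x 0 2 1 with hz
  have hz1 : z ≠ 1 := h.x02_ne_one one_ne_zero
  have hzz : z * z = 1 := fr.two (by decide) 1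
  have hzA : z ∈ A := fr.mem (by decide) 1
  have hvQ : v ∈ Q := by
    rw [hQd, mem_inf, mem_centralizer_singleton_iff]
    exact ⟨h.U_le hv, hvf.symm⟩
  have hwQ : w ∈ Q := by
    rw [hQd, mem_inf, mem_centralizer_singleton_iff]
    exact ⟨h.U_le hw, hwf.symm⟩
  -- `d z d⁻¹` is an involution of `C_U(f)`
  have hdz : d * z * d⁻¹ ∈ CU fr f := by
    have e1 : d * z * d⁻¹ = ⁅d * v * d⁻¹, d * w * d⁻¹⁆ := by
      rw [← hvw, commutatorElement_def, commutatorElement_def]; group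
    rw [e1]
    have h3 := conj_mem_of_mem_normalizer hnQ hvQ
    have h4 := conj_mem_of_mem_normalizer hnQ hwQ
    rw [hQd, mem_inf, mem_centralizer_singleton_iff] at h3 h4
    exact comm_mem h hF hS hno hfT hft hg hσ h2 hf h3.1 h3.2 h4.1 h4.2
  rw [mem_CU] at hdz
  have hdz' : d * z * d⁻¹ = z :=
    unique_inv h.hZ hF hσ hf hdz.1 hdz.2.symm (conj_sq hzz) (conj_ne_one hz1)
  -- `f z` is conjugate to `f`
  obtain ⟨s, hs⟩ := exists_trace h2 hσ (map_one σ)
  have h02 : (0 : Fin 3) ≠ 2 := by decide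
  have hfz : fr.x 0 2 s * f * (fr.x 0 2 s)⁻¹ = f * z := by
    have e1 : f * fr.x 0 2 s * f⁻¹ = fr.x 0 2 (σ s) := hf 0 2 h02 s
    have hf' : f⁻¹ = f := inv_eq_of_mul_eq_one_left hff
    rw [fr.x_inv h02]
    have e2 : fr.x 0 2 s * f = f * (f * fr.x 0 2 s * f⁻¹) := by
      have : f * (f * fr.x 0 2 s * f⁻¹) = (f * f) * fr.x 0 2 s * f⁻¹ := by group
      rw [this, hff, one_mul, hf']
    rw [e2, e1, mul_assoc, fr.add h.hZ h02, add_comm, hs]
  apply hno
  refine ⟨z, hzA, hzz, hz1, Or.inr ⟨d⁻¹ * fr.x 0 2 s * g, ?_⟩⟩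
  calc d⁻¹ * fr.x 0 2 s * g * t * (d⁻¹ * fr.x 0 2 s * g)⁻¹
      = d⁻¹ * (fr.x 0 2 s * (g * t * g⁻¹) * (fr.x 0 2 s)⁻¹) * d := by group
    _ = d⁻¹ * ((d * t * d⁻¹) * (d * z * d⁻¹)) * d := by rw [hg, hfz, hdt, hdz']
    _ = t * z := by group

/-- **`t` is conjugate to an involution of `A` or `t A` if it is conjugate to some element `≠ t` of `T`.** -/
theorem concl1 (h : Sit L A t T fr) (hF : Nat.card F = 4) (hS : Sch ↥A) {f g : G}
    (hfT : f ∈ T) (hft : f ≠ t) (hg : g * t * g⁻¹ = f) : Concl1 A t := by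
  by_contra hno
  have hff : f * f = 1 := by rw [← hg]; exact conj_sq h.tt
  have hTc := h.isT.syl_cent h.conf.std h.conf.ht h.conf.htA
  set N : Subgroup G := centralizer ({t} : Set G) ⊓ centralizer ({f} : Set G) with hN
  have memN : ∀ x : G, x ∈ N ↔ x * t = t * x ∧ x * f = f * x := by
    intro x
    rw [hN, mem_inf, mem_centralizer_singleton_iff, mem_centralizer_singleton_iff]
  obtain ⟨Q, hQ, hle⟩ := exists_isSyl (X := T ⊓ centralizer ({f} : Set G)) (N := N)
    (h.isT.syl.two.to_le inf_le_left) (by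
      intro x hx
      rw [mem_inf, mem_centralizer_singleton_iff] at hx
      exact (memN x).2 ⟨h.isT.cent x hx.1, hx.2⟩)
  have hfQ : f ∈ Q := hle (by rw [mem_inf, mem_centralizer_singleton_iff]; exact ⟨hfT, rfl⟩)
  obtain ⟨c, hc, hcQ⟩ := hTc.exists_conj hQ.two (hQ.le.trans inf_le_left)
  rw [mem_centralizer_singleton_iff] at hc
  have hcf : c * f * c⁻¹ ∈ T := hcQ f hfQ
  have hcft : c * f * c⁻¹ ≠ t := by
    intro e
    apply hft
    have e1 : f = c⁻¹ * (c * f * c⁻¹) * c := by group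
    rw [e1, e, mul_assoc, ← hc]; group
  obtain ⟨w, hw, σ, hσ1, hσ2, hgr⟩ := graph_or h hS hno (g := c * g) hcf hcft (by rw [← hg]; group)
  have hwT := h.U_le hw
  have hwt : w * t = t * w := h.isT.cent w hwT
  set d := w * c with hd
  have hdt : d * t = t * d := by rw [hd, mul_assoc, hc, ← mul_assoc, hwt, mul_assoc]
  have hdt' : d⁻¹ * t = t * d⁻¹ := by rw [inv_mul_eq_iff_eq_mul, ← mul_assoc, hdt, mul_inv_cancel_right]
  have hdQ : ∀ q ∈ Q, d * q * d⁻¹ ∈ T := by
    intro q hq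
    have : d * q * d⁻¹ = w * (c * q * c⁻¹) * w⁻¹ := by rw [hd]; group
    rw [this]
    exact mul_mem (mul_mem hwT (hcQ q hq)) (inv_mem hwT)
  have hdf : w * (c * f * c⁻¹) * w⁻¹ = d * f * d⁻¹ := by rw [hd]; group
  rw [hdf] at hgr
  refine hno (concl1_of_syl h hF hS (f := d * f * d⁻¹) (g := d * g) (hdQ f hfQ) ?_ (by rw [← hg]; group)
    hσ1 hσ2 hgr ?_)
  · intro e
    apply hft
    have e1 : f = d⁻¹ * (d * f * d⁻¹) * d := by group
    rw [e1, e, hdt', mul_assoc, inv_mul_cancel, mul_one]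
  · -- Sylow
    have hmem : ∀ x : G, x ∈ centralizer ({t} : Set G) ⊓ centralizer ({d * f * d⁻¹} : Set G) →
        d⁻¹ * x * d ∈ N := by
      intro x hx
      rw [mem_inf, mem_centralizer_singleton_iff, mem_centralizer_singleton_iff] at hx
      rw [memN]
      constructor
      · calc d⁻¹ * x * d * t = d⁻¹ * (x * t) * d := by rw [mul_assoc, hdt]; group
          _ = (d⁻¹ * t) * x * d := by rw [hx.1]; group
          _ = t * (d⁻¹ * x * d) := by rw [hdt']; group
      · calc d⁻¹ * x * d * f = d⁻¹ * (x * (d * f * d⁻¹)) * d := by group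
          _ = d⁻¹ * (d * f * d⁻¹ * x) * d := by rw [hx.2]
          _ = f * (d⁻¹ * x * d) := by group
    refine ⟨?_, h.isT.syl.two.to_le inf_le_left, fun X hX hXN hle' => ?_⟩
    · intro x hx
      rw [mem_inf, mem_centralizer_singleton_iff] at hx
      rw [mem_inf, mem_centralizer_singleton_iff, mem_centralizer_singleton_iff]
      exact ⟨h.isT.cent x hx.1, hx.2⟩
    · apply (Subgroup.eq_of_le_of_card_ge hle' _).symm
      have h1 : Nat.card (X.map (MulAut.conj d⁻¹).toMonoidHom) = Nat.card X :=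
        (Nat.card_congr (X.equivMapOfInjective (MulAut.conj d⁻¹).toMonoidHom (MulAut.conj d⁻¹).injective).toEquiv).symm
      have h2 : Nat.card (X.map (MulAut.conj d⁻¹).toMonoidHom) ≤ Nat.card Q := by
        apply hQ.card_le (isPGroup_map hX _)
        rintro _ ⟨x, hx, rfl⟩
        have := hmem x (hXN hx)
        show d⁻¹ * x * d⁻¹⁻¹ ∈ N
        rwa [inv_inv]
      have h3 : Nat.card (Q.map (MulAut.conj d).toMonoidHom) = Nat.card Q :=
        (Nat.card_congr (Q.equivMapOfInjective (MulAut.conj d).toMonoidHom (MulAut.conj d).injective).toEquiv).symm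
      have h4 : Q.map (MulAut.conj d).toMonoidHom ≤ T ⊓ centralizer ({d * f * d⁻¹} : Set G) := by
        rintro _ ⟨q, hq, rfl⟩
        rw [mem_inf, mem_centralizer_singleton_iff]
        refine ⟨hdQ q hq, ?_⟩
        have h5 := ((memN q).1 (hQ.le hq)).2
        show d * q * d⁻¹ * (d * f * d⁻¹) = d * f * d⁻¹ * (d * q * d⁻¹)
        calc d * q * d⁻¹ * (d * f * d⁻¹) = d * (q * f) * d⁻¹ := by group
          _ = d * (f * q) * d⁻¹ := by rw [h5]
          _ = _ := by group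
      have h5 := Nat.card_le_card_of_injective _ (Subgroup.inclusion_injective h4)
      omega

/-- `T` is not a Sylow 2-subgroup of `G`. -/
theorem not_syl (h : Sit L A t T fr) (hF : Nat.card F = 4) (hS : Sch ↥A) : ¬ IsSyl T ⊤ := by
  intro hsyl
  have D := h.data
  have C := h.conf
  obtain ⟨g, hgT, hgt⟩ := exists_conj_ne C (u := fr.x 0 2 1) (fr.mem (by decide) 1)
    (h.x02_ne_one one_ne_zero) (fr.two (by decide) 1) h.isT.mem hsyl
  obtain ⟨v, hvA, hvv, hv1, hconj⟩ := concl1 h hF hS hgT hgt rfl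
  obtain ⟨b, hb, hbW⟩ := fr.involution_conj h.hZ hvA hvv hv1
  have hbt : t * b = b * t := comm_of_centralizer C.htA hb
  have hWz := h.x02_mem_W 1
  rw [← hbW] at hWz
  -- an element `s ≠ t` of `W ∪ t W` conjugate to `t`
  obtain ⟨s, k, hs, hsW, hsne⟩ : ∃ s k : G, k * t * k⁻¹ = s ∧ (s ∈ W fr ∨ t * s ∈ W fr) ∧ s ≠ t := by
    rcases hconj with ⟨g, hg⟩ | ⟨g, hg⟩
    · refine ⟨b * v * b⁻¹, b * g, ?_, Or.inl hWz, ?_⟩
      · rw [← hg]; group
      · intro h3
        rw [h3] at hWz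
        exact h.t_not (h.W_le_A hWz)
    · refine ⟨t * (b * v * b⁻¹), b * g, ?_, Or.inr ?_, ?_⟩
      · calc b * g * t * (b * g)⁻¹ = b * (g * t * g⁻¹) * b⁻¹ := by group
          _ = (b * t) * v * b⁻¹ := by rw [hg]; group
          _ = t * (b * v * b⁻¹) := by rw [← hbt]; group
      · rw [← mul_assoc, h.tt, one_mul]; exact hWz
      · intro h3
        apply hv1
        rw [mul_eq_left] at h3
        have : v = b⁻¹ * (b * v * b⁻¹) * b := by group
        rw [this, h3]; group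
  -- `J ≤ C(s)`
  have hsJ : ∀ j ∈ J fr t, j * s = s * j := by
    intro j hj
    rcases hsW with h1 | h1
    · exact (D.W_cent _ h1 j hj).symm
    · have h2 := D.W_cent _ h1 j hj
      have h3 : s = t * (t * s) := by rw [← mul_assoc, h.tt, one_mul]
      have h4 := D.isT.cent j (D.J_le hj)
      calc j * s = (j * t) * (t * s) := by rw [mul_assoc, ← h3]
        _ = t * (j * (t * s)) := by rw [h4]; group
        _ = t * (t * s * j) := by rw [h2]
        _ = s * j := by rw [← mul_assoc, ← h3]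
  -- `T` is Sylow in `C(t)`, its conjugate is Sylow in `C(s)`
  have hTc := D.isT.syl_cent C.std C.ht C.htA
  have hJs : ∀ j ∈ J fr t, k⁻¹ * j * k ∈ centralizer ({t} : Set G) := by
    intro j hj
    rw [mem_centralizer_singleton_iff]
    have h1 := hsJ j hj
    rw [← hs] at h1
    calc k⁻¹ * j * k * t = k⁻¹ * (j * (k * t * k⁻¹)) * k := by group
      _ = k⁻¹ * (k * t * k⁻¹ * j) * k := by rw [h1]
      _ = t * (k⁻¹ * j * k) := by group
  have hJp : IsPGroup 2 ((J fr t).map (MulAut.conj k⁻¹).toMonoidHom) :=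
    isPGroup_map (D.isT.syl.two.to_le D.J_le) k⁻¹
  obtain ⟨c, hc, hcT⟩ := hTc.exists_conj hJp (by
    rintro _ ⟨j, hj, rfl⟩
    show k⁻¹ * j * k⁻¹⁻¹ ∈ _
    rw [inv_inv]
    exact hJs j hj)
  rw [mem_centralizer_singleton_iff] at hc
  have hn : c * k⁻¹ ∈ normalizer (J fr t : Set G) := by
    apply D.mem_normalizer_J
    intro j hj
    have h1 := hcT _ (conj_mem_map k⁻¹ hj)
    have h2 : c * k⁻¹ * j * (c * k⁻¹)⁻¹ = c * (k⁻¹ * j * k⁻¹⁻¹) * c⁻¹ := by group
    rw [h2]; exact h1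
  -- `N(J)` centralises `t`
  have h1 := D.comm_of_syl C (hsyl.mono D.T_le le_top) D.isT.cent (inv_mem hn)
  apply hsne
  rw [← hs]
  have h2 : (c * k⁻¹)⁻¹ * t * (c * k⁻¹) = k * (c⁻¹ * (t * c)) * k⁻¹ := by group
  have h3 : (c * k⁻¹)⁻¹ * t * (c * k⁻¹) = t := by rw [h1]; group
  rw [← hc, inv_mul_cancel_left] at h2
  rw [← h2, h3]

/-- `|R| = 2`. -/
theorem R_eq (h : Sit L A t T fr) (hF : Nat.card F = 4) (hS : Sch ↥A) {r : G} (hr : r ∈ T)
    (hrK : r ∈ centralizer (A : Set G)) : r = 1 ∨ r = t := by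
  by_contra hcon
  push Not at hcon
  have D := h.data
  have C := h.conf
  obtain ⟨n, hn⟩ := exists_pow h hr hrK hcon.1 hcon.2
  set s := r ^ n with hs'
  have hs : s ∈ T := pow_mem hr n
  have hsK : s ∈ centralizer (A : Set G) := pow_mem hrK n
  -- `N(T)` centralises `t`
  apply not_syl h hF hS
  apply D.isT.syl.top_of_normalizer
  intro g hg
  apply mem_normalizer_of_comm C.std C.ht C.htA
  have hgJ := D.normalizer_T_le hg
  -- `g s g⁻¹` centralises `J`
  have hgs : g * s * g⁻¹ ∈ T := conj_mem_of_mem_normalizer hg hs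
  have hsJ : s ∈ centralizer (J fr t : Set G) := by
    rw [mem_centralizer_iff]
    intro j hj
    rcases h.mem_J.mp hj with h1 | h1
    · exact (comm_of_centralizer hsK (fr.U_le h1)).symm
    · have h2 := comm_of_centralizer hsK (fr.U_le h1)
      have h3 := h.isT.cent s hs
      have h4 : t * (j * s) = t * (s * j) := by
        calc t * (j * s) = s * (t * j) := by rw [h2]; group
          _ = (s * t) * j := by group
          _ = t * (s * j) := by rw [h3]; group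
      exact mul_left_cancel h4
  have hgsJ : g * s * g⁻¹ ∈ centralizer (J fr t : Set G) :=
    conj_mem_of_mem_normalizer (normalizer_le_normalizer_centralizer _ hgJ) hsJ
  have hxU : ∀ v ∈ fr.U, g * s * g⁻¹ * v = v * (g * s * g⁻¹) := fun v hv =>
    comm_of_centralizer hgsJ (h.U_mem_J hv)
  obtain ⟨v, hv, hvx⟩ := OutL3Facts.exists_of_trivial fr h.hZ h.perfect (h.isT.syl.le hgs)
    (fun r s z => ⟨z, by rw [hxU _ (OutL3Rel.u_mem fr _ _ _), mul_inv_cancel_right]⟩)
  have hvW : v ∈ W fr := by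
    refine mem_inf.mpr ⟨hv, ?_⟩
    rw [mem_centralizer_iff]
    intro y hy
    have h1 := comm_of_centralizer hvx (fr.U_le hy)
    have h2 := hxU y hy
    calc y * v = (g * s * g⁻¹) * ((g * s * g⁻¹)⁻¹ * (y * (g * s * g⁻¹))) * (g * s * g⁻¹)⁻¹ * v := by group
      _ = (g * s * g⁻¹) * y * (v⁻¹ * (g * s * g⁻¹))⁻¹ := by rw [← h2]; group
      _ = v * ((v⁻¹ * (g * s * g⁻¹)) * y) * (v⁻¹ * (g * s * g⁻¹))⁻¹ := by group
      _ = v * y := by rw [h1]; group
  obtain ⟨c, rfl⟩ := h.mem_W.mp hvW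
  have hvv : fr.x 0 2 c * fr.x 0 2 c = 1 := fr.two (by decide) c
  set r' := (fr.x 0 2 c)⁻¹ * (g * s * g⁻¹) with hr'
  have hr'T : r' ∈ T := mul_mem (inv_mem (h.U_le hv)) hgs
  have hrv : r' * fr.x 0 2 c = fr.x 0 2 c * r' := comm_of_centralizer hvx (fr.U_le hv)
  have hx : g * s * g⁻¹ = fr.x 0 2 c * r' := by rw [hr']; group
  have h1 : g * t * g⁻¹ = r' * r' := by
    calc g * t * g⁻¹ = (g * s * g⁻¹) * (g * s * g⁻¹) := by rw [← hn]; group
      _ = fr.x 0 2 c * (r' * fr.x 0 2 c) * r' := by rw [hx]; group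
      _ = (fr.x 0 2 c * fr.x 0 2 c) * (r' * r') := by rw [hrv]; group
      _ = r' * r' := by rw [hvv, one_mul]
  have h2 : g * t * g⁻¹ * (g * t * g⁻¹) = 1 := conj_sq h.tt
  rcases D.isT.uniq (g * t * g⁻¹) (by rw [h1]; exact mul_mem hr'T hr'T)
    (by rw [h1]; exact mul_mem hvx hvx) h2 with h3 | h3
  · exact absurd h3 (conj_ne_one h.t_ne)
  · rwa [mul_inv_eq_iff_eq_mul] at h3

theorem hyp (h : Sit L A t T fr) (hF : Nat.card F = 4) (hS : Sch ↥A) : Cfsg.Agent.StdEven.CoreQuot.Hyp A t T where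
  std := h.conf.std
  ht := h.conf.ht
  htA := h.conf.htA
  hZ := h.hZ
  isT := h.isT
  R := fun _ hr hrK => R_eq h hF hS hr hrK

/-- **START for `q = 4`.** -/
theorem exists_start_four (C : Conf L A t) (hZ : Odd (Nat.card (center ↥A)))
    (e : (↥A ⧸ center ↥A) ≃* Matrix.ProjectiveSpecialLinearGroup (Fin 3) F) (hF : Nat.card F = 4) :
    ∃ (T : Subgroup G) (fr : FrameL3 A F) (B : L3Inst.Both L A t T fr), Nonempty (L3Zh.Seed B.xsit.env) := by
  obtain ⟨T, fr, h⟩ := L3Data.exists_sit C hZ e (by omega)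
  have hS := L3Inst.sch h.perfect fr.e
  have H := hyp h hF hS
  obtain ⟨frX, hx⟩ := L3Inst.exists_frX H fr
  let B : L3Inst.Both L A t T fr := ⟨h, H, frX, hx⟩
  refine ⟨T, fr, B, ?_⟩
  obtain ⟨g, hgT, hk, v, hv, hv1, hvT, hgt⟩ := h.data.exists_normalizer h.conf (not_syl h hF hS)
  have hgJ := h.data.normalizer_T_le hgT
  have hgN : g ∈ Cfsg.Agent.StdEven.CoreQuot.NO A t := B.normalizer_J_le hgJ
  have h1 : Cfsg.Agent.StdEven.CoreQuot.pr A t ⟨g, hgN⟩ ∈ normalizer (B.xsit.env.J : Set _) := by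
    rw [← B.imJ_eq]
    exact B.hyp.pr_mem_normalizer hgJ
  refine L3Zh.exists_seed_of_mem B.xsit.exists_ne h1 ?_
  intro h2
  have h3 : g * t = t * g := B.hyp.pr_comm_iff.mp h2
  rw [h3, mul_inv_cancel_right, left_eq_mul] at hgt
  exact hv1 hgt

end Cfsg.Agent.StdRank2.L3Four.Start
end

-- part: StdRank2/L3W0
section
/-!
# Type `L₃(q)`, wreath case: the two commuting components `A₁`, `A₂ = A₁ᵗ` and their frames

Input: `R : Roots t fr g` in `G` and an idempotent `e` of `Q g` with `tau e = e + 1`.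
Output: `Wr0 t fr`.
-/

set_option autoImplicit false
set_option linter.unusedSectionVars false

namespace Cfsg.Agent.StdRank2.L3W0

open Subgroup Cfsg.Agent.StdRank2.FrameL3 Cfsg.Agent.StdRank2.L3G Quad
open Cfsg.Agent.StdRank2.L3Roots
open scoped commutatorElement

section General

/-- The centre of a perfect central cover. -/
theorem mem_center_iff_of_cover {P Q : Type*} [Group P] [Group Q] (f : P →* Q)
    (hf : Function.Surjective f) (hk : f.ker ≤ center P) (hp : _root_.commutator P = ⊤) (x : P) :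
    x ∈ center P ↔ f x ∈ center Q := by
  constructor
  · intro hx
    rw [mem_center_iff] at hx ⊢
    intro q
    obtain ⟨p, rfl⟩ := hf q
    rw [← map_mul, hx, map_mul]
  · intro hx
    have hker : ∀ y, x * y * x⁻¹ * y⁻¹ ∈ center P := by
      intro y
      apply hk
      rw [MonoidHom.mem_ker, map_mul, map_mul, map_mul, map_inv, map_inv, ← mem_center_iff.mp hx,
        mul_inv_cancel_right, mul_inv_cancel]
    let c : P →* P :=
      { toFun := fun y => x * y * x⁻¹ * y⁻¹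
        map_one' := by group
        map_mul' := fun y z => by
          have h1 := mem_center_iff.mp (hker z) y
          calc x * (y * z) * x⁻¹ * (y * z)⁻¹
              = (x * y * x⁻¹ * y⁻¹) * (y * (x * z * x⁻¹ * z⁻¹) * y⁻¹) := by group
            _ = (x * y * x⁻¹ * y⁻¹) * (x * z * x⁻¹ * z⁻¹) := by rw [h1]; group }
    have h2 : _root_.commutator P ≤ c.ker := by
      rw [_root_.commutator_def, commutator_le]
      intro a _ b _
      rw [MonoidHom.mem_ker, map_commutatorElement]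
      have h3 : c a * c b = c b * c a := mem_center_iff.mp (hker b) _
      rw [commutatorElement_eq_one_iff_mul_comm]
      exact h3
    rw [hp] at h2
    rw [mem_center_iff]
    intro y
    have h3 : x * y * x⁻¹ * y⁻¹ = 1 := h2 (mem_top y)
    calc y * x = (x * y * x⁻¹ * y⁻¹) * (y * x) := by rw [h3, one_mul]
      _ = x * y := by group

/-- The induced isomorphism modulo the centres. -/
theorem exists_equiv_center {P Q : Type*} [Group P] [Group Q] (f : P →* Q)
    (hf : Function.Surjective f) (hk : f.ker ≤ center P) (hp : _root_.commutator P = ⊤) :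
    ∃ e : (P ⧸ center P) ≃* (Q ⧸ center Q), ∀ x : P, e (QuotientGroup.mk x) = QuotientGroup.mk (f x) := by
  let φ : P →* Q ⧸ center Q := (QuotientGroup.mk' (center Q)).comp f
  have hφ : Function.Surjective φ := (QuotientGroup.mk'_surjective _).comp hf
  have hker : center P = φ.ker := by
    ext x
    rw [mem_center_iff_of_cover f hf hk hp x, MonoidHom.mem_ker]
    exact (QuotientGroup.eq_one_iff (f x)).symm
  refine ⟨(QuotientGroup.quotientMulEquivOfEq hker).trans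
    (QuotientGroup.quotientKerEquivOfSurjective φ hφ), fun x => rfl⟩

/-- a 2-group acting on a group of even order fixes a non-trivial element -/
theorem exists_fix {G : Type*} [Group G] {T K : Subgroup G} (hT : IsPGroup 2 T) (hfin : Finite K)
    (hK : 2 ∣ Nat.card K) (hn : ∀ t ∈ T, ∀ k ∈ K, t * k * t⁻¹ ∈ K) :
    ∃ k ∈ K, k ≠ 1 ∧ ∀ t ∈ T, t * k * t⁻¹ = k := by
  have : Fact (Nat.Prime 2) := ⟨Nat.prime_two⟩
  let _ : MulAction T K :=
    { smul := fun t k => ⟨(t : G) * k * (t : G)⁻¹, hn t t.2 k k.2⟩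
      one_smul := fun k => Subtype.ext (by
        change ((1 : T) : G) * k * ((1 : T) : G)⁻¹ = k
        simp)
      mul_smul := fun s t k => Subtype.ext (by
        change ((s * t : T) : G) * k * ((s * t : T) : G)⁻¹ = (s : G) * ((t : G) * k * (t : G)⁻¹) * (s : G)⁻¹
        rw [Subgroup.coe_mul]; group) }
  have hsm : ∀ (t : T) (k : K), ((t • k : K) : G) = (t : G) * k * (t : G)⁻¹ := fun _ _ => rfl
  obtain ⟨k, hk, hk1⟩ := hT.exists_fixed_point_of_prime_dvd_card_of_fixed_point K hK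
    (a := (1 : K)) (fun t => Subtype.ext (by rw [hsm]; simp))
  refine ⟨k, k.2, fun h => hk1 (Subtype.ext h.symm), fun t ht => ?_⟩
  have := congrArg Subtype.val (hk ⟨t, ht⟩)
  rw [hsm] at this
  exact this

end General

/-- **The wreath situation**: two commuting subgroups interchanged by `t`, with frames which add up to the
frame of the diagonal `A`. -/
structure Wr0 {G : Type*} [Group G] {A : Subgroup G} {F : Type*} [Field F] (t : G)
    (fr : FrameL3 A F) where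
  A1 : Subgroup G
  A2 : Subgroup G
  fr1 : FrameL3 A1 F
  fr2 : FrameL3 A2 F
  comm : ∀ x ∈ A1, ∀ y ∈ A2, x * y = y * x
  t12 : ∀ x ∈ A1, t * x * t⁻¹ ∈ A2
  t21 : ∀ x ∈ A2, t * x * t⁻¹ ∈ A1
  tx : ∀ {i j : Fin 3}, i ≠ j → ∀ s, t * fr1.x i j s * t⁻¹ = fr2.x i j s
  tx' : ∀ {i j : Fin 3}, i ≠ j → ∀ s, t * fr2.x i j s * t⁻¹ = fr1.x i j s
  x_eq : ∀ {i j : Fin 3}, i ≠ j → ∀ s, fr.x i j s = fr1.x i j s * fr2.x i j s
  diag : ∀ x ∈ A1, x * (t * x * t⁻¹) ∈ A
  onto : ∀ a ∈ A, ∃ x ∈ A1, a = x * (t * x * t⁻¹)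
  onto' : ∀ a ∈ A, ∃ x ∈ A2, a = x * (t * x * t⁻¹)
  perf1 : _root_.commutator ↥A1 = ⊤
  perf2 : _root_.commutator ↥A2 = ⊤
  odd1 : Odd (Nat.card (center ↥A1))
  odd2 : Odd (Nat.card (center ↥A2))
  cent : Odd (Nat.card (centralizer ((A1 ⊔ A2 : Subgroup G) : Set G)))

variable {G : Type*} [Group G] {A : Subgroup G} {t : G} {F : Type*} [Field F]
  [CharP F 2] {fr : FrameL3 A F} {g : F}

/-- The input in `G`. -/
structure Inp (t : G) (fr : FrameL3 A F) (g : F) where
  R : Roots t fr g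
  tt : t * t = 1
  tA : ∀ a ∈ A, t * a = a * t
  hZ : Odd (Nat.card (center ↥A))
  perf : _root_.commutator ↥A = ⊤
  two : ∀ x, x * x = 1 → x * t = t * x → (∀ a ∈ A, x * a = a * x) → x = 1 ∨ x = t
  e : Q g
  ee : e * e = e
  te : tau g e = e + 1

namespace Inp

variable (I : Inp t fr g)

/-- the complementary idempotent -/
def e' : Q g := I.e + 1

theorem add_self (u : Q g) : u + u = 0 := by
  rw [← two_mul, two_eq_zero, zero_mul]

theorem e_e' : I.e * I.e' = 0 := by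
  rw [e', mul_add, I.ee, mul_one, add_self]

theorem e'e' : I.e' * I.e' = I.e' := by
  have h1 := I.e_e'
  rw [e'] at *
  rw [add_mul, h1, one_mul, zero_add]

theorem te' : tau g I.e' = I.e := by
  rw [e', map_add, I.te, map_one, add_assoc, add_self, add_zero]

theorem e_ne : I.e ≠ I.e' := by
  intro h
  have h1 : I.e + I.e' = 0 := by rw [← h, add_self]
  rw [e', ← add_assoc, add_self, zero_add] at h1
  exact one_ne_zero' h1

theorem e_add : I.e + I.e' = 1 := by rw [e', ← add_assoc, add_self, zero_add]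

/-- `z1` -/
def z1 (i j : Fin 3) (s : F) : G := I.R.y i j (con s * I.e)
/-- `z2` -/
def z2 (i j : Fin 3) (s : F) : G := I.R.y i j (con s * I.e')

theorem y_zero {i j : Fin 3} (hij : i ≠ j) : I.R.y i j 0 = 1 := by
  have := I.R.add hij 0 0
  rw [add_zero] at this
  exact left_eq_mul.1 this

theorem y_sq {i j : Fin 3} (hij : i ≠ j) (u : Q g) : I.R.y i j u * I.R.y i j u = 1 := by
  rw [← I.R.add hij, add_self, I.y_zero hij]

theorem z_mul {i j : Fin 3} (hij : i ≠ j) (s : F) : I.z1 i j s * I.z2 i j s = fr.x i j s := by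
  rw [z1, z2, ← I.R.add hij, ← mul_add, I.e_add, mul_one, I.R.con hij]

theorem t_z1 {i j : Fin 3} (hij : i ≠ j) (s : F) : t * I.z1 i j s * t⁻¹ = I.z2 i j s := by
  rw [z1, z2, I.R.tau hij, map_mul, tau_con, I.te, e']

theorem t_z2 {i j : Fin 3} (hij : i ≠ j) (s : F) : t * I.z2 i j s * t⁻¹ = I.z1 i j s := by
  rw [z1, z2, I.R.tau hij, map_mul, tau_con, I.te']

/-- orthogonal root elements commute -/
theorem y_comm {i j k l : Fin 3} (hij : i ≠ j) (hkl : k ≠ l) {u v : Q g} (huv : u * v = 0) :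
    I.R.y i j u * I.R.y k l v = I.R.y k l v * I.R.y i j u := by
  have hvu : v * u = 0 := by rw [mul_comm, huv]
  by_cases hjk : j = k
  · subst hjk
    by_cases hil : i = l
    · subst hil
      exact I.R.opp hij u v huv
    · have h1 := I.R.conj hij hkl hil u v
      rw [huv, I.y_zero hil, one_mul] at h1
      exact mul_inv_eq_iff_eq_mul.1 h1
  · by_cases hil : i = l
    · subst hil
      have h1 := I.R.conj hkl hij (Ne.symm hjk) v u
      rw [hvu, I.y_zero (Ne.symm hjk), one_mul] at h1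
      exact (mul_inv_eq_iff_eq_mul.1 h1).symm
    · exact I.R.comm hij hkl hjk hil u v

theorem z_comm {i j k l : Fin 3} (hij : i ≠ j) (hkl : k ≠ l) (s r : F) :
    I.z1 i j s * I.z2 k l r = I.z2 k l r * I.z1 i j s := by
  apply I.y_comm hij hkl
  calc con s * I.e * (con r * I.e') = con s * con r * (I.e * I.e') := by ring
    _ = 0 := by rw [I.e_e', mul_zero]

/-- the first component -/
def A1 : Subgroup G := closure {x | ∃ i j : Fin 3, i ≠ j ∧ ∃ s, x = I.z1 i j s}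
/-- the second component -/
def A2 : Subgroup G := closure {x | ∃ i j : Fin 3, i ≠ j ∧ ∃ s, x = I.z2 i j s}

theorem z1_mem {i j : Fin 3} (hij : i ≠ j) (s : F) : I.z1 i j s ∈ I.A1 :=
  subset_closure ⟨i, j, hij, s, rfl⟩

theorem z2_mem {i j : Fin 3} (hij : i ≠ j) (s : F) : I.z2 i j s ∈ I.A2 :=
  subset_closure ⟨i, j, hij, s, rfl⟩

theorem comm : ∀ x ∈ I.A1, ∀ y ∈ I.A2, x * y = y * x := by
  have h1 : I.A1 ≤ centralizer (I.A2 : Set G) := by
    rw [A1, closure_le]
    rintro _ ⟨i, j, hij, s, rfl⟩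
    rw [SetLike.mem_coe, mem_centralizer_iff]
    intro y hy
    have h2 : I.A2 ≤ centralizer ({I.z1 i j s} : Set G) := by
      rw [A2, closure_le]
      rintro _ ⟨k, l, hkl, r, rfl⟩
      rw [SetLike.mem_coe, mem_centralizer_singleton_iff]
      exact (I.z_comm hij hkl s r).symm
    have h3 := h2 hy
    rwa [mem_centralizer_singleton_iff] at h3
  intro x hx y hy
  exact (mem_centralizer_iff.mp (h1 hx) y hy).symm

theorem t12 : ∀ x ∈ I.A1, t * x * t⁻¹ ∈ I.A2 := by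
  intro x hx
  have h1 : I.A1 ≤ I.A2.comap (MulAut.conj t).toMonoidHom := by
    rw [A1, closure_le]
    rintro _ ⟨i, j, hij, s, rfl⟩
    show t * I.z1 i j s * t⁻¹ ∈ I.A2
    rw [I.t_z1 hij]
    exact I.z2_mem hij s
  exact h1 hx

theorem t21 : ∀ x ∈ I.A2, t * x * t⁻¹ ∈ I.A1 := by
  intro x hx
  have h1 : I.A2 ≤ I.A1.comap (MulAut.conj t).toMonoidHom := by
    rw [A2, closure_le]
    rintro _ ⟨i, j, hij, s, rfl⟩
    show t * I.z2 i j s * t⁻¹ ∈ I.A1
    rw [I.t_z2 hij]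
    exact I.z1_mem hij s
  exact h1 hx

/-- The diagonal map. -/
def dg : ↥I.A1 →* G where
  toFun x := (x : G) * (t * x * t⁻¹)
  map_one' := by simp
  map_mul' x y := by
    have h1 := I.comm y y.2 _ (I.t12 x x.2)
    show (x : G) * y * (t * (x * y) * t⁻¹) = (x : G) * (t * x * t⁻¹) * (y * (t * y * t⁻¹))
    calc (x : G) * y * (t * (x * y) * t⁻¹) = x * (y * (t * x * t⁻¹)) * (t * y * t⁻¹) := by group
      _ = _ := by rw [h1]; group

theorem dg_z1 {i j : Fin 3} (hij : i ≠ j) (s : F) : I.dg ⟨I.z1 i j s, I.z1_mem hij s⟩ = fr.x i j s := by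
  show I.z1 i j s * (t * I.z1 i j s * t⁻¹) = _
  rw [I.t_z1 hij, I.z_mul hij]

include I in
theorem bracket : ⁅A, A⁆ = A := by
  have h1 := congrArg (Subgroup.map A.subtype) I.perf
  rw [_root_.commutator_def, map_commutator, ← MonoidHom.range_eq_map, A.range_subtype] at h1
  exact h1

theorem dg_range : I.dg.range = A := by
  refine Eq.trans ?_ (fr.closure_eq I.hZ I.bracket)
  apply le_antisymm
  · rintro _ ⟨⟨x, hx⟩, rfl⟩
    have h1 : I.A1 ≤ ((closure {g : G | ∃ (i j : Fin 3) (_ : i ≠ j) (s : F), g = fr.x i j s}).comap I.dg).map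
        I.A1.subtype := by
      conv_lhs => rw [A1]
      rw [closure_le]
      rintro _ ⟨i, j, hij, s, rfl⟩
      refine ⟨⟨I.z1 i j s, I.z1_mem hij s⟩, mem_comap.mpr ?_, rfl⟩
      rw [I.dg_z1 hij]
      exact subset_closure ⟨i, j, hij, s, rfl⟩
    obtain ⟨⟨y, hy⟩, h2, h3⟩ := h1 hx
    have h4 : y = x := h3
    subst h4
    exact h2
  · rw [closure_le]
    rintro _ ⟨i, j, hij, s, rfl⟩
    exact ⟨⟨I.z1 i j s, I.z1_mem hij s⟩, I.dg_z1 hij s⟩

/-- The map onto `A`. -/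
def psi : ↥I.A1 →* ↥A := I.dg.codRestrict A (fun x => by
  have h : I.dg x ∈ I.dg.range := ⟨x, rfl⟩
  rw [I.dg_range] at h
  exact h)

theorem psi_surjective : Function.Surjective I.psi := by
  rintro ⟨a, ha⟩
  have ha' : a ∈ I.dg.range := by rw [I.dg_range]; exact ha
  obtain ⟨x, hx⟩ := ha'
  exact ⟨x, Subtype.ext hx⟩

theorem psi_ker : I.psi.ker ≤ center ↥I.A1 := by
  intro x hx
  have h1 : (x : G) * (t * x * t⁻¹) = 1 := congrArg Subtype.val (MonoidHom.mem_ker.mp hx)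
  have h2 : (x : G) ∈ I.A2 := by
    have : (x : G) = (t * x * t⁻¹)⁻¹ := eq_inv_of_mul_eq_one_left h1
    rw [this]
    exact inv_mem (I.t12 x x.2)
  rw [mem_center_iff]
  intro y
  exact Subtype.ext (I.comm y y.2 x h2)

theorem perf1 : _root_.commutator ↥I.A1 = ⊤ := by
  rw [eq_top_iff]
  have h1 : I.A1 ≤ (_root_.commutator ↥I.A1).map I.A1.subtype := by
    conv_lhs => rw [A1]
    rw [closure_le]
    rintro _ ⟨i, k, hik, s, rfl⟩
    obtain ⟨j, hij, hjk⟩ : ∃ j : Fin 3, i ≠ j ∧ j ≠ k := L3RLift.exists_third i k hik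
    have h2 := I.R.conj hij hjk hik (con 1 * I.e) (con s * I.e)
    have h3 : con 1 * I.e * (con s * I.e) = con s * I.e := by
      rw [con_one, one_mul]
      calc I.e * (con s * I.e) = con s * (I.e * I.e) := by ring
        _ = _ := by rw [I.ee]
    rw [h3] at h2
    refine ⟨⁅⟨I.z1 i j 1, I.z1_mem hij 1⟩, ⟨I.z1 j k s, I.z1_mem hjk s⟩⁆,
      commutator_mem_commutator (mem_top _) (mem_top _), ?_⟩
    show I.z1 i j 1 * I.z1 j k s * (I.z1 i j 1)⁻¹ * (I.z1 j k s)⁻¹ = I.z1 i k s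
    rw [z1, z1, z1, h2, mul_inv_cancel_right]
  rintro ⟨x, hx⟩ -
  obtain ⟨y, hy, h2⟩ := h1 hx
  have h3 : y = ⟨x, hx⟩ := Subtype.ext h2
  rw [← h3]
  exact hy

theorem le_sup : A ≤ I.A1 ⊔ I.A2 := by
  intro a ha
  obtain ⟨x, hx⟩ := I.psi_surjective ⟨a, ha⟩
  have h1 : a = (x : G) * (t * x * t⁻¹) := (congrArg Subtype.val hx).symm
  rw [h1]
  exact mul_mem (mem_sup_left x.2) (mem_sup_right (I.t12 x x.2))

/-- **no involution commuting with `t` centralises `A₁ A₂`.** -/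
theorem eq_one {x : G} (hx : x * x = 1) (hxt : x * t = t * x)
    (hc : ∀ a ∈ I.A1 ⊔ I.A2, x * a = a * x) : x = 1 := by
  rcases I.two x hx hxt (fun a ha => hc a (I.le_sup ha)) with h1 | h1
  · exact h1
  · exfalso
    subst h1
    have h2 := hc _ (mem_sup_left (I.z1_mem (i := 0) (j := 1) (by decide) 1))
    have h3 := I.t_z1 (i := 0) (j := 1) (by decide) 1
    rw [h2, mul_inv_cancel_right] at h3
    have h4 : I.z1 0 1 1 * I.z2 0 1 1 = 1 := by
      rw [← h3]
      exact I.y_sq (by decide) _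
    rw [I.z_mul (by decide), ← I.R.con (by decide), con_one] at h4
    exact one_ne_zero' (I.R.inj (by decide) _ h4)

theorem sup_normal (x : G) (hx : x ∈ I.A1 ⊔ I.A2) : t * x * t⁻¹ ∈ I.A1 ⊔ I.A2 := by
  have h1 : I.A1 ⊔ I.A2 ≤ (I.A1 ⊔ I.A2).comap (MulAut.conj t).toMonoidHom := by
    apply sup_le
    · intro y hy
      exact mem_sup_right (I.t12 y hy)
    · intro y hy
      exact mem_sup_left (I.t21 y hy)
  exact h1 hx

theorem odd_cent [Finite G] : Odd (Nat.card (centralizer ((I.A1 ⊔ I.A2 : Subgroup G) : Set G))) := by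
  rw [← Nat.not_even_iff_odd]
  intro hev
  have hev2 := hev.two_dvd
  set C := centralizer ((I.A1 ⊔ I.A2 : Subgroup G) : Set G) with hC
  have htt := I.tt
  have hti : t⁻¹ = t := inv_eq_of_mul_eq_one_right htt
  have hCt : ∀ x ∈ C, t * x * t⁻¹ ∈ C := by
    intro x hx
    rw [hC, mem_centralizer_iff] at hx ⊢
    intro a ha
    have h1 := hx _ (I.sup_normal a ha)
    have h2 : t * (t * a * t⁻¹) * t⁻¹ = a := by
      calc t * (t * a * t⁻¹) * t⁻¹ = (t * t) * a * (t * t)⁻¹ := by group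
        _ = a := by rw [htt]; group
    calc a * (t * x * t⁻¹) = (t * (t * a * t⁻¹) * t⁻¹) * (t * x * t⁻¹) := by rw [h2]
      _ = t * ((t * a * t⁻¹) * x) * t⁻¹ := by group
      _ = t * (x * (t * a * t⁻¹)) * t⁻¹ := by rw [h1]
      _ = (t * x * t⁻¹) * (t * (t * a * t⁻¹) * t⁻¹) := by group
      _ = _ := by rw [h2]
  -- a Sylow 2-subgroup of `C ⟨t⟩` containing `t`
  have hTp : IsPGroup 2 (zpowers t) := by
    apply IsPGroup.of_card (n := (Nat.card (zpowers t)).factorization 2)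
    have h1 : Nat.card (zpowers t) ∣ 2 := by
      rw [Nat.card_zpowers]
      exact orderOf_dvd_of_pow_eq_one (by rw [pow_two, htt])
    rcases (Nat.dvd_prime Nat.prime_two).mp h1 with h2 | h2
    · rw [h2]; simp
    · rw [h2]; simp [Nat.prime_two.factorization]
  obtain ⟨P, hP⟩ := hTp.exists_le_sylow
  -- conjugate a Sylow 2-subgroup: use `t`-invariant Sylow 2-subgroup of `C`
  have key : ∃ Q : Subgroup G, Q ≤ C ∧ IsPGroup 2 Q ∧ 2 ∣ Nat.card Q ∧ ∀ x ∈ Q, t * x * t⁻¹ ∈ Q := by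
    -- Sylow 2-subgroup of `C ⊔ ⟨t⟩` containing `t`
    set M := C ⊔ zpowers t with hM
    have htM : zpowers t ≤ M := le_sup_right
    obtain ⟨S, hS, hTS⟩ := Cfsg.Agent.StdEven.Syl.exists_isSyl hTp htM
    refine ⟨S ⊓ C, inf_le_right, hS.two.to_le inf_le_left, ?_, ?_⟩
    · have hN : M ≤ normalizer (C : Set G) := by
        apply sup_le le_normalizer
        rw [zpowers_le]
        exact Cfsg.Agent.StdEven.Syl.mem_normalizer_of_conj_le hCt
      have h2 := hS.inf_normal le_sup_left hN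
      have h3 := h2.odd_relIndex
      have h4 : (S ⊓ C).relIndex C * Nat.card ↥(S ⊓ C) = Nat.card C := by
        rw [mul_comm]
        have := Subgroup.card_mul_index ((S ⊓ C).subgroupOf C)
        rw [Nat.card_congr (Subgroup.subgroupOfEquivOfLe (inf_le_right : S ⊓ C ≤ C)).toEquiv] at this
        exact this
      have h5 : 2 ∣ (S ⊓ C).relIndex C * Nat.card ↥(S ⊓ C) := by rw [h4]; exact hev2
      rcases (Nat.Prime.dvd_mul Nat.prime_two).mp h5 with h6 | h6
      · exact absurd (even_iff_two_dvd.mpr h6) (Nat.not_even_iff_odd.mpr h3)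
      · exact h6
    · rintro x ⟨hxS, hxC⟩
      have htS : t ∈ S := hTS (mem_zpowers t)
      exact mem_inf.mpr ⟨S.mul_mem (S.mul_mem htS hxS) (S.inv_mem htS), hCt x hxC⟩
  obtain ⟨Q, hQC, hQp, hQ2, hQt⟩ := key
  obtain ⟨k, hk, hk1, hkt⟩ := exists_fix hTp inferInstance hQ2 (by
    intro s hs k hk
    obtain ⟨n, rfl⟩ := mem_zpowers_iff.mp hs
    have h1 : zpowers t ≤ normalizer (Q : Set G) := by
      rw [zpowers_le]
      exact Cfsg.Agent.StdEven.Syl.mem_normalizer_of_conj_le hQt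
    exact Cfsg.Agent.StdEven.Syl.conj_mem_of_mem_normalizer (h1 (zpow_mem (mem_zpowers t) n)) hk)
  have hkt' : k * t = t * k := by
    have := hkt t (mem_zpowers t)
    exact (mul_inv_eq_iff_eq_mul.mp this).symm
  -- an involution in `⟨k⟩`
  obtain ⟨n, hn⟩ := hQp ⟨k, hk⟩
  have hn' : k ^ 2 ^ n = 1 := congrArg Subtype.val hn
  have hex : ∃ m : ℕ, k ^ 2 ^ m ≠ 1 ∧ k ^ 2 ^ (m + 1) = 1 := by
    by_contra hcon
    push Not at hcon
    have h1 : ∀ m : ℕ, k ^ 2 ^ m ≠ 1 := by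
      intro m
      induction m with
      | zero => rw [pow_zero, pow_one]; exact hk1
      | succ m ih => exact hcon m ih
    exact h1 n hn'
  obtain ⟨m, hm1, hm2⟩ := hex
  apply hm1
  apply I.eq_one
  · rw [← pow_two, ← pow_mul, ← pow_succ]
    exact hm2
  · exact (Commute.pow_left (show Commute k t from hkt') _)
  · intro a ha
    have h1 : Commute k a := ((mem_centralizer_iff.mp (hQC hk)) a ha).symm
    exact h1.pow_left _

/-- the map modulo the centres. -/
noncomputable def eqv : (↥I.A1 ⧸ center ↥I.A1) ≃* (↥A ⧸ center ↥A) :=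
  (exists_equiv_center I.psi I.psi_surjective I.psi_ker I.perf1).choose

theorem eqv_mk (x : ↥I.A1) : I.eqv (QuotientGroup.mk x) = QuotientGroup.mk (I.psi x) :=
  (exists_equiv_center I.psi I.psi_surjective I.psi_ker I.perf1).choose_spec x

/-- **The frame of `A₁`.** -/
noncomputable def fr1 : FrameL3 I.A1 F where
  e := I.eqv.trans fr.e
  x i j s := I.z1 i j s
  mem hij s := I.z1_mem hij s
  map {i j} hij s := by
    rw [← fr.map hij s]
    show fr.e (I.eqv (QuotientGroup.mk _)) = _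
    rw [I.eqv_mk]
    congr 2
    exact Subtype.ext (I.dg_z1 hij s)
  two hij s := I.y_sq hij _

theorem odd1 [Finite G] : Odd (Nat.card (center ↥I.A1)) := by
  rw [← Nat.not_even_iff_odd]
  intro hev
  have : Fact (Nat.Prime 2) := ⟨Nat.prime_two⟩
  obtain ⟨z, hz⟩ := exists_prime_orderOf_dvd_card' 2 hev.two_dvd
  set x : G := ((z : ↥I.A1) : G) with hx
  have hxA : x ∈ I.A1 := (z : ↥I.A1).2
  have hxc : ∀ y ∈ I.A1, y * x = x * y := fun y hy =>
    congrArg Subtype.val (mem_center_iff.mp z.2 ⟨y, hy⟩)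
  have hxx : x * x = 1 := by
    have h1 : z * z = 1 := by rw [← pow_two, ← hz, pow_orderOf_eq_one]
    exact congrArg (fun w : center ↥I.A1 => ((w : ↥I.A1) : G)) h1
  have hx1 : x ≠ 1 := by
    intro h1
    have h2 : z = 1 := Subtype.ext (Subtype.ext h1)
    rw [h2, orderOf_one] at hz
    norm_num at hz
  -- `ψ x = 1`
  have h1 : I.psi z ∈ center ↥A :=
    (mem_center_iff_of_cover I.psi I.psi_surjective I.psi_ker I.perf1 z).mp z.2
  have h2 : I.psi z * I.psi z = 1 := by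
    rw [← map_mul]
    have : (z : ↥I.A1) * z = 1 := Subtype.ext hxx
    rw [this, map_one]
  have h3 : I.psi z = 1 := by
    have h4 : (⟨I.psi z, h1⟩ : center ↥A) * ⟨I.psi z, h1⟩ = 1 := Subtype.ext h2
    have h5 : orderOf (⟨I.psi z, h1⟩ : center ↥A) ∣ 2 := orderOf_dvd_of_pow_eq_one (by rw [pow_two, h4])
    have h6 := orderOf_dvd_natCard (⟨I.psi z, h1⟩ : center ↥A)
    have h7 : orderOf (⟨I.psi z, h1⟩ : center ↥A) = 1 :=
      Nat.eq_one_of_dvd_coprimes (Nat.coprime_two_left.mpr I.hZ) h5 h6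
    exact congrArg Subtype.val (orderOf_eq_one_iff.mp h7)
  have h4 : x * (t * x * t⁻¹) = 1 := congrArg Subtype.val h3
  have h5 : t * x * t⁻¹ = x := mul_left_cancel (h4.trans hxx.symm)
  apply hx1
  apply I.eq_one hxx (mul_inv_eq_iff_eq_mul.mp h5).symm
  intro a ha
  have h6 : I.A1 ⊔ I.A2 ≤ centralizer ({x} : Set G) := by
    apply sup_le
    · intro y hy
      rw [mem_centralizer_singleton_iff]
      exact hxc y hy
    · intro y hy
      rw [mem_centralizer_singleton_iff]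
      exact (I.comm x hxA y hy).symm
  have h7 := h6 ha
  rw [mem_centralizer_singleton_iff] at h7
  exact h7.symm

/-- the other idempotent -/
def sw : Inp t fr g where
  R := I.R
  tt := I.tt
  tA := I.tA
  hZ := I.hZ
  perf := I.perf
  two := I.two
  e := I.e'
  ee := I.e'e'
  te := by rw [I.te', e', add_assoc, add_self, add_zero]

/-- **The wreath situation.** -/
noncomputable def wr0 [Finite G] : Wr0 t fr where
  A1 := I.A1
  A2 := I.A2
  fr1 := I.fr1
  fr2 := I.sw.fr1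
  comm := I.comm
  t12 := I.t12
  t21 := I.t21
  tx hij s := I.t_z1 hij s
  tx' hij s := I.t_z2 hij s
  x_eq hij s := (I.z_mul hij s).symm
  diag x hx := (I.psi ⟨x, hx⟩).2
  onto a ha := by
    obtain ⟨x, hx⟩ := I.psi_surjective ⟨a, ha⟩
    exact ⟨x, x.2, (congrArg Subtype.val hx).symm⟩
  onto' a ha := by
    obtain ⟨x, hx⟩ := I.sw.psi_surjective ⟨a, ha⟩
    exact ⟨x, x.2, (congrArg Subtype.val hx).symm⟩
  perf1 := I.perf1
  perf2 := I.sw.perf1
  odd1 := I.odd1
  odd2 := I.sw.odd1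
  cent := I.odd_cent

end Inp

/-- **Type `L₃(q)`, split case, in `G`.** -/
theorem exists_wr0 {G : Type*} [Group G] [Finite G] {L A : Subgroup G} {t : G} {T : Subgroup G}
    {F : Type*} [Field F] [Finite F] [CharP F 2] {fr : FrameL3 A F} (B : L3Inst.Both L A t T fr)
    {Ag Bg Zg : Subgroup (Cfsg.Agent.StdEven.CoreQuot.XQ A t)} (I : Input B.xsit Ag Bg Zg)
    (hc : ∃ c : F, c * c + c = I.K.g) : Nonempty (Wr0 t fr) := by
  obtain ⟨c, hc⟩ := hc
  refine ⟨Inp.wr0 (g := I.K.g) ⟨L3RLift.roots B I.roots, B.hyp.tt, fun a ha => B.sit.t_comm ha,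
    B.hyp.hZ, B.sit.perfect, fun x hx hxt hA => ?_, idem I.K.g c, idem_mul hc, idem_tau⟩⟩
  apply B.hyp.eq_of_two (mem_centralizer_iff.mpr fun a ha => (hA a ha).symm) hxt (k := 1)
  rw [pow_one, pow_two, hx]

end Cfsg.Agent.StdRank2.L3W0
end

-- part: StdRank2/L3F/Aut
section
/-!
# S1778, type `L3(q)`, part III, field case: 2-automorphisms of `Heis K`, `K` a finite field of characteristic 2
-/

set_option autoImplicit false

namespace Cfsg.Agent.StdRank2.L3F

open Cfsg.Agent.StdL3.Heis Cfsg.Agent.StdL3.HeisTwo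

variable {K : Type*} [Field K]

/-! ## normal form -/

theorem det_eq (α : MulAut (Heis K)) :
    gam α 1 = (α ⟨1, 0, 0⟩).a * (α ⟨0, 1, 0⟩).b - (α ⟨0, 1, 0⟩).a * (α ⟨1, 0, 0⟩).b := by
  have h := gam_comm α ⟨1, 0, 0⟩ ⟨0, 1, 0⟩
  simpa using h

theorem gam_eq (α : MulAut (Heis K)) (c : K) : gam α c = sig α c * gam α 1 := by
  rw [← gam_sig, mul_one]

theorem gam_one_ne (α : MulAut (Heis K)) : gam α 1 ≠ 0 := by
  intro h
  have := (gam_bijective α).1 (h.trans (gam_zero α).symm)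
  exact one_ne_zero this

theorem map_first (α : MulAut (Heis K)) (c : K) :
    (α ⟨c, 0, 0⟩).a = sig α c * (α ⟨1, 0, 0⟩).a ∧ (α ⟨c, 0, 0⟩).b = sig α c * (α ⟨1, 0, 0⟩).b := by
  obtain ⟨r, s, hrs⟩ := exists_unimodular α ⟨1, 0, 0⟩ ⟨1, 0, by simp⟩
  have hc : (⟨1, 0, 0⟩ : Heis K) * ⟨c, 0, 0⟩ = ⟨c, 0, 0⟩ * ⟨1, 0, 0⟩ := by
    rw [commute_iff]; simp
  have hc' := congrArg α hc
  rw [map_mul, map_mul] at hc'
  obtain ⟨h1, h2⟩ := eq_smul_of_commute hrs hc'
  set l := r * (α ⟨c, 0, 0⟩).a + s * (α ⟨c, 0, 0⟩).b with hl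
  have h3 := gam_comm α ⟨c, 0, 0⟩ ⟨0, 1, 0⟩
  simp only [mul_one, zero_mul, sub_zero] at h3
  rw [gam_eq, det_eq, h1, h2] at h3
  have h4 : sig α c = l := by
    have h5 := gam_one_ne α
    rw [det_eq] at h5
    apply mul_right_cancel₀ h5
    rw [h3]; ring
  rw [h4]
  exact ⟨h1, h2⟩

theorem map_second (α : MulAut (Heis K)) (c : K) :
    (α ⟨0, c, 0⟩).a = sig α c * (α ⟨0, 1, 0⟩).a ∧ (α ⟨0, c, 0⟩).b = sig α c * (α ⟨0, 1, 0⟩).b := by
  obtain ⟨r, s, hrs⟩ := exists_unimodular α ⟨0, 1, 0⟩ ⟨0, 1, by simp⟩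
  have hc : (⟨0, 1, 0⟩ : Heis K) * ⟨0, c, 0⟩ = ⟨0, c, 0⟩ * ⟨0, 1, 0⟩ := by
    rw [commute_iff]; simp
  have hc' := congrArg α hc
  rw [map_mul, map_mul] at hc'
  obtain ⟨h1, h2⟩ := eq_smul_of_commute hrs hc'
  set l := r * (α ⟨0, c, 0⟩).a + s * (α ⟨0, c, 0⟩).b with hl
  have h3 := gam_comm α ⟨1, 0, 0⟩ ⟨0, c, 0⟩
  simp only [one_mul, zero_mul, sub_zero] at h3
  rw [gam_eq, det_eq, h1, h2] at h3
  have h4 : sig α c = l := by
    have h5 := gam_one_ne α
    rw [det_eq] at h5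
    apply mul_right_cancel₀ h5
    rw [h3]; ring
  rw [h4]
  exact ⟨h1, h2⟩

theorem heis_eq (u : Heis K) : u = ⟨u.a, 0, 0⟩ * ⟨0, u.b, 0⟩ * z (u.c - u.a * u.b) := by
  ext <;> simp

theorem map_a (α : MulAut (Heis K)) (u : Heis K) :
    (α u).a = sig α u.a * (α ⟨1, 0, 0⟩).a + sig α u.b * (α ⟨0, 1, 0⟩).a := by
  have h : α u = α ⟨u.a, 0, 0⟩ * α ⟨0, u.b, 0⟩ * z (gam α (u.c - u.a * u.b)) := by
    conv_lhs => rw [heis_eq u, map_mul, map_mul, map_z]
  rw [h, mul_a, mul_a, z_a, add_zero, (map_first α u.a).1, (map_second α u.b).1]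

theorem map_b (α : MulAut (Heis K)) (u : Heis K) :
    (α u).b = sig α u.a * (α ⟨1, 0, 0⟩).b + sig α u.b * (α ⟨0, 1, 0⟩).b := by
  have h : α u = α ⟨u.a, 0, 0⟩ * α ⟨0, u.b, 0⟩ * z (gam α (u.c - u.a * u.b)) := by
    conv_lhs => rw [heis_eq u, map_mul, map_mul, map_z]
  rw [h, mul_b, mul_b, z_b, add_zero, (map_first α u.a).2, (map_second α u.b).2]

/-! ## preserving or swapping the two elementary subgroups of order `|K|²` -/

/-- `α` preserves `V₁ = {b = 0}` and `V₂ = {a = 0}` -/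
def Pres (α : MulAut (Heis K)) : Prop := (α ⟨1, 0, 0⟩).b = 0 ∧ (α ⟨0, 1, 0⟩).a = 0

/-- `α` swaps `V₁` and `V₂` -/
def Swp (α : MulAut (Heis K)) : Prop := (α ⟨1, 0, 0⟩).a = 0 ∧ (α ⟨0, 1, 0⟩).b = 0

theorem Pres.a {α : MulAut (Heis K)} (h : Pres α) (u : Heis K) :
    (α u).a = sig α u.a * (α ⟨1, 0, 0⟩).a := by
  rw [map_a, h.2, mul_zero, add_zero]

theorem Pres.b {α : MulAut (Heis K)} (h : Pres α) (u : Heis K) :
    (α u).b = sig α u.b * (α ⟨0, 1, 0⟩).b := by
  rw [map_b, h.1, mul_zero, zero_add]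

theorem Swp.a {α : MulAut (Heis K)} (h : Swp α) (u : Heis K) :
    (α u).a = sig α u.b * (α ⟨0, 1, 0⟩).a := by
  rw [map_a, h.1, mul_zero, zero_add]

theorem Swp.b {α : MulAut (Heis K)} (h : Swp α) (u : Heis K) :
    (α u).b = sig α u.a * (α ⟨1, 0, 0⟩).b := by
  rw [map_b, h.2, mul_zero, add_zero]

theorem Pres.not_swp {α : MulAut (Heis K)} (h : Pres α) : ¬ Swp α := by
  intro h'
  apply gam_one_ne α
  rw [det_eq, h.1, h'.1]; simp

theorem pres_or_swp [CharP K 2] (α : MulAut (Heis K)) : Pres α ∨ Swp α := by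
  have hsq : ∀ u : Heis K, gam α (u.a * u.b) = (α u).a * (α u).b := by
    intro u
    apply z_inj
    rw [← map_z, ← sq_eq, ← sq_eq, map_mul]
  have h1 : (α ⟨1, 0, 0⟩).a * (α ⟨1, 0, 0⟩).b = 0 := by
    rw [← hsq]
    simp [gam_zero]
  have h2 : (α ⟨0, 1, 0⟩).a * (α ⟨0, 1, 0⟩).b = 0 := by
    rw [← hsq]
    simp [gam_zero]
  have h3 := gam_one_ne α
  rw [det_eq] at h3
  rcases mul_eq_zero.1 h1 with h | h
  · right
    refine ⟨h, ?_⟩
    rcases mul_eq_zero.1 h2 with h' | h'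
    · exact absurd (by rw [h, h']; simp) h3
    · exact h'
  · left
    refine ⟨h, ?_⟩
    rcases mul_eq_zero.1 h2 with h' | h'
    · exact h'
    · exact absurd (by rw [h, h']; simp) h3

theorem Pres.mul {α β : MulAut (Heis K)} (h : Pres α) (h' : Pres β) : Pres (α * β) := by
  constructor
  · rw [MulAut.mul_apply, h.b, h'.1, map_zero, zero_mul]
  · rw [MulAut.mul_apply, h.a, h'.2, map_zero, zero_mul]

theorem Swp.mul {α β : MulAut (Heis K)} (h : Swp α) (h' : Swp β) : Pres (α * β) := by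
  constructor
  · rw [MulAut.mul_apply, h.b, h'.1, map_zero, zero_mul]
  · rw [MulAut.mul_apply, h.a, h'.2, map_zero, zero_mul]

theorem Pres.mul_swp {α β : MulAut (Heis K)} (h : Pres α) (h' : Swp β) : Swp (α * β) := by
  constructor
  · rw [MulAut.mul_apply, h.a, h'.1, map_zero, zero_mul]
  · rw [MulAut.mul_apply, h.b, h'.2, map_zero, zero_mul]

theorem Swp.mul_pres {α β : MulAut (Heis K)} (h : Swp α) (h' : Pres β) : Swp (α * β) := by
  constructor
  · rw [MulAut.mul_apply, h.a, h'.1, map_zero, zero_mul]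
  · rw [MulAut.mul_apply, h.b, h'.2, map_zero, zero_mul]

theorem pres_one : Pres (1 : MulAut (Heis K)) := ⟨rfl, rfl⟩

theorem pres_ofRing (σ : RingAut K) : Pres (ofRing σ) := by
  constructor
  · rw [ofRing_apply]; exact map_zero σ
  · rw [ofRing_apply]; exact map_zero σ

open Classical in
/-- the sign of the action on `{V₁, V₂}` -/
noncomputable def eps [CharP K 2] : MulAut (Heis K) →* ℤˣ where
  toFun α := if Pres α then 1 else -1
  map_one' := if_pos pres_one
  map_mul' α β := by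
    have hn : ∀ γ : MulAut (Heis K), Swp γ → ¬ Pres γ := fun γ h x => x.not_swp h
    rcases pres_or_swp α with h | h <;> rcases pres_or_swp β with h' | h'
    · rw [if_pos h, if_pos h', if_pos (h.mul h'), one_mul]
    · rw [if_pos h, if_neg (hn β h'), if_neg (hn _ (h.mul_swp h')), one_mul]
    · rw [if_neg (hn α h), if_pos h', if_neg (hn _ (h.mul_pres h')), mul_one]
    · rw [if_neg (hn α h), if_neg (hn β h'), if_pos (h.mul h')]
      rfl

theorem eps_eq_one [CharP K 2] {α : MulAut (Heis K)} : eps α = 1 ↔ Pres α := by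
  constructor
  · intro h
    by_contra hn
    have h2 : eps α = -1 := if_neg hn
    rw [h2] at h
    exact absurd h (by decide)
  · intro h
    exact if_pos h

/-! ## 2-elements -/

theorem eq_one_of_pow [CharP K 2] {x : K} {n : ℕ} (h : x ^ 2 ^ n = 1) : x = 1 := by
  have : Fact (Nat.Prime 2) := ⟨Nat.prime_two⟩
  have h2 : ExpChar K 2 := ExpChar.prime Nat.prime_two
  have h1 : (x - 1) ^ 2 ^ n = 0 := by
    rw [sub_pow_expChar_pow, h, one_pow, sub_self]
  exact sub_eq_zero.1 (pow_eq_zero_iff (by positivity) |>.1 h1)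

/-- A 2-automorphism with trivial field part preserving `V₁, V₂` is trivial on `U/Z` and `Z`. -/
theorem Pres.trivial [CharP K 2] {α : MulAut (Heis K)} (h : Pres α) (hs : sig α = 1) {n : ℕ}
    (hn : α ^ 2 ^ n = 1) :
    (∀ u, (α u).a = u.a) ∧ (∀ u, (α u).b = u.b) ∧ (∀ c, gam α c = c) := by
  have ha : ∀ u, (α u).a = u.a * (α ⟨1, 0, 0⟩).a := by
    intro u; rw [h.a, hs]; rfl
  have hb : ∀ u, (α u).b = u.b * (α ⟨0, 1, 0⟩).b := by
    intro u; rw [h.b, hs]; rfl
  have hpa : ∀ k : ℕ, ∀ u, ((α ^ k) u).a = u.a * (α ⟨1, 0, 0⟩).a ^ k := by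
    intro k
    induction k with
    | zero => intro u; simp
    | succ k ih => intro u; rw [pow_succ', MulAut.mul_apply, ha, ih, pow_succ, mul_assoc]
  have hpb : ∀ k : ℕ, ∀ u, ((α ^ k) u).b = u.b * (α ⟨0, 1, 0⟩).b ^ k := by
    intro k
    induction k with
    | zero => intro u; simp
    | succ k ih => intro u; rw [pow_succ', MulAut.mul_apply, hb, ih, pow_succ, mul_assoc]
  have h1 : (α ⟨1, 0, 0⟩).a = 1 := by
    have := hpa (2 ^ n) ⟨1, 0, 0⟩
    rw [hn] at this
    simp only [MulAut.one_apply, one_mul] at this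
    exact eq_one_of_pow this.symm
  have h2 : (α ⟨0, 1, 0⟩).b = 1 := by
    have := hpb (2 ^ n) ⟨0, 1, 0⟩
    rw [hn] at this
    simp only [MulAut.one_apply, one_mul] at this
    exact eq_one_of_pow this.symm
  refine ⟨fun u => by rw [ha, h1, mul_one], fun u => by rw [hb, h2, mul_one], fun c => ?_⟩
  rw [gam_eq, det_eq, h1, h2, h.1, hs]
  simp

/-! ## involutory automorphisms with nontrivial field part -/

/-- all involutions of the coset are conjugate -/
theorem exists_conj [CharP K 2] {α : MulAut (Heis K)} (hα : α * α = 1) (hs : sig α ≠ 1) {x : Heis K}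
    (hx : α x * x = 1) : ∃ v, α v * v⁻¹ = x := by
  have hs2 : sig α * sig α = 1 := by rw [← map_mul, hα, map_one]
  obtain ⟨r, hr⟩ := OutField.exists_trace hs2 hs (map_one (sig α))
  have hαα : ∀ w, α (α w) = w := by
    intro w
    rw [← MulAut.mul_apply, hα]; rfl
  have hxa : (α x).a = x.a := by
    have := congrArg Heis.a hx
    simp only [mul_a, one_a] at this
    exact CharTwo.add_eq_zero.1 this
  have hxb : (α x).b = x.b := by
    have := congrArg Heis.b hx
    simp only [mul_b, one_b] at this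
    exact CharTwo.add_eq_zero.1 this
  set v0 : Heis K := ⟨r * x.a, r * x.b, 0⟩ with hv0
  have h1 : (α v0).a = sig α r * x.a := by
    have e : (α x).a = sig α x.a * (α ⟨1, 0, 0⟩).a + sig α x.b * (α ⟨0, 1, 0⟩).a := map_a α x
    rw [map_a, hv0]
    simp only [map_mul]
    linear_combination (sig α r) * (hxa - e)
  have h2 : (α v0).b = sig α r * x.b := by
    have e : (α x).b = sig α x.a * (α ⟨1, 0, 0⟩).b + sig α x.b * (α ⟨0, 1, 0⟩).b := map_b α x
    rw [map_b, hv0]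
    simp only [map_mul]
    linear_combination (sig α r) * (hxb - e)
  set y0 : Heis K := α v0 * v0⁻¹ with hy0
  have hy1 : α y0 * y0 = 1 := by
    rw [hy0, map_mul, map_inv, hαα]
    group
  have hw : x⁻¹ * y0 ∈ J K := by
    rw [mem_J]
    constructor
    · rw [mul_a, inv_a, hy0, mul_a, inv_a, h1, hv0]
      have : r + sig α r = 1 := hr
      have e : -x.a + (sig α r * x.a + -(r * x.a)) = (r + sig α r - 1) * x.a - 2 * (r * x.a) := by ring
      rw [e, this, sub_self, zero_mul, CharTwo.two_eq_zero, zero_mul, sub_zero]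
    · rw [mul_b, inv_b, hy0, mul_b, inv_b, h2, hv0]
      have : r + sig α r = 1 := hr
      have e : -x.b + (sig α r * x.b + -(r * x.b)) = (r + sig α r - 1) * x.b - 2 * (r * x.b) := by ring
      rw [e, this, sub_self, zero_mul, CharTwo.two_eq_zero, zero_mul, sub_zero]
  obtain ⟨e, he⟩ := mem_J_iff_exists.1 hw
  have hxe : x = y0 * z e := by
    have h3 : y0 = x * z e := by rw [← he]; group
    rw [h3, mul_assoc, z_sq, mul_one]
  have hge : gam α e = e := by
    have h3 : α x * x = z (gam α e + e) := by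
      rw [hxe, map_mul, map_z]
      calc α y0 * z (gam α e) * (y0 * z e) = α y0 * (z (gam α e) * y0) * z e := by group
        _ = (α y0 * y0) * (z (gam α e) * z e) := by rw [z_comm]; group
        _ = z (gam α e + e) := by rw [hy1, one_mul, z_mul]
    rw [hx] at h3
    have h4 : (0 : K) = gam α e + e := z_inj (z_zero.trans h3)
    exact CharTwo.add_eq_zero.1 h4.symm
  refine ⟨v0 * z (r * e), ?_⟩
  have h5 : z (gam α (r * e)) * (z (r * e))⁻¹ = z e := by
    rw [z_inv, z_mul, gam_sig, hge]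
    congr 1
    have : r + sig α r = 1 := hr
    have e' : sig α r * e + -(r * e) = (r + sig α r) * e - 2 * (r * e) := by ring
    rw [e', this, one_mul, CharTwo.two_eq_zero, zero_mul, sub_zero]
  rw [map_mul, map_z, mul_inv_rev]
  calc α v0 * z (gam α (r * e)) * ((z (r * e))⁻¹ * v0⁻¹) = α v0 * (z (gam α (r * e)) * (z (r * e))⁻¹) * v0⁻¹ := by
        group
    _ = α v0 * (z e * v0⁻¹) := by rw [h5, mul_assoc]
    _ = α v0 * v0⁻¹ * z e := by rw [z_comm, mul_assoc]
    _ = x := hxe.symm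

variable [Finite K]

theorem card_fixJ [CharP K 2] {α : MulAut (Heis K)} (hα : α * α = 1) (hs : sig α ≠ 1) :
    Nat.card (fixJ α) ^ 2 = Nat.card K := by
  have hs2 : sig α * sig α = 1 := by rw [← map_mul, hα, map_one]
  obtain ⟨r, hr⟩ := OutField.exists_trace hs2 hs (map_one (sig α))
  have hr2 : sig α r = r + 1 := by
    have : r + sig α r = 1 := hr
    have e : sig α r = (r + sig α r) - r := by ring
    rw [e, this, CharTwo.sub_eq_add, add_comm]
  exact card_fix_sq hα hr2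

theorem card_fixAll [CharP K 2] {α : MulAut (Heis K)} (hα : α * α = 1) (hs : sig α ≠ 1) {q : ℕ}
    (hq : Nat.card K = q ^ 2) : Nat.card (fixJ α) = q ∧ q ^ 3 ≤ Nat.card (fixAll α) := by
  have h1 := card_fixJ hα hs
  have h2 : Nat.card (fixJ α) = q := by
    rw [hq] at h1
    exact Nat.pow_left_injective (n := 2) (by norm_num) h1
  refine ⟨h2, ?_⟩
  have h3 := card_ker_ge hα
  have h4 := card_ker_le hα
  rw [h2] at h4
  rw [hq] at h3
  have hq0 : 0 < q := by
    rcases Nat.eq_zero_or_pos q with h | h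
    · rw [h] at hq
      have := Nat.card_pos (α := K)
      omega
    · exact h
  have h5 : q ^ 3 * q ≤ Nat.card (fixAll α) * q := by
    calc q ^ 3 * q = (q ^ 2) ^ 2 := by ring
      _ ≤ _ := h3
      _ ≤ _ := h4
  exact Nat.le_of_mul_le_mul_right h5 hq0

omit [Finite K] in
/-- a swapping automorphism has no fixed involutions outside `J` -/
theorem Swp.mem_J [CharP K 2] {α : MulAut (Heis K)} (h : Swp α) {u : Heis K} (hu : u * u = 1) (hf : α u = u) :
    u ∈ J K := by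
  rw [Cfsg.Agent.StdL3.HeisTwo.sq_eq_one_iff] at hu
  have h1 := h.a u
  have h2 := h.b u
  rw [hf] at h1 h2
  rcases mul_eq_zero.1 hu with h3 | h3
  · exact ⟨h3, by rw [h2, h3, map_zero, zero_mul]⟩
  · exact ⟨by rw [h1, h3, map_zero, zero_mul], h3⟩

omit [Finite K] in
/-- a swapping automorphism of order 2 with trivial field part -/
theorem Swp.of_sig_one [CharP K 2] {α : MulAut (Heis K)} (h : Swp α) (hα : α * α = 1) (hs : sig α = 1) :
    ∃ m n : K, m * n = 1 ∧ (∀ u, (α u).a = m * u.b) ∧ (∀ u, (α u).b = n * u.a) ∧ (∀ c, gam α c = c) := by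
  have ha : ∀ u, (α u).a = (α ⟨0, 1, 0⟩).a * u.b := by
    intro u; rw [h.a, hs, mul_comm]; rfl
  have hb : ∀ u, (α u).b = (α ⟨1, 0, 0⟩).b * u.a := by
    intro u; rw [h.b, hs, mul_comm]; rfl
  have h1 : (α ⟨0, 1, 0⟩).a * (α ⟨1, 0, 0⟩).b = 1 := by
    have h2 := ha (α ⟨1, 0, 0⟩)
    rw [← MulAut.mul_apply, hα] at h2
    exact h2.symm
  refine ⟨_, _, h1, ha, hb, fun c => ?_⟩
  rw [gam_eq, det_eq, h.1, hs, h1, zero_mul, zero_sub, mul_neg, mul_one, CharTwo.neg_eq]
  rfl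

end Cfsg.Agent.StdRank2.L3F
end

-- part: StdRank2/L3F/Def
section
/-!
# S1778, type `L3(q)`, part III, field case: the configuration `FC`, the group `S = Û T` and its action on `Û`
-/

set_option autoImplicit false

namespace Cfsg.Agent.StdRank2.L3F

open Subgroup Cfsg.Agent.StdL3.Heis Cfsg.Agent.StdL3.HeisTwo

variable {K : Type*} [Field K]

/-- the two elementary abelian subgroups of order `|K|²` -/
def V : Bool → Subgroup (Heis K)
  | false =>
    { carrier := {u | u.b = 0}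
      mul_mem' := by
        intro u v hu hv
        show (u * v).b = 0
        rw [mul_b, show u.b = 0 from hu, show v.b = 0 from hv, add_zero]
      one_mem' := rfl
      inv_mem' := by
        intro u hu
        show (u⁻¹).b = 0
        rw [inv_b, show u.b = 0 from hu, neg_zero] }
  | true =>
    { carrier := {u | u.a = 0}
      mul_mem' := by
        intro u v hu hv
        show (u * v).a = 0
        rw [mul_a, show u.a = 0 from hu, show v.a = 0 from hv, add_zero]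
      one_mem' := rfl
      inv_mem' := by
        intro u hu
        show (u⁻¹).a = 0
        rw [inv_a, show u.a = 0 from hu, neg_zero] }

theorem mem_V_false {u : Heis K} : u ∈ V (K := K) false ↔ u.b = 0 := Iff.rfl
theorem mem_V_true {u : Heis K} : u ∈ V (K := K) true ↔ u.a = 0 := Iff.rfl

theorem V_comm {j : Bool} {u v : Heis K} (hu : u ∈ V (K := K) j) (hv : v ∈ V (K := K) j) : u * v = v * u := by
  rw [commute_iff]
  cases j
  · rw [mem_V_false.1 hu, mem_V_false.1 hv]; ring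
  · rw [mem_V_true.1 hu, mem_V_true.1 hv]; ring

theorem V_sq [CharP K 2] {j : Bool} {u : Heis K} (hu : u ∈ V (K := K) j) : u * u = 1 := by
  rw [Cfsg.Agent.StdL3.HeisTwo.sq_eq_one_iff]
  cases j
  · rw [mem_V_false.1 hu, mul_zero]
  · rw [mem_V_true.1 hu, zero_mul]

theorem exists_V [CharP K 2] {u : Heis K} (hu : u * u = 1) : ∃ j : Bool, u ∈ V (K := K) j := by
  rw [Cfsg.Agent.StdL3.HeisTwo.sq_eq_one_iff] at hu
  rcases mul_eq_zero.1 hu with h | h
  · exact ⟨true, mem_V_true.2 h⟩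
  · exact ⟨false, mem_V_false.2 h⟩

/-- `V j ≃ K × K` -/
def vEquiv (K : Type*) [Field K] : (j : Bool) → V (K := K) j ≃ K × K
  | false =>
    { toFun := fun u => (u.1.a, u.1.c)
      invFun := fun p => ⟨⟨p.1, 0, p.2⟩, rfl⟩
      left_inv := fun u => Subtype.ext (Heis.ext rfl (mem_V_false.1 u.2).symm rfl)
      right_inv := fun _ => rfl }
  | true =>
    { toFun := fun u => (u.1.b, u.1.c)
      invFun := fun p => ⟨⟨0, p.1, p.2⟩, rfl⟩
      left_inv := fun u => Subtype.ext (Heis.ext (mem_V_true.1 u.2).symm rfl rfl)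
      right_inv := fun _ => rfl }

theorem card_V (j : Bool) : Nat.card (V (K := K) j) = Nat.card K ^ 2 := by
  rw [Nat.card_congr (vEquiv K j), Nat.card_prod, sq]

theorem ofRing_mem_V {τ : RingAut K} {j : Bool} {u : Heis K} (hu : u ∈ V (K := K) j) :
    ofRing τ u ∈ V (K := K) j := by
  cases j
  · exact mem_V_false.2 (by rw [ofRing_apply, show u.b = 0 from hu]; exact map_zero τ)
  · exact mem_V_true.2 (by rw [ofRing_apply, show u.a = 0 from hu]; exact map_zero τ)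

/-- the fixed points of `τ` in `V j` -/
def E (τ : RingAut K) (j : Bool) : Subgroup (Heis K) := V (K := K) j ⊓ fixAll (ofRing τ)

theorem mem_E {τ : RingAut K} {j : Bool} {u : Heis K} : u ∈ E τ j ↔ u ∈ V (K := K) j ∧ ofRing τ u = u := Iff.rfl

theorem ofRing_eq_iff {τ : RingAut K} {u : Heis K} : ofRing τ u = u ↔ τ u.a = u.a ∧ τ u.b = u.b ∧ τ u.c = u.c := by
  rw [ofRing_apply, Heis.ext_iff]

/-- `E j ≃ Fix τ × Fix τ` -/
def eEquiv (τ : RingAut K) : (j : Bool) → E τ j ≃ {x : K // τ x = x} × {x : K // τ x = x}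
  | false =>
    { toFun := fun u => (⟨u.1.a, (ofRing_eq_iff.1 u.2.2).1⟩, ⟨u.1.c, (ofRing_eq_iff.1 u.2.2).2.2⟩)
      invFun := fun p => ⟨⟨p.1, 0, p.2⟩, rfl, ofRing_eq_iff.2 ⟨p.1.2, map_zero τ, p.2.2⟩⟩
      left_inv := fun u => Subtype.ext (Heis.ext rfl (mem_V_false.1 u.2.1).symm rfl)
      right_inv := fun _ => rfl }
  | true =>
    { toFun := fun u => (⟨u.1.b, (ofRing_eq_iff.1 u.2.2).2.1⟩, ⟨u.1.c, (ofRing_eq_iff.1 u.2.2).2.2⟩)
      invFun := fun p => ⟨⟨0, p.1, p.2⟩, rfl, ofRing_eq_iff.2 ⟨map_zero τ, p.1.2, p.2.2⟩⟩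
      left_inv := fun u => Subtype.ext (Heis.ext (mem_V_true.1 u.2.1).symm rfl rfl)
      right_inv := fun _ => rfl }

/-- `Fix (ofRing τ) ≃ (Fix τ)³` -/
def fEquiv (τ : RingAut K) : fixAll (ofRing τ) ≃ ({x : K // τ x = x} × {x : K // τ x = x}) × {x : K // τ x = x} where
  toFun u := ((⟨u.1.a, (ofRing_eq_iff.1 u.2).1⟩, ⟨u.1.b, (ofRing_eq_iff.1 u.2).2.1⟩),
    ⟨u.1.c, (ofRing_eq_iff.1 u.2).2.2⟩)
  invFun p := ⟨⟨p.1.1, p.1.2, p.2⟩, ofRing_eq_iff.2 ⟨p.1.1.2, p.1.2.2, p.2.2⟩⟩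
  left_inv _ := rfl
  right_inv _ := rfl

variable {G : Type*} [Group G]

/-- The configuration in the field case. -/
structure FC (t : G) (T : Subgroup G) (q : ℕ) (i : Heis K →* G) (τ : RingAut K) : Prop where
  inj : Function.Injective i
  tau_sq : τ * τ = 1
  tau_ne : τ ≠ 1
  card : Nat.card K = q ^ 2
  four_le : 4 ≤ q
  tt : t * t = 1
  act : ∀ x, t * i x * t⁻¹ = i (ofRing τ x)
  isT : IsPGroup 2 T
  mem_T : t ∈ T
  comm_T : ∀ x ∈ T, x * t = t * x
  conj_T : ∀ X : Subgroup G, IsPGroup 2 X → (∀ x ∈ X, x * t = t * x) → ∃ c, c * t = t * c ∧ ∀ x ∈ X, c * x * c⁻¹ ∈ T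
  norm : T ≤ normalizer (i.range : Set G)
  cent_mem : ∀ x, ofRing τ x = x → i x ∈ T
  je : ∀ X : Subgroup G, X ≤ T → (∀ x ∈ X, x * x = 1) → 2 * q ^ 2 ≤ Nat.card X →
    ∃ j : Bool, ∀ x ∈ X, ∃ e ∈ E τ j, x = i e ∨ x = t * i e
  cent : ∀ (j : Bool) (x : G), x * t = t * x → (∀ e ∈ E τ j, x * i e = i e * x) →
    ∃ o : G, ∃ a ∈ E τ j, Odd (orderOf o) ∧ o * t = t * o ∧ (∀ e ∈ V (K := K) j, o * i e = i e * o) ∧
      (x = o * i a ∨ x = o * (t * i a))
  triv : ∀ f ∈ T, ∀ β : MulAut (Heis K), (∀ u, f * i u * f⁻¹ = i (β u)) → (∀ u, (β u).a = u.a) →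
    (∀ u, (β u).b = u.b) → (∀ c, gam β c = c) → ∃ a, ofRing τ a = a ∧ (f = i a ∨ f = t * i a)

/-- the action of the normalizer of the image of `i` -/
noncomputable def rho {i : Heis K →* G} (hi : Function.Injective i) :
    ↥(normalizer (i.range : Set G)) →* MulAut (Heis K) :=
  (MulAut.congr (MonoidHom.ofInjective hi).symm).toMonoidHom.comp (Subgroup.normalizerMonoidHom i.range)

theorem rho_spec {i : Heis K →* G} (hi : Function.Injective i) (g : ↥(normalizer (i.range : Set G))) (u : Heis K) :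
    (g : G) * i u * (g : G)⁻¹ = i (rho hi g u) := by
  have h1 : ∀ y : i.range, i ((MonoidHom.ofInjective hi).symm y) = y := by
    intro y
    have h2 := (MonoidHom.ofInjective hi).apply_symm_apply y
    exact congrArg Subtype.val h2
  have h3 : rho hi g u = (MonoidHom.ofInjective hi).symm
      (Subgroup.normalizerMonoidHom i.range g ((MonoidHom.ofInjective hi) u)) := rfl
  rw [h3, h1]
  rfl

theorem rho_eq {i : Heis K →* G} (hi : Function.Injective i) (g : ↥(normalizer (i.range : Set G)))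
    {α : MulAut (Heis K)} (h : ∀ u, (g : G) * i u * (g : G)⁻¹ = i (α u)) : rho hi g = α := by
  ext1 u
  apply hi
  rw [← rho_spec, h]

namespace FC

variable {t : G} {T : Subgroup G} {q : ℕ} {i : Heis K →* G} {τ : RingAut K}

/-- the candidate for the Sylow 2-subgroup -/
def S (_ : FC t T q i τ) : Subgroup G := i.range ⊔ T

variable (h : FC t T q i τ)

include h

theorem le_S : i.range ≤ h.S := le_sup_left
theorem T_le : T ≤ h.S := le_sup_right
theorem i_mem (u : Heis K) : i u ∈ h.S := h.le_S ⟨u, rfl⟩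
theorem t_mem : t ∈ h.S := h.T_le h.mem_T

theorem S_le : h.S ≤ normalizer (i.range : Set G) := sup_le le_normalizer h.norm

theorem mem_S {x : G} : x ∈ h.S ↔ ∃ u, ∃ f ∈ T, x = i u * f := by
  have h1 := coe_mul_of_right_le_normalizer_left i.range T h.norm
  constructor
  · intro hx
    have h2 : x ∈ (↑(i.range ⊔ T) : Set G) := hx
    rw [h1] at h2
    obtain ⟨_, ⟨u, rfl⟩, f, hf, rfl⟩ := h2
    exact ⟨u, f, hf, rfl⟩
  · rintro ⟨u, f, hf, rfl⟩
    exact mul_mem (h.i_mem u) (h.T_le hf)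

/-- the action of `S` -/
noncomputable def r : ↥h.S →* MulAut (Heis K) := (rho h.inj).comp (inclusion h.S_le)

theorem r_spec (g : h.S) (u : Heis K) : (g : G) * i u * (g : G)⁻¹ = i (h.r g u) :=
  rho_spec h.inj (inclusion h.S_le g) u

theorem r_eq (g : h.S) {α : MulAut (Heis K)} (hα : ∀ u, (g : G) * i u * (g : G)⁻¹ = i (α u)) : h.r g = α :=
  rho_eq h.inj (inclusion h.S_le g) hα

theorem r_t : h.r ⟨t, h.t_mem⟩ = ofRing τ := h.r_eq _ h.act

theorem r_i (u : Heis K) : h.r ⟨i u, h.i_mem u⟩ = MulAut.conj u :=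
  h.r_eq _ (fun v => by rw [MulAut.conj_apply, map_mul, map_mul, map_inv])

omit [Group G] h in
theorem pres_conj (u : Heis K) : Pres (MulAut.conj u : MulAut (Heis K)) := by
  constructor
  · rw [MulAut.conj_apply, mul_b, mul_b, inv_b]; ring
  · rw [MulAut.conj_apply, mul_a, mul_a, inv_a]; ring

omit [Group G] h in
theorem sig_conj (u : Heis K) : sig (MulAut.conj u : MulAut (Heis K)) = 1 := by
  apply sig_eq_of_gam _ _ 1
  intro c
  rw [mul_one]
  apply z_inj
  rw [← map_z, MulAut.conj_apply, ← z_comm]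
  show z c * u * u⁻¹ = z c
  rw [mul_inv_cancel_right]

theorem sig_t : sig (h.r ⟨t, h.t_mem⟩) = τ := by rw [h.r_t, sig_ofRing]

theorem pres_t : Pres (h.r ⟨t, h.t_mem⟩) := by rw [h.r_t]; exact pres_ofRing τ

theorem sig_i (u : Heis K) : sig (h.r ⟨i u, h.i_mem u⟩) = 1 := by rw [h.r_i, sig_conj]

theorem pres_i (u : Heis K) : Pres (h.r ⟨i u, h.i_mem u⟩) := by rw [h.r_i]; exact pres_conj u

variable [CharP K 2]

theorem heis_four (u : Heis K) : u ^ 4 = 1 := by
  have h1 : u * u = z (u.a * u.b) := sq_eq u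
  rw [show 4 = 2 * 2 from rfl, pow_mul, pow_two u, h1, pow_two, z_sq]

theorem isRange : IsPGroup 2 i.range := by
  rintro ⟨_, u, rfl⟩
  refine ⟨2, Subtype.ext ?_⟩
  show i u ^ 2 ^ 2 = 1
  rw [← map_pow, show 2 ^ 2 = 4 from rfl, h.heis_four, map_one]

theorem isS : IsPGroup 2 h.S := h.isRange.to_sup_of_normal_left' h.isT h.norm

/-- kernel of the action on the field and on `{V₁, V₂}` -/
theorem mem_range_of {x : G} (hx : x ∈ h.S) (hs : sig (h.r ⟨x, hx⟩) = 1) (hp : Pres (h.r ⟨x, hx⟩)) :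
    ∃ u, x = i u := by
  obtain ⟨u, f, hf, rfl⟩ := h.mem_S.1 hx
  have e : (⟨i u * f, hx⟩ : h.S) = ⟨i u, h.i_mem u⟩ * ⟨f, h.T_le hf⟩ := rfl
  rw [e, map_mul] at hs hp
  rw [map_mul, h.sig_i, one_mul] at hs
  have hp' : Pres (h.r ⟨f, h.T_le hf⟩) := by
    rcases pres_or_swp (h.r ⟨f, h.T_le hf⟩) with h1 | h1
    · exact h1
    · exact absurd ((h.pres_i u).mul_swp h1) hp.not_swp
  obtain ⟨n, hn⟩ := h.isT ⟨f, hf⟩
  have hn' : h.r ⟨f, h.T_le hf⟩ ^ 2 ^ n = 1 := by
    rw [← map_pow]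
    have : (⟨f, h.T_le hf⟩ : h.S) ^ 2 ^ n = 1 := by
      apply Subtype.ext
      show f ^ 2 ^ n = 1
      exact congrArg Subtype.val hn
    rw [this, map_one]
  obtain ⟨h1, h2, h3⟩ := hp'.trivial hs hn'
  obtain ⟨a, ha, h4 | h4⟩ := h.triv f hf _ (fun u => h.r_spec ⟨f, h.T_le hf⟩ u) h1 h2 h3
  · exact ⟨u * a, by rw [h4, map_mul]⟩
  · exfalso
    apply h.tau_ne
    have e2 : (⟨f, h.T_le hf⟩ : h.S) = ⟨t, h.t_mem⟩ * ⟨i a, h.i_mem a⟩ := Subtype.ext h4
    rw [e2, map_mul, map_mul, h.sig_t, h.sig_i, mul_one] at hs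
    exact hs

theorem mem_t_range_of {x : G} (hx : x ∈ h.S) (hs : sig (h.r ⟨x, hx⟩) = τ) (hp : Pres (h.r ⟨x, hx⟩)) :
    ∃ u, x = t * i u := by
  have h1 : t * x ∈ h.S := mul_mem h.t_mem hx
  have e : (⟨t * x, h1⟩ : h.S) = ⟨t, h.t_mem⟩ * ⟨x, hx⟩ := rfl
  obtain ⟨u, hu⟩ := h.mem_range_of h1 (by rw [e, map_mul, map_mul, h.sig_t, hs, h.tau_sq])
    (by rw [e, map_mul]; exact h.pres_t.mul hp)
  refine ⟨u, ?_⟩
  rw [← hu, ← mul_assoc, h.tt, one_mul]

omit [CharP K 2] in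
theorem t_not_range (u : Heis K) : t ≠ i u := by
  intro h1
  apply h.tau_ne
  have e : (⟨t, h.t_mem⟩ : h.S) = ⟨i u, h.i_mem u⟩ := Subtype.ext h1
  rw [← h.sig_t, e, h.sig_i]

omit [CharP K 2] in
theorem t_inv : t⁻¹ = t := inv_eq_of_mul_eq_one_right h.tt

/-- all involutions of `tÛ` are conjugate -/
theorem conj_of {x : Heis K} (hx : (t * i x) * (t * i x) = 1) : ∃ v, t * i x = i v * t * (i v)⁻¹ := by
  have h1 : ofRing τ x * x = 1 := by
    apply h.inj
    rw [map_mul, map_one, ← h.act, h.t_inv]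
    rw [← hx]; group
  obtain ⟨v, hv⟩ := exists_conj (α := ofRing τ) (by
    ext1 u
    rw [MulAut.mul_apply, ofRing_apply, ofRing_apply]
    apply Heis.ext <;> exact OutField.invol_apply h.tau_sq _) (by rw [sig_ofRing]; exact h.tau_ne) h1
  refine ⟨v, ?_⟩
  rw [← hv, map_mul, ← h.act, map_inv, h.t_inv]
  calc t * (t * i v * t * (i v)⁻¹) = (t * t) * i v * t * (i v)⁻¹ := by group
    _ = _ := by rw [h.tt, one_mul]

variable [Finite K]

theorem card_fix : Nat.card {x : K // τ x = x} = q := by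
  have h1 := OutField.card_fix h.tau_sq h.tau_ne
  rw [h.card, ← sq] at h1
  exact Nat.pow_left_injective (n := 2) (by norm_num) h1

theorem card_E (j : Bool) : Nat.card (E τ j) = q ^ 2 := by
  rw [Nat.card_congr (eEquiv τ j), Nat.card_prod, h.card_fix, sq]

theorem card_fixAll : Nat.card (fixAll (ofRing τ)) = q ^ 3 := by
  rw [Nat.card_congr (fEquiv τ), Nat.card_prod, Nat.card_prod, h.card_fix]; ring

end FC

end Cfsg.Agent.StdRank2.L3F
end

-- part: StdRank2/L3F/Star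
section
/-!
# S1778, type `L3(q)`, part III, field case: the conjugates of `t` in `S`
-/

set_option autoImplicit false

namespace Cfsg.Agent.StdRank2.L3F

open Subgroup Cfsg.Agent.StdL3.Heis Cfsg.Agent.StdL3.HeisTwo

variable {K : Type*} [Field K] {G : Type*} [Group G]

namespace FC

variable {t : G} {T : Subgroup G} {q : ℕ} {i : Heis K →* G} {τ : RingAut K}

variable (h : FC t T q i τ)

include h

/-! ## conjugating into `T` -/

theorem bring {d g : G} (hd : g * t * g⁻¹ = d) (X : Subgroup G) (hX : IsPGroup 2 X)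
    (hc : ∀ x ∈ X, x * d = d * x) : ∃ g', g' * t * g'⁻¹ = d ∧ ∀ x ∈ X, g'⁻¹ * x * g' ∈ T := by
  obtain ⟨c, hct, hcT⟩ := h.conj_T (X.map (MulAut.conj g⁻¹).toMonoidHom) (hX.map _) (by
    rintro _ ⟨x, hx, rfl⟩
    show g⁻¹ * x * g⁻¹⁻¹ * t = t * (g⁻¹ * x * g⁻¹⁻¹)
    have h1 := hc x hx
    rw [← hd] at h1
    calc g⁻¹ * x * g⁻¹⁻¹ * t = g⁻¹ * (x * (g * t * g⁻¹)) * g := by group
      _ = g⁻¹ * ((g * t * g⁻¹) * x) * g := by rw [h1]
      _ = _ := by group)
  refine ⟨g * c⁻¹, ?_, ?_⟩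
  · rw [← hd]
    calc g * c⁻¹ * t * (g * c⁻¹)⁻¹ = g * (c⁻¹ * (t * c)) * g⁻¹ := by group
      _ = g * (c⁻¹ * (c * t)) * g⁻¹ := by rw [hct]
      _ = _ := by group
  · intro x hx
    have h2 := hcT _ (mem_map_of_mem (MulAut.conj g⁻¹).toMonoidHom hx)
    have e : c * (MulAut.conj g⁻¹).toMonoidHom x * c⁻¹ = (g * c⁻¹)⁻¹ * x * (g * c⁻¹) := by
      show c * (g⁻¹ * x * g⁻¹⁻¹) * c⁻¹ = _
      group
    rwa [e] at h2

theorem card_le_of [Finite G] [Finite K] {g' : G} {j : Bool} (X : Subgroup G)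
    (hX : ∀ x ∈ X, ∃ e ∈ E τ j, g'⁻¹ * x * g' = i e ∨ g'⁻¹ * x * g' = t * i e) [CharP K 2] :
    Nat.card X ≤ 2 * q ^ 2 := by
  classical
  have h1 : ∀ x : X, ∃ p : Bool × E τ j, g'⁻¹ * x * g' = (if p.1 then t else 1) * i p.2 := by
    rintro ⟨x, hx⟩
    obtain ⟨e, he, h2 | h2⟩ := hX x hx
    · exact ⟨(false, ⟨e, he⟩), by simpa only [_root_.Bool.false_eq_true, ↓ _root_.reduceIte, _root_.one_mul] using h2⟩
    · exact ⟨(true, ⟨e, he⟩), by simpa only [↓ _root_.reduceIte] using h2⟩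
  choose p hp using h1
  have h2 : Nat.card X ≤ Nat.card (Bool × E τ j) := by
    apply Nat.card_le_card_of_injective p
    intro x y hxy
    have h3 := hp x
    rw [hxy, ← hp y] at h3
    exact Subtype.ext (mul_left_cancel (mul_right_cancel h3))
  rw [Nat.card_prod, h.card_E] at h2
  simpa only [_root_.ge_iff_le, _root_.Nat.card_eq_fintype_card, _root_.Fintype.card_bool] using h2

theorem bring_je [Finite G] [Finite K] [CharP K 2] {d g : G} (hd : g * t * g⁻¹ = d) (X : Subgroup G)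
    (hX : ∀ x ∈ X, x * x = 1) (hc : ∀ x ∈ X, x * d = d * x) (hcard : 2 * q ^ 2 ≤ Nat.card X) :
    ∃ (g' : G) (j : Bool), g' * t * g'⁻¹ = d ∧
      (∀ x ∈ X, ∃ e ∈ E τ j, g'⁻¹ * x * g' = i e ∨ g'⁻¹ * x * g' = t * i e) ∧ Nat.card X ≤ 2 * q ^ 2 := by
  have hX2 : IsPGroup 2 X := by
    rintro ⟨x, hx⟩
    refine ⟨1, Subtype.ext ?_⟩
    show x ^ 2 ^ 1 = 1
    rw [pow_one, pow_two, hX x hx]
  obtain ⟨g', hg', hT⟩ := h.bring hd X hX2 hc
  have hinj : Function.Injective (MulAut.conj g'⁻¹).toMonoidHom := (MulAut.conj g'⁻¹).injective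
  obtain ⟨j, hj⟩ := h.je (X.map (MulAut.conj g'⁻¹).toMonoidHom) (by
    rintro _ ⟨x, hx, rfl⟩
    have h1 := hT x hx
    have e : (MulAut.conj g'⁻¹).toMonoidHom x = g'⁻¹ * x * g' := by
      show g'⁻¹ * x * g'⁻¹⁻¹ = _
      rw [inv_inv]
    rw [e]; exact h1) (by
    rintro _ ⟨x, hx, rfl⟩
    rw [← map_mul, hX x hx, map_one]) (by
    rw [card_map_of_injective hinj]; exact hcard)
  have h2 : ∀ x ∈ X, ∃ e ∈ E τ j, g'⁻¹ * x * g' = i e ∨ g'⁻¹ * x * g' = t * i e := by
    intro x hx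
    obtain ⟨e, he, h3⟩ := hj _ (mem_map_of_mem (MulAut.conj g'⁻¹).toMonoidHom hx)
    have e' : (MulAut.conj g'⁻¹).toMonoidHom x = g'⁻¹ * x * g' := by
      show g'⁻¹ * x * g'⁻¹⁻¹ = _
      rw [inv_inv]
    rw [e'] at h3
    exact ⟨e, he, h3⟩
  exact ⟨g', j, hg', h2, h.card_le_of X h2⟩

theorem sq_conj (g : G) : (g * t * g⁻¹) * (g * t * g⁻¹) = 1 := by
  calc (g * t * g⁻¹) * (g * t * g⁻¹) = g * (t * t) * g⁻¹ := by group
    _ = 1 := by rw [h.tt]; group

/-- no conjugate of `t` lies in `Û` -/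
theorem not_range [Finite G] [Finite K] [CharP K 2] (g : G) (x : Heis K) : g * t * g⁻¹ ≠ i x := by
  intro h1
  have h2 : x * x = 1 := by
    apply h.inj
    rw [map_mul, ← h1, map_one]
    exact h.sq_conj g
  obtain ⟨j, hj⟩ := exists_V h2
  have hcard : Nat.card ((V (K := K) j).map i) = (q ^ 2) ^ 2 := by
    rw [card_map_of_injective h.inj, card_V, h.card]
  have hlt : 2 * q ^ 2 < (q ^ 2) ^ 2 := by
    have hq := h.four_le
    have h5 : 2 < q ^ 2 := by nlinarith only [hq]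
    rw [sq (q ^ 2)]
    exact Nat.mul_lt_mul_of_pos_right h5 (by omega)
  obtain ⟨g', j', -, -, h3⟩ := h.bring_je h1 ((V j).map i) (by
    rintro _ ⟨v, hv, rfl⟩
    rw [← map_mul, V_sq hv, map_one]) (by
    rintro _ ⟨v, hv, rfl⟩
    rw [← map_mul, V_comm hv hj, map_mul]) (by
    rw [hcard]; exact hlt.le)
  rw [hcard] at h3
  omega

/-! ## the map `ψ` -/

variable [CharP K 2]

/-- field part and sign -/
noncomputable def psi : ↥h.S →* RingAut K × ℤˣ := (sig.comp h.r).prod (eps.comp h.r)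

theorem psi_eq_one {x : h.S} : h.psi x = 1 ↔ ∃ u, (x : G) = i u := by
  constructor
  · intro h1
    have h2 : sig (h.r x) = 1 := congrArg Prod.fst h1
    have h3 : eps (h.r x) = 1 := congrArg Prod.snd h1
    exact h.mem_range_of x.2 h2 (eps_eq_one.1 h3)
  · rintro ⟨u, hu⟩
    have e : x = ⟨i u, h.i_mem u⟩ := Subtype.ext hu
    apply Prod.ext
    · show sig (h.r x) = 1
      rw [e, h.sig_i]
    · show eps (h.r x) = 1
      rw [e]
      exact eps_eq_one.2 (h.pres_i u)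

theorem psi_comm [Finite K] (x y : h.S) : h.psi (x * y) = h.psi (y * x) := by
  rw [map_mul, map_mul]
  apply Prod.ext
  · exact OutField.comm _ _
  · exact mul_comm _ _

theorem card_of_cover [Finite G] {C : Subgroup G} (hC : C ≤ h.S) (hcov : ∀ s ∈ h.S, ∃ u, i u * s ∈ C)
    {F : Subgroup (Heis K)} (hF : ∀ u, u ∈ F ↔ i u ∈ C) : Nat.card C = Nat.card F * Nat.card h.psi.range := by
  set f : C →* RingAut K × ℤˣ := h.psi.comp (inclusion hC) with hf
  have h1 := Subgroup.card_mul_index f.ker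
  rw [Subgroup.index_ker] at h1
  rw [← h1]
  congr 1
  · symm
    refine Nat.card_congr (Equiv.ofBijective (fun u : F => ⟨⟨i u.1, (hF _).1 u.2⟩, ?_⟩) ⟨?_, ?_⟩)
    · rw [MonoidHom.mem_ker]
      exact h.psi_eq_one.2 ⟨u.1, rfl⟩
    · intro u v huv
      apply Subtype.ext
      apply h.inj
      exact congrArg (fun w => (w.1.1 : G)) huv
    · rintro ⟨⟨x, hx⟩, hx'⟩
      obtain ⟨u, hu⟩ := h.psi_eq_one.1 (MonoidHom.mem_ker.1 hx')
      have hu' : x = i u := hu
      exact ⟨⟨u, (hF u).2 (hu' ▸ hx)⟩, Subtype.ext (Subtype.ext hu'.symm)⟩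
  · have : f.range = h.psi.range := by
      ext y
      constructor
      · rintro ⟨x, rfl⟩
        exact ⟨_, rfl⟩
      · rintro ⟨⟨s, hs⟩, rfl⟩
        obtain ⟨u, hu⟩ := hcov s hs
        refine ⟨⟨i u * s, hu⟩, ?_⟩
        have e : inclusion hC ⟨i u * s, hu⟩ = ⟨i u, h.i_mem u⟩ * ⟨s, hs⟩ := rfl
        show h.psi (inclusion hC ⟨i u * s, hu⟩) = _
        rw [e, map_mul, h.psi_eq_one.2 ⟨u, rfl⟩, one_mul]
    rw [this]

theorem card_T [Finite G] [Finite K] : Nat.card T = q ^ 3 * Nat.card h.psi.range := by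
  rw [h.card_of_cover h.T_le (F := fixAll (ofRing τ)), h.card_fixAll]
  · intro s hs
    obtain ⟨u, f, hf, rfl⟩ := h.mem_S.1 hs
    refine ⟨u⁻¹, ?_⟩
    rw [map_inv, inv_mul_cancel_left]; exact hf
  · intro u
    rw [mem_fixAll]
    constructor
    · exact h.cent_mem u
    · intro h1
      apply h.inj
      rw [← h.act, ← h.comm_T _ h1, mul_inv_cancel_right]

/-- a conjugate of `t` with nontrivial field part: its centraliser in `S` is a conjugate of `T` -/
theorem exists_conj_T [Finite G] [Finite K] {d g : G} (hd : g * t * g⁻¹ = d) (hS : d ∈ h.S)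
    (hs : sig (h.r ⟨d, hS⟩) ≠ 1) :
    ∃ g', g' * t * g'⁻¹ = d ∧ ∀ y ∈ T, g' * y * g'⁻¹ ∈ h.S := by
  have hdd : d * d = 1 := by rw [← hd]; exact h.sq_conj g
  have hdi : d⁻¹ = d := inv_eq_of_mul_eq_one_right hdd
  set α := h.r ⟨d, hS⟩ with hα
  have hr : ∀ u, d * i u * d⁻¹ = i (α u) := fun u => h.r_spec ⟨d, hS⟩ u
  have hαα : α * α = 1 := by
    rw [hα, ← map_mul]
    have : (⟨d, hS⟩ : h.S) * ⟨d, hS⟩ = 1 := Subtype.ext hdd
    rw [this, map_one]
  set C : Subgroup G := h.S ⊓ centralizer ({d} : Set G) with hC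
  have hCS : C ≤ h.S := inf_le_left
  have hcov : ∀ s ∈ h.S, ∃ u, i u * s ∈ C := by
    intro s hsS
    have h1 : h.psi (⟨d, hS⟩⁻¹ * (⟨s, hsS⟩ * ⟨d, hS⟩ * ⟨s, hsS⟩⁻¹)) = 1 := by
      have e1 : h.psi (⟨s, hsS⟩ * ⟨d, hS⟩ * ⟨s, hsS⟩⁻¹) = h.psi ⟨d, hS⟩ := by
        rw [h.psi_comm, inv_mul_cancel_left]
      rw [map_mul, e1, map_inv, inv_mul_cancel]
    obtain ⟨x, hx⟩ := h.psi_eq_one.1 h1
    have hx' : d⁻¹ * (s * d * s⁻¹) = i x := hx
    have hx2 : s * d * s⁻¹ = d * i x := by rw [← hx']; group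
    have h2 : α x * x = 1 := by
      apply h.inj
      rw [map_mul, map_one, ← hr]
      have h3 : (s * d * s⁻¹) * (s * d * s⁻¹) = 1 := by
        calc (s * d * s⁻¹) * (s * d * s⁻¹) = s * (d * d) * s⁻¹ := by group
          _ = 1 := by rw [hdd]; group
      rw [hx2] at h3
      rw [hdi, ← h3]; group
    obtain ⟨v, hv⟩ := exists_conj hαα hs h2
    have h4 : s * d * s⁻¹ = i v * d * (i v)⁻¹ := by
      rw [hx2, ← hv, map_mul, ← hr, map_inv, hdi]
      calc d * (d * i v * d * (i v)⁻¹) = (d * d) * i v * d * (i v)⁻¹ := by group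
        _ = _ := by rw [hdd, one_mul]
    refine ⟨v⁻¹, ?_⟩
    rw [hC, mem_inf, mem_centralizer_singleton_iff]
    refine ⟨mul_mem (h.i_mem _) hsS, ?_⟩
    rw [map_inv]
    calc (i v)⁻¹ * s * d = (i v)⁻¹ * (s * d * s⁻¹) * s := by group
      _ = (i v)⁻¹ * (i v * d * (i v)⁻¹) * s := by rw [h4]
      _ = d * ((i v)⁻¹ * s) := by group
  have hcard : Nat.card C = Nat.card (fixAll α) * Nat.card h.psi.range := by
    apply h.card_of_cover hCS hcov
    intro u
    rw [mem_fixAll, hC, mem_inf, mem_centralizer_singleton_iff]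
    constructor
    · intro h1
      refine ⟨h.i_mem u, ?_⟩
      have h2 := hr u
      rw [h1] at h2
      calc i u * d = (d * i u * d⁻¹) * d := by rw [h2]
        _ = d * i u := by group
    · rintro ⟨-, h2⟩
      apply h.inj
      rw [← hr, ← h2, mul_inv_cancel_right]
  have hle : Nat.card T ≤ Nat.card C := by
    rw [h.card_T, hcard]
    exact Nat.mul_le_mul_right _ (L3F.card_fixAll hαα hs h.card).2
  obtain ⟨g', hg', hT⟩ := h.bring hd C (h.isS.to_le hCS) (fun x hx => by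
    rw [hC, mem_inf, mem_centralizer_singleton_iff] at hx
    exact hx.2)
  refine ⟨g', hg', ?_⟩
  have hinj : Function.Injective (fun x : C => (⟨g'⁻¹ * x * g', hT x x.2⟩ : T)) := by
    intro x y hxy
    have := congrArg Subtype.val hxy
    exact Subtype.ext (mul_left_cancel (mul_right_cancel this))
  have hsurj : Function.Surjective (fun x : C => (⟨g'⁻¹ * x * g', hT x x.2⟩ : T)) := by
    have h5 : Nat.card C = Nat.card T := le_antisymm (Nat.card_le_card_of_injective _ hinj) hle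
    exact ((Nat.bijective_iff_injective_and_card _).2 ⟨hinj, h5⟩).2
  intro y hy
  obtain ⟨x, hx⟩ := hsurj ⟨y, hy⟩
  have hx' : g'⁻¹ * x * g' = y := congrArg Subtype.val hx
  rw [← hx']
  have e : g' * (g'⁻¹ * (x : G) * g') * g'⁻¹ = x := by group
  rw [e]
  exact hCS x.2

/-- `⟨t⟩ E_j` -/
def FE (j : Bool) : Subgroup G where
  carrier := {y | ∃ e ∈ E τ j, y = i e ∨ y = t * i e}
  one_mem' := ⟨1, one_mem _, Or.inl (map_one i).symm⟩
  mul_mem' := by
    rintro x y ⟨e, he, h1⟩ ⟨e', he', h2⟩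
    have hc : i e * t = t * i e := by
      have h3 := h.act e
      rw [(mem_E.1 he).2] at h3
      calc i e * t = (t * i e * t⁻¹) * t := by rw [h3]
        _ = _ := by group
    rcases h1 with rfl | rfl <;> rcases h2 with rfl | rfl
    · exact ⟨e * e', mul_mem he he', Or.inl (map_mul i _ _).symm⟩
    · refine ⟨e * e', mul_mem he he', Or.inr ?_⟩
      rw [map_mul, ← mul_assoc, hc, mul_assoc]
    · refine ⟨e * e', mul_mem he he', Or.inr ?_⟩
      rw [map_mul, mul_assoc]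
    · refine ⟨e * e', mul_mem he he', Or.inl ?_⟩
      rw [map_mul]
      calc t * i e * (t * i e') = t * (i e * t) * i e' := by group
        _ = (t * t) * i e * i e' := by rw [hc]; group
        _ = _ := by rw [h.tt, one_mul]
  inv_mem' := by
    rintro x ⟨e, he, h1⟩
    have hc : i e * t = t * i e := by
      have h3 := h.act e
      rw [(mem_E.1 he).2] at h3
      calc i e * t = (t * i e * t⁻¹) * t := by rw [h3]
        _ = _ := by group
    rcases h1 with rfl | rfl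
    · exact ⟨e⁻¹, inv_mem he, Or.inl (map_inv i _).symm⟩
    · refine ⟨e⁻¹, inv_mem he, Or.inr ?_⟩
      rw [← hc, mul_inv_rev, map_inv, h.t_inv]

theorem FE_le (j : Bool) : h.FE j ≤ T := by
  rintro y ⟨e, he, rfl | rfl⟩
  · exact h.cent_mem e (mem_E.1 he).2
  · exact mul_mem h.mem_T (h.cent_mem e (mem_E.1 he).2)

theorem FE_sq {j : Bool} {y : G} (hy : y ∈ h.FE j) : y * y = 1 := by
  have hc := fun (e : Heis K) (he : e ∈ E τ j) => h.comm_T (i e) (h.cent_mem e (mem_E.1 he).2)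
  obtain ⟨e, he, rfl | rfl⟩ := hy
  · rw [← map_mul, V_sq (mem_E.1 he).1, map_one]
  · calc t * i e * (t * i e) = t * (i e * t) * i e := by group
      _ = (t * t) * (i e * i e) := by rw [hc e he]; group
      _ = 1 := by rw [h.tt, ← map_mul, V_sq (mem_E.1 he).1, map_one, one_mul]

theorem card_FE [Finite G] [Finite K] (j : Bool) : 2 * q ^ 2 ≤ Nat.card (h.FE j) := by
  classical
  have h1 : Nat.card (Bool × E τ j) ≤ Nat.card (h.FE j) := by
    apply Nat.card_le_card_of_injective (fun p : Bool × E τ j => (⟨(if p.1 then t else 1) * i p.2, by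
      obtain ⟨b, e⟩ := p
      cases b
      · exact ⟨e, e.2, Or.inl (by simp)⟩
      · exact ⟨e, e.2, Or.inr (by simp)⟩⟩ : h.FE j))
    rintro ⟨b, e⟩ ⟨b', e'⟩ hh
    have h2 := congrArg Subtype.val hh
    cases b <;> cases b' <;> simp only [if_true, one_mul, Bool.false_eq_true, if_false] at h2
    · rw [Subtype.ext (h.inj h2)]
    · exfalso
      apply h.t_not_range (e.1 * e'.1⁻¹)
      rw [map_mul, map_inv, h2, mul_inv_cancel_right]
    · exfalso
      apply h.t_not_range (e'.1 * e.1⁻¹)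
      rw [map_mul, map_inv, ← h2, mul_inv_cancel_right]
    · rw [Subtype.ext (h.inj (mul_left_cancel h2))]
  rw [Nat.card_prod, h.card_E] at h1
  simpa only [_root_.ge_iff_le, _root_.Nat.card_eq_fintype_card, _root_.Fintype.card_bool] using h1

/-- **Case C** : no conjugate of `t` in `S` swaps `V₁`, `V₂` and has a nontrivial field part. -/
theorem case_c [Finite G] [Finite K] {d g : G} (hd : g * t * g⁻¹ = d) (hS : d ∈ h.S)
    (hs : sig (h.r ⟨d, hS⟩) ≠ 1) (hsw : Swp (h.r ⟨d, hS⟩)) : False := by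
  classical
  have hdd : d * d = 1 := by rw [← hd]; exact h.sq_conj g
  set α := h.r ⟨d, hS⟩ with hα
  have hr : ∀ u, d * i u * d⁻¹ = i (α u) := fun u => h.r_spec ⟨d, hS⟩ u
  have hαα : α * α = 1 := by
    rw [hα, ← map_mul]
    have : (⟨d, hS⟩ : h.S) * ⟨d, hS⟩ = 1 := Subtype.ext hdd
    rw [this, map_one]
  obtain ⟨g', hg', hT⟩ := h.exists_conj_T hd hS hs
  set X : Subgroup G := (h.FE false).map (MulAut.conj g').toMonoidHom with hX
  have hXmem : ∀ x ∈ X, ∃ y ∈ h.FE false, x = g' * y * g'⁻¹ := by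
    rintro _ ⟨y, hy, rfl⟩
    exact ⟨y, hy, rfl⟩
  have hXS : X ≤ h.S := by
    intro x hx
    obtain ⟨y, hy, rfl⟩ := hXmem x hx
    exact hT y (h.FE_le false hy)
  have hXsq : ∀ x ∈ X, x * x = 1 := by
    intro x hx
    obtain ⟨y, hy, rfl⟩ := hXmem x hx
    calc g' * y * g'⁻¹ * (g' * y * g'⁻¹) = g' * (y * y) * g'⁻¹ := by group
      _ = 1 := by rw [h.FE_sq hy]; group
  have hXd : ∀ x ∈ X, x * d = d * x := by
    intro x hx
    obtain ⟨y, hy, rfl⟩ := hXmem x hx
    rw [← hg']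
    calc g' * y * g'⁻¹ * (g' * t * g'⁻¹) = g' * (y * t) * g'⁻¹ := by group
      _ = g' * (t * y) * g'⁻¹ := by rw [h.comm_T y (h.FE_le false hy)]
      _ = _ := by group
  have hXcard : 2 * q ^ 2 ≤ Nat.card X := by
    rw [hX, card_map_of_injective (MulAut.conj g').injective]
    exact h.card_FE false
  set f : X →* RingAut K × ℤˣ := h.psi.comp (inclusion hXS) with hf
  have h1 := Subgroup.card_mul_index f.ker
  rw [Subgroup.index_ker] at h1
  have h2 : Nat.card f.range ≤ 4 := by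
    have h3 : Nat.card f.range ≤ Nat.card (Bool × Bool) := by
      have hval : ∀ y : f.range, (y.1.1 = 1 ∨ y.1.1 = τ) ∧ (y.1.2 = 1 ∨ y.1.2 = -1) := by
        rintro ⟨_, x, rfl⟩
        have h4 : f x * f x = 1 := by
          rw [← map_mul]
          have : x * x = 1 := Subtype.ext (hXsq x x.2)
          rw [this, map_one]
        refine ⟨?_, Int.units_eq_one_or _⟩
        by_cases h5 : (f x).1 = 1
        · exact Or.inl h5
        · exact Or.inr (OutField.unique_invol (congrArg Prod.fst h4) h.tau_sq h5 h.tau_ne)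
      apply Nat.card_le_card_of_injective (fun y : f.range => (decide (y.1.1 = 1), decide (y.1.2 = 1)))
      intro y y' hyy
      rw [Prod.mk.injEq, decide_eq_decide, decide_eq_decide] at hyy
      obtain ⟨h6, h7⟩ := hval y
      obtain ⟨h8, h9⟩ := hval y'
      apply Subtype.ext
      apply Prod.ext
      · by_cases h10 : y.1.1 = 1
        · rw [h10, hyy.1.1 h10]
        · have h11 : y'.1.1 ≠ 1 := fun h12 => h10 (hyy.1.2 h12)
          rw [h6.resolve_left h10, h8.resolve_left h11]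
      · by_cases h10 : y.1.2 = 1
        · rw [h10, hyy.2.1 h10]
        · have h11 : y'.1.2 ≠ 1 := fun h12 => h10 (hyy.2.2 h12)
          rw [h7.resolve_left h10, h9.resolve_left h11]
    simpa only [Nat.card_prod, _root_.MonoidHom.mem_range, _root_.Subtype.exists, _root_.ge_iff_le, _root_.Nat.card_eq_fintype_card, _root_.Fintype.card_prod, _root_.Fintype.card_bool, _root_.Nat.reduceMul] using h3
  have h3 : Nat.card f.ker ≤ q := by
    rw [← (L3F.card_fixAll hαα hs h.card).1]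
    have h4 : ∀ x : f.ker, ∃ c : fixJ α, (x.1.1 : G) = i (z c.1) := by
      rintro ⟨⟨x, hx⟩, hx'⟩
      obtain ⟨u, hu⟩ := h.psi_eq_one.1 (MonoidHom.mem_ker.1 hx')
      have hu' : x = i u := hu
      have hu2 : u * u = 1 := by
        apply h.inj
        rw [map_mul, ← hu', hXsq x hx, map_one]
      have hfix : α u = u := by
        apply h.inj
        rw [← hr, ← hu', ← hXd x hx, mul_inv_cancel_right]
      obtain ⟨c, rfl⟩ := mem_J_iff_exists.1 (hsw.mem_J hu2 hfix)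
      exact ⟨⟨c, mem_fixJ_iff.2 hfix⟩, hu'⟩
    choose c hc using h4
    apply Nat.card_le_card_of_injective c
    intro x y hxy
    apply Subtype.ext
    apply Subtype.ext
    rw [hc x, hxy, ← hc y]
  have hq := h.four_le
  have h4 : Nat.card X ≤ q * 4 := by
    rw [← h1]
    exact Nat.mul_le_mul h3 h2
  nlinarith only [hXcard, hq, h4]

/-- **Case D** : no conjugate of `t` in `S` swaps `V₁`, `V₂` and has a trivial field part. -/
theorem case_d [Finite G] [Finite K] {d g : G} (hd : g * t * g⁻¹ = d) (hS : d ∈ h.S)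
    (hs : sig (h.r ⟨d, hS⟩) = 1) (hsw : Swp (h.r ⟨d, hS⟩)) : False := by
  classical
  have hdd : d * d = 1 := by rw [← hd]; exact h.sq_conj g
  have hdi : d⁻¹ = d := inv_eq_of_mul_eq_one_right hdd
  set α := h.r ⟨d, hS⟩ with hα
  have hr : ∀ u, d * i u * d⁻¹ = i (α u) := fun u => h.r_spec ⟨d, hS⟩ u
  have hαα : α * α = 1 := by
    rw [hα, ← map_mul]
    have : (⟨d, hS⟩ : h.S) * ⟨d, hS⟩ = 1 := Subtype.ext hdd
    rw [this, map_one]
  obtain ⟨m, n, hmn, hαa, hαb, hαc⟩ := hsw.of_sig_one hαα hs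
  have hm : m ≠ 0 := left_ne_zero_of_mul_eq_one hmn
  have hdz : ∀ c, i (z c) * d = d * i (z c) := by
    intro c
    have h1 := hr (z c)
    rw [map_z, hαc] at h1
    calc i (z c) * d = (d * i (z c) * d⁻¹) * d := by rw [h1]
      _ = _ := by group
  -- the group `J⟨d⟩`
  let X : Subgroup G :=
    { carrier := {y | ∃ c, y = i (z c) ∨ y = d * i (z c)}
      one_mem' := ⟨0, Or.inl (by rw [z_zero, map_one])⟩
      mul_mem' := by
        rintro x y ⟨c, h1⟩ ⟨c', h2⟩
        have h3 : i (z c) * i (z c') = i (z (c + c')) := by rw [← map_mul, z_mul]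
        rcases h1 with rfl | rfl <;> rcases h2 with rfl | rfl
        · exact ⟨c + c', Or.inl h3⟩
        · exact ⟨c + c', Or.inr (by rw [← mul_assoc, hdz, mul_assoc, h3])⟩
        · exact ⟨c + c', Or.inr (by rw [mul_assoc, h3])⟩
        · refine ⟨c + c', Or.inl ?_⟩
          calc d * i (z c) * (d * i (z c')) = d * (i (z c) * d) * i (z c') := by group
            _ = (d * d) * (i (z c) * i (z c')) := by rw [hdz]; group
            _ = _ := by rw [hdd, one_mul, h3]
      inv_mem' := by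
        rintro x ⟨c, h1⟩
        rcases h1 with rfl | rfl
        · exact ⟨-c, Or.inl (by rw [← map_inv, z_inv])⟩
        · refine ⟨-c, Or.inr ?_⟩
          rw [← hdz, mul_inv_rev, ← map_inv, z_inv, hdi] }
  have hXmem : ∀ {x : G}, x ∈ X ↔ ∃ c, x = i (z c) ∨ x = d * i (z c) := fun {x} => Iff.rfl
  have hXd : ∀ x ∈ X, x * d = d * x := by
    rintro x ⟨c, rfl | rfl⟩
    · exact hdz c
    · rw [mul_assoc, hdz]
  have hXsq : ∀ x ∈ X, x * x = 1 := by
    rintro x ⟨c, rfl | rfl⟩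
    · rw [← map_mul, z_sq, map_one]
    · calc d * i (z c) * (d * i (z c)) = d * (i (z c) * d) * i (z c) := by group
        _ = (d * d) * (i (z c) * i (z c)) := by rw [hdz]; group
        _ = 1 := by rw [hdd, ← map_mul, z_sq, map_one, one_mul]
  have hdnot : ∀ u, d ≠ i u := fun u => hd ▸ h.not_range g u
  have hXcard : 2 * q ^ 2 ≤ Nat.card X := by
    have h1 : Nat.card (Bool × K) ≤ Nat.card X := by
      apply Nat.card_le_card_of_injective (fun p : Bool × K => (⟨(if p.1 then d else 1) * i (z p.2), by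
        obtain ⟨b, c⟩ := p
        cases b
        · exact ⟨c, Or.inl (by simp)⟩
        · exact ⟨c, Or.inr (by simp)⟩⟩ : X))
      rintro ⟨b, e⟩ ⟨b', e'⟩ hh
      have h2 := congrArg Subtype.val hh
      cases b <;> cases b' <;> simp only [if_true, one_mul, Bool.false_eq_true, if_false] at h2
      · rw [z_inj (h.inj h2)]
      · exfalso
        apply hdnot (z e * (z e')⁻¹)
        rw [map_mul, map_inv, h2, mul_inv_cancel_right]
      · exfalso
        apply hdnot (z e' * (z e)⁻¹)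
        rw [map_mul, map_inv, ← h2, mul_inv_cancel_right]
      · rw [z_inj (h.inj (mul_left_cancel h2))]
    rw [Nat.card_prod, h.card] at h1
    simpa only [_root_.ge_iff_le, _root_.Nat.card_eq_fintype_card, _root_.Fintype.card_bool] using h1
  obtain ⟨g', j, hg', hX, -⟩ := h.bring_je hd X hXsq hXd hXcard
  -- `J` is mapped onto `E j`
  have hJ : ∀ c, ∃ e : E τ j, g'⁻¹ * i (z c) * g' = i e := by
    intro c
    obtain ⟨e, he, h1 | h1⟩ := hX (i (z c)) ⟨c, Or.inl rfl⟩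
    · exact ⟨⟨e, he⟩, h1⟩
    · exfalso
      have h2 : (t * i e) * (t * i e) = 1 := by
        rw [← h1]
        calc g'⁻¹ * i (z c) * g' * (g'⁻¹ * i (z c) * g') = g'⁻¹ * (i (z c) * i (z c)) * g' := by group
          _ = 1 := by rw [← map_mul, z_sq, map_one]; group
      obtain ⟨v, hv⟩ := h.conj_of h2
      apply h.not_range (g' * i v) (z c)
      calc g' * i v * t * (g' * i v)⁻¹ = g' * (i v * t * (i v)⁻¹) * g'⁻¹ := by group
        _ = g' * (g'⁻¹ * i (z c) * g') * g'⁻¹ := by rw [← hv, ← h1]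
        _ = i (z c) := by group
  choose ej hej using hJ
  have hejs : Function.Surjective ej := by
    have hinj : Function.Injective ej := by
      intro c c' hcc
      have h1 := hej c
      rw [hcc, ← hej c'] at h1
      exact z_inj (h.inj (mul_left_cancel (mul_right_cancel h1)))
    exact ((Nat.bijective_iff_injective_and_card _).2 ⟨hinj, by rw [h.card, h.card_E]⟩).2
  -- the elements centralising `d` modulo `J`
  have key : ∀ b : K, b ≠ 0 → ∃ v ∈ V (K := K) j, g'⁻¹ * i ⟨m * b, b, 0⟩ * g' = t * i v := by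
    intro b hb
    set u : Heis K := ⟨m * b, b, 0⟩ with hu
    set x' : G := g'⁻¹ * i u * g' with hx'
    have hαu : α u * u⁻¹ ∈ J K := by
      rw [mem_J, mul_a, mul_b, hαa, hαb, inv_a, inv_b]
      constructor
      · rw [hu]; ring
      · rw [hu]
        linear_combination b * hmn
    obtain ⟨c', hc'⟩ := mem_J_iff_exists.1 hαu
    -- `x'` centralises `E j`
    have hxE : ∀ e ∈ E τ j, x' * i e = i e * x' := by
      intro e he
      obtain ⟨c, hc⟩ := hejs ⟨e, he⟩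
      have h1 := hej c
      rw [hc] at h1
      rw [← h1, hx']
      calc g'⁻¹ * i u * g' * (g'⁻¹ * i (z c) * g') = g'⁻¹ * (i u * i (z c)) * g' := by group
        _ = g'⁻¹ * (i (z c) * i u) * g' := by rw [← map_mul, ← map_mul, z_comm]
        _ = _ := by group
    -- the commutator with `t`
    have hxt : x' * t * x'⁻¹ = t * i (ej c') := by
      have h1 : i u * d * (i u)⁻¹ = d * i (z c') := by
        rw [← hc', map_mul, ← hr, map_inv, hdi]
        calc i u * d * (i u)⁻¹ = 1 * i u * d * (i u)⁻¹ := by rw [one_mul]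
          _ = (d * d) * i u * d * (i u)⁻¹ := by rw [hdd]
          _ = _ := by group
      have h2 : t = g'⁻¹ * d * g' := by rw [← hg']; group
      rw [← hej c', hx']
      conv_lhs => rw [h2]
      conv_rhs => rw [h2]
      calc g'⁻¹ * i u * g' * (g'⁻¹ * d * g') * (g'⁻¹ * i u * g')⁻¹ = g'⁻¹ * (i u * d * (i u)⁻¹) * g' := by group
        _ = g'⁻¹ * (d * i (z c')) * g' := by rw [h1]
        _ = _ := by group
    -- an element of `V j` with the same commutator
    have hw : ∃ w ∈ V (K := K) j, ofRing τ w * w⁻¹ = ej c' := by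
      obtain ⟨r, hr1⟩ := OutField.exists_trace h.tau_sq h.tau_ne (map_one τ)
      have h0 := (ej c').2
      rw [mem_E, ofRing_eq_iff] at h0
      obtain ⟨h1, h2, h3, h4⟩ := h0
      have hsum : ∀ y : K, τ y = y → τ (r * y) + -(r * y) = y := by
        intro y hy
        rw [map_mul, hy]
        have e : τ r * y + -(r * y) = (r + τ r) * y - 2 * (r * y) := by ring
        rw [e, hr1, one_mul, CharTwo.two_eq_zero, zero_mul, sub_zero]
      cases j
      · have hb0 := mem_V_false.1 h1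
        refine ⟨⟨r * (ej c').1.a, 0, r * (ej c').1.c⟩, mem_V_false.2 rfl, ?_⟩
        ext
        · rw [mul_a, inv_a, ofRing_apply]; exact hsum _ h2
        · rw [mul_b, inv_b, ofRing_apply, hb0]; simp
        · rw [mul_c, inv_c, inv_b, ofRing_apply]
          simp only [neg_zero, mul_zero, add_zero]
          exact hsum _ h4
      · have ha0 := mem_V_true.1 h1
        refine ⟨⟨0, r * (ej c').1.b, r * (ej c').1.c⟩, mem_V_true.2 rfl, ?_⟩
        ext
        · rw [mul_a, inv_a, ofRing_apply, ha0]; simp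
        · rw [mul_b, inv_b, ofRing_apply]; exact hsum _ h3
        · rw [mul_c, inv_c, inv_b, ofRing_apply]
          simp only [map_zero, zero_mul, add_zero]
          exact hsum _ h4
    obtain ⟨w, hwV, hw⟩ := hw
    have hwt : i w * t * (i w)⁻¹ = t * i (ej c') := by
      rw [← hw, map_mul, ← h.act, map_inv, h.t_inv]
      calc i w * t * (i w)⁻¹ = 1 * i w * t * (i w)⁻¹ := by rw [one_mul]
        _ = (t * t) * i w * t * (i w)⁻¹ := by rw [h.tt]
        _ = _ := by group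
    have hcomm : ((i w)⁻¹ * x') * t = t * ((i w)⁻¹ * x') := by
      have h1 : x' * t * x'⁻¹ = i w * t * (i w)⁻¹ := hxt.trans hwt.symm
      calc ((i w)⁻¹ * x') * t = (i w)⁻¹ * (x' * t * x'⁻¹) * x' := by group
        _ = (i w)⁻¹ * (i w * t * (i w)⁻¹) * x' := by rw [h1]
        _ = _ := by group
    obtain ⟨o, a, ha, hodd, hot, hoV, hx⟩ := h.cent j ((i w)⁻¹ * x') hcomm (by
      intro e he
      have h1 : (i w)⁻¹ * i e = i e * (i w)⁻¹ := by
        rw [← map_inv, ← map_mul, ← map_mul, V_comm (inv_mem hwV) (mem_E.1 he).1]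
      rw [mul_assoc, hxE e he, ← mul_assoc, h1, mul_assoc])
    -- `x' = o y`
    have hx2 : ∃ v ∈ V (K := K) j, x' = o * i v ∨ x' = o * (t * i v) := by
      have haV := (mem_E.1 ha).1
      rcases hx with hx | hx
      · refine ⟨w * a, mul_mem hwV haV, Or.inl ?_⟩
        have h1 : x' = i w * (o * i a) := by rw [← hx]; group
        rw [h1, map_mul, ← mul_assoc, ← hoV w hwV]; group
      · refine ⟨ofRing τ w * a, mul_mem (ofRing_mem_V hwV) haV, Or.inr ?_⟩
        have h1 : x' = i w * (o * (t * i a)) := by rw [← hx]; group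
        rw [h1, map_mul, ← h.act]
        calc i w * (o * (t * i a)) = (i w * o) * (t * i a) := by group
          _ = (o * i w) * (t * i a) := by rw [hoV w hwV]
          _ = o * (t * (t * i w * t⁻¹ * i a)) := by
            have h2 : t * (t * i w * t⁻¹ * i a) = (t * t) * i w * (t⁻¹ * i a) := by group
            rw [h2, h.tt, one_mul, h.t_inv]; group
    obtain ⟨v, hvV, hx3⟩ := hx2
    have hx4 : x' ^ 4 = 1 := by
      have h1 : x' ^ 4 = g'⁻¹ * i u ^ 4 * g' := by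
        rw [hx']
        have := conj_pow (i := 4) (a := g'⁻¹) (b := i u)
        rw [inv_inv] at this
        exact this
      rw [h1, ← map_pow, h.heis_four, map_one]; group
    have hvt : (t * i v) * (t * i v) = i (ofRing τ v * v) := by
      rw [map_mul, ← h.act, h.t_inv]; group
    have ho1 : o = 1 := by
      have hy : ∃ y : G, x' = o * y ∧ y ^ 4 = 1 ∧ Commute o y := by
        rcases hx3 with hx3 | hx3
        · exact ⟨i v, hx3, by rw [← map_pow, h.heis_four, map_one], hoV v hvV⟩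
        · refine ⟨t * i v, hx3, ?_, ?_⟩
          · have h1 : (t * i v) ^ 4 = ((t * i v) * (t * i v)) * ((t * i v) * (t * i v)) := by
              rw [show 4 = 2 * 2 from rfl, pow_mul, pow_two (t * i v), pow_two]
            rw [h1, hvt, ← map_mul, V_sq (mul_mem (ofRing_mem_V hvV) hvV), map_one]
          · exact (show Commute o t from hot).mul_right (hoV v hvV)
      obtain ⟨y, h1, h2, h3⟩ := hy
      have h4 : o ^ 4 = 1 := by
        rw [h1, h3.mul_pow, h2, mul_one] at hx4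
        exact hx4
      have h5 : orderOf o ∣ 2 ^ 2 := orderOf_dvd_of_pow_eq_one h4
      have h6 : Nat.Coprime (orderOf o) (2 ^ 2) := (Nat.coprime_pow_right_iff (by norm_num) _ _).2
        (Nat.coprime_two_right.2 hodd)
      exact orderOf_eq_one_iff.1 (Nat.Coprime.eq_one_of_dvd h6 h5)
    refine ⟨v, hvV, ?_⟩
    rcases hx3 with hx3 | hx3
    · exfalso
      rw [ho1, one_mul] at hx3
      have h1 : u * u = 1 := by
        apply h.inj
        rw [map_mul, map_one]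
        have h2 : x' * x' = 1 := by rw [hx3, ← map_mul, V_sq hvV, map_one]
        have h3 : x' * x' = g'⁻¹ * (i u * i u) * g' := by rw [hx']; group
        rw [h3] at h2
        calc i u * i u = g' * (g'⁻¹ * (i u * i u) * g') * g'⁻¹ := by group
          _ = 1 := by rw [h2]; group
      rw [Cfsg.Agent.StdL3.HeisTwo.sq_eq_one_iff, hu] at h1
      simp only [mul_eq_zero] at h1
      rcases h1 with (h1 | h1) | h1
      · exact hm h1
      · exact hb h1
      · exact hb h1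
    · rw [hx3, ho1, one_mul]
  -- two such elements
  obtain ⟨b, hb0, hb1⟩ : ∃ b : K, b ≠ 0 ∧ b ≠ 1 := by
    by_contra hcon
    push Not at hcon
    have h1 : Nat.card K ≤ 2 := by
      have : Nat.card K ≤ Nat.card Bool := by
        apply Nat.card_le_card_of_injective (fun x : K => decide (x = 0))
        intro x y hxy
        rw [decide_eq_decide] at hxy
        by_cases hx : x = 0
        · rw [hx, hxy.1 hx]
        · have hy : y ≠ 0 := fun h => hx (hxy.2 h)
          rw [hcon x hx, hcon y hy]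
      simpa only [_root_.ge_iff_le, _root_.Nat.card_eq_fintype_card, _root_.Fintype.card_bool] using this
    rw [h.card] at h1
    have := h.four_le
    nlinarith only [h1, this]
  obtain ⟨v1, hv1, h1⟩ := key 1 one_ne_zero
  obtain ⟨v2, hv2, h2⟩ := key b hb0
  set u1 : Heis K := ⟨m * 1, 1, 0⟩ with hu1
  set u2 : Heis K := ⟨m * b, b, 0⟩ with hu2
  have h3 : g'⁻¹ * i (u1 * u2) * g' = i (ofRing τ v1 * v2) := by
    rw [map_mul, map_mul, ← h.act, h.t_inv]
    calc g'⁻¹ * (i u1 * i u2) * g' = (g'⁻¹ * i u1 * g') * (g'⁻¹ * i u2 * g') := by group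
      _ = (t * i v1) * (t * i v2) := by rw [h1, h2]
      _ = _ := by group
  have h4 : (u1 * u2) * (u1 * u2) = 1 := by
    apply h.inj
    rw [map_one, map_mul i (u1 * u2)]
    have h5 : (g'⁻¹ * i (u1 * u2) * g') * (g'⁻¹ * i (u1 * u2) * g') = 1 := by
      rw [h3, ← map_mul, V_sq (mul_mem (ofRing_mem_V hv1) hv2), map_one]
    calc i (u1 * u2) * i (u1 * u2) =
        g' * ((g'⁻¹ * i (u1 * u2) * g') * (g'⁻¹ * i (u1 * u2) * g')) * g'⁻¹ := by group
      _ = 1 := by rw [h5]; group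
  rw [Cfsg.Agent.StdL3.HeisTwo.sq_eq_one_iff, mul_a, mul_b, hu1, hu2] at h4
  have h5 : m * ((1 + b) * (1 + b)) = 0 := by
    rw [← h4]; ring
  rcases mul_eq_zero.1 h5 with h6 | h6
  · exact hm h6
  · have h7 := mul_self_eq_zero.1 h6
    exact hb1 (CharTwo.add_eq_zero.1 h7).symm

/-- **(★)** -/
theorem star [Finite G] [Finite K] (g : G) (hg : g * t * g⁻¹ ∈ h.S) :
    ∃ x ∈ i.range, g * t * g⁻¹ = x * t * x⁻¹ := by
  obtain ⟨d, hd⟩ : ∃ d, g * t * g⁻¹ = d := ⟨_, rfl⟩
  rw [hd] at hg ⊢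
  have hdd : d * d = 1 := by rw [← hd]; exact h.sq_conj g
  have hss : sig (h.r ⟨d, hg⟩) * sig (h.r ⟨d, hg⟩) = 1 := by
    rw [← map_mul, ← map_mul]
    have : (⟨d, hg⟩ : h.S) * ⟨d, hg⟩ = 1 := Subtype.ext hdd
    rw [this, map_one, map_one]
  by_cases hs : sig (h.r ⟨d, hg⟩) = 1
  · rcases pres_or_swp (h.r ⟨d, hg⟩) with hp | hp
    · obtain ⟨u, hu⟩ := h.mem_range_of hg hs hp
      exact absurd (hd.trans hu) (h.not_range g u)
    · exact (h.case_d hd hg hs hp).elim
  · rcases pres_or_swp (h.r ⟨d, hg⟩) with hp | hp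
    · have hs' := OutField.unique_invol hss h.tau_sq hs h.tau_ne
      obtain ⟨u, hu⟩ := h.mem_t_range_of hg hs' hp
      rw [hu] at hdd
      obtain ⟨v, hv⟩ := h.conj_of hdd
      exact ⟨i v, ⟨v, rfl⟩, by rw [hu, hv]⟩
    · exact (h.case_c hd hg hs hp).elim

end FC

end Cfsg.Agent.StdRank2.L3F
end

-- part: StdRank2/L3F/Main
section
/-!
# S1778, type `L3(q)`, part III, field case: `t ∉ L` and `Û` is a Sylow 2-subgroup of `L`
-/

set_option autoImplicit false

namespace Cfsg.Agent.StdRank2.L3F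

open Subgroup Cfsg.Agent.StdL3.Heis Cfsg.Agent.StdL3.HeisTwo

variable {K : Type*} [Field K] {G : Type*} [Group G]

/-- `RingAut K` is commutative. -/
@[reducible] noncomputable def commRingAut (K : Type*) [Field K] [Finite K] [CharP K 2] : CommGroup (RingAut K) :=
  { (inferInstance : Group (RingAut K)) with mul_comm := OutField.comm }

/-- The field case with the group `L`. -/
structure FE (t : G) (T : Subgroup G) (q : ℕ) (i : Heis K →* G) (τ : RingAut K) (L : Subgroup G) : Prop extends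
    FC t T q i τ where
  le_L : i.range ≤ L
  fus : ∀ y : G, y * t = t * y → ∀ f ∈ T, y * f * y⁻¹ ∈ i.range → f ∈ i.range
  lift : ∀ f ∈ T, f * f ∈ i.range → ∃ u, ofRing τ u = u ∧
    ((i u * f) * (i u * f) = 1 ∨ (i u * f) * (i u * f) = t)

namespace FC

variable {t : G} {T : Subgroup G} {q : ℕ} {i : Heis K →* G} {τ : RingAut K}
variable [Finite G] [Finite K] [CharP K 2] (h : FC t T q i τ)

include h

/-- **(K1)** -/
theorem exists_sylow : ∃ P : Sylow 2 G, (P : Subgroup G) = h.S := by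
  refine Cfsg.Agent.StdEven.OuterKill.exists_sylow h.isS h.le_S h.t_mem h.star ?_
  intro Q hQ hQt hSQ
  have hTQ : T ≤ Q := fun x hx => hSQ x (h.T_le hx) (h.comm_T x hx)
  obtain ⟨c, hct, hc⟩ := h.conj_T Q hQ hQt
  have h1 : Nat.card Q ≤ Nat.card T := by
    apply Nat.card_le_card_of_injective (fun x : Q => (⟨c * x * c⁻¹, hc x x.2⟩ : T))
    intro x y hxy
    have := congrArg Subtype.val hxy
    exact Subtype.ext (mul_left_cancel (mul_right_cancel this))
  have h2 : T = Q := eq_of_le_of_card_ge hTQ h1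
  rw [← h2]
  exact h.T_le

/-- **(K2)** -/
theorem t_not_mem {L : Subgroup G} (hL : _root_.commutator L = ⊤) : t ∉ L := by
  obtain ⟨P, hP⟩ := h.exists_sylow
  letI := commRingAut K
  have htP : t ∈ (P : Subgroup G) := by rw [hP]; exact h.t_mem
  refine Cfsg.Agent.StdEven.OuterKill.not_mem (P := P) (T := i.range) (hP ▸ h.le_S) h.tt htP
    (fun g hg => h.star g (hP ▸ hg)) hL ((sig.comp h.r).comp (inclusion hP.le)) ?_
  show sig (h.r ⟨t, h.t_mem⟩) ≠ 1
  rw [h.sig_t]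
  exact h.tau_ne

theorem exists_pow_eq_tau {φ : RingAut K} (hφ : φ ≠ 1) {n : ℕ} (hn : φ ^ 2 ^ n = 1) : ∃ k : ℕ, φ ^ k = τ := by
  classical
  have hex : ∃ m : ℕ, φ ^ 2 ^ m = 1 := ⟨n, hn⟩
  have h1 := Nat.find_spec hex
  have h2 : Nat.find hex ≠ 0 := by
    intro h0
    rw [h0, pow_zero, pow_one] at h1
    exact hφ h1
  obtain ⟨m, hm⟩ := Nat.exists_eq_succ_of_ne_zero h2
  rw [hm] at h1
  have h3 : ¬ φ ^ 2 ^ m = 1 := Nat.find_min hex (by omega)
  refine ⟨2 ^ m, OutField.unique_invol ?_ h.tau_sq h3 h.tau_ne⟩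
  rw [← pow_add, ← two_mul, ← pow_succ', h1]

end FC

namespace FE

variable {t : G} {T : Subgroup G} {q : ℕ} {i : Heis K →* G} {τ : RingAut K} {L : Subgroup G}
variable [Finite G] [Finite K] [CharP K 2] (h : FE t T q i τ L)

include h

/-- elements of `S ∩ L` preserving `V₁`, `V₂` lie in `Û` -/
theorem mem_range_of_pres (htL : t ∉ L) {x : G} (hx : x ∈ h.toFC.S) (hxL : x ∈ L)
    (hp : Pres (h.toFC.r ⟨x, hx⟩)) : ∃ u, x = i u := by
  by_cases hs : sig (h.toFC.r ⟨x, hx⟩) = 1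
  · exact h.toFC.mem_range_of hx hs hp
  · exfalso
    obtain ⟨n, hn⟩ := h.toFC.isS ⟨x, hx⟩
    have hn' : sig (h.toFC.r ⟨x, hx⟩) ^ 2 ^ n = 1 := by rw [← map_pow, ← map_pow, hn, map_one, map_one]
    obtain ⟨k, hk⟩ := h.toFC.exists_pow_eq_tau hs hn'
    have hxk : x ^ k ∈ h.toFC.S := pow_mem hx k
    have e : (⟨x ^ k, hxk⟩ : h.toFC.S) = ⟨x, hx⟩ ^ k := Subtype.ext rfl
    have hpk : ∀ k : ℕ, Pres (h.toFC.r ⟨x, hx⟩ ^ k) := by
      intro k
      induction k with
      | zero => rw [pow_zero]; exact pres_one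
      | succ k ih => rw [pow_succ]; exact ih.mul hp
    obtain ⟨u, hu⟩ := h.toFC.mem_t_range_of hxk (by rw [e, map_pow, map_pow, hk]) (by rw [e, map_pow]; exact hpk k)
    apply htL
    have h1 : t = x ^ k * (i u)⁻¹ := by rw [hu, mul_inv_cancel_right]
    rw [h1]
    exact mul_mem (pow_mem hxL k) (inv_mem (h.le_L ⟨u, rfl⟩))

/-- **(K3)** -/
theorem main [hLn : L.Normal] (hL : _root_.commutator L = ⊤) :
    t ∉ L ∧ ∃ P : Sylow 2 G, (P : Subgroup G) ⊓ L = i.range := by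
  have htL := h.toFC.t_not_mem hL
  refine ⟨htL, ?_⟩
  obtain ⟨P, hP⟩ := h.toFC.exists_sylow
  refine ⟨P, le_antisymm ?_ (le_inf (hP ▸ h.toFC.le_S) h.le_L)⟩
  by_contra hcon
  obtain ⟨x, hx, hxr⟩ := SetLike.not_le_iff_exists.1 hcon
  rw [hP] at hx
  obtain ⟨hxS, hxL⟩ := mem_inf.1 hx
  -- an element of `T ∩ L` outside `Û`
  obtain ⟨u, f, hf, hxf⟩ := h.toFC.mem_S.1 hxS
  have hfL : f ∈ L := by
    have : f = (i u)⁻¹ * x := by rw [hxf, inv_mul_cancel_left]
    rw [this]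
    exact mul_mem (inv_mem (h.le_L ⟨u, rfl⟩)) hxL
  have hfr : f ∉ i.range := by
    intro h1
    apply hxr
    rw [hxf]
    exact mul_mem ⟨u, rfl⟩ h1
  have hfS := h.toFC.T_le hf
  have hswp : ∀ {y : G} (hy : y ∈ h.toFC.S), y ∈ L → y ∉ i.range → Swp (h.toFC.r ⟨y, hy⟩) := by
    intro y hy hyL hyr
    rcases pres_or_swp (h.toFC.r ⟨y, hy⟩) with h1 | h1
    · obtain ⟨v, hv⟩ := h.mem_range_of_pres htL hy hyL h1
      exact absurd ⟨v, hv.symm⟩ hyr
    · exact h1
  have hff : f * f ∈ i.range := by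
    have h1 := hswp hfS hfL hfr
    obtain ⟨v, hv⟩ := h.mem_range_of_pres htL (mul_mem hfS hfS) (mul_mem hfL hfL) (by
      have e : (⟨f * f, mul_mem hfS hfS⟩ : h.toFC.S) = ⟨f, hfS⟩ * ⟨f, hfS⟩ := rfl
      rw [e, map_mul]
      exact h1.mul h1)
    exact ⟨v, hv.symm⟩
  obtain ⟨w, hw, hw2⟩ := h.lift f hf hff
  obtain ⟨f', hf'⟩ : ∃ f', f' = i w * f := ⟨_, rfl⟩
  rw [← hf'] at hw2
  have hf'L : f' ∈ L := by rw [hf']; exact mul_mem (h.le_L ⟨w, rfl⟩) hfL
  have hf'T : f' ∈ T := by rw [hf']; exact mul_mem (h.cent_mem w hw) hf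
  have hf'r : f' ∉ i.range := by
    intro h1
    apply hfr
    have : f = (i w)⁻¹ * f' := by rw [hf', inv_mul_cancel_left]
    rw [this]
    exact mul_mem (inv_mem ⟨w, rfl⟩) h1
  have hf'2 : f' * f' = 1 := by
    rcases hw2 with h1 | h1
    · exact h1
    · exact absurd (h1 ▸ mul_mem hf'L hf'L) htL
  have hf'S := h.toFC.T_le hf'T
  letI := commRingAut K
  have hPL : (P : Subgroup G) ⊓ L ≤ h.toFC.S := by rw [hP]; exact inf_le_left
  obtain ⟨y, hyt, hy⟩ := Cfsg.Agent.StdEven.OuterKill.no_outer (P := P) (T := i.range) (L := L) (t := t) (f := f')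
    (A := RingAut K × ℤˣ) h.tt (hP ▸ h.toFC.t_mem)
    (by
      rintro _ ⟨v, rfl⟩
      exact ⟨_, (h.act v).symm⟩)
    (fun g hg => h.toFC.star g (hP ▸ hg)) hL (h.toFC.psi.comp (inclusion hPL))
    (by
      intro z hz
      show h.toFC.psi ⟨z, hPL hz⟩ = 1 ↔ _
      rw [h.toFC.psi_eq_one]
      constructor
      · rintro ⟨v, hv⟩; exact ⟨v, hv.symm⟩
      · rintro ⟨v, hv⟩; exact ⟨v, hv.symm⟩)
    hf'2 (h.comm_T f' hf'T) (mem_inf.2 ⟨hP ▸ hf'S, hf'L⟩) hf'r
    (by
      intro z hz _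
      by_cases hzr : z ∈ i.range
      · left
        obtain ⟨v, hv⟩ := hzr
        exact (h.toFC.psi_eq_one (x := ⟨z, hPL hz⟩)).2 ⟨v, hv.symm⟩
      · right
        show h.toFC.psi ⟨z, hPL hz⟩ = h.toFC.psi ⟨f', hf'S⟩
        have hzL := (mem_inf.1 hz).2
        have h1 := hswp (hPL hz) hzL hzr
        have h2 := hswp hf'S hf'L hf'r
        have h3 : z * f' ∈ h.toFC.S := mul_mem (hPL hz) hf'S
        obtain ⟨v, hv⟩ := h.mem_range_of_pres htL h3 (mul_mem hzL hf'L) (by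
          have e : (⟨z * f', h3⟩ : h.toFC.S) = ⟨z, hPL hz⟩ * ⟨f', hf'S⟩ := rfl
          rw [e, map_mul]
          exact h1.mul h2)
        have h4 : h.toFC.psi (⟨z, hPL hz⟩ * ⟨f', hf'S⟩) = 1 := h.toFC.psi_eq_one.2 ⟨v, hv⟩
        have h5 : h.toFC.psi ⟨f', hf'S⟩ * h.toFC.psi ⟨f', hf'S⟩ = 1 := by
          rw [← map_mul]
          have : (⟨f', hf'S⟩ : h.toFC.S) * ⟨f', hf'S⟩ = 1 := Subtype.ext hf'2
          rw [this, map_one]
        rw [map_mul] at h4
        exact mul_right_cancel (h4.trans h5.symm))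
  exact hf'r (h.fus y hyt f' hf'T hy)

end FE

end Cfsg.Agent.StdRank2.L3F
end

-- part: StdRank2/L3Asm
section
/-!
# S1778, type `L₃(q)`, `q ≥ 4` even: the assembly (frame)

`core_of` : `Core.{u} (fun Q _ => TypeL3 Q)` from
* `StartFour` : the situation `Both` and the seed for `q = 4`;
* `FieldStmt` : the field case (`X² + X + g` irreducible);
* `WreathStmt` : the wreath case.
-/

set_option autoImplicit false
set_option linter.unusedSectionVars false

namespace Cfsg.Agent.StdRank2.L3Asm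

open Cfsg Subgroup Cfsg.Agent.StdEven.Syl Cfsg.Agent.StdL2.Setup Cfsg.Agent.StdEven.Red
open Cfsg.Agent.StdSz.Out Cfsg.Agent.StdRank2.L3G Quad
open Cfsg.Agent.StdL3.Heis
open scoped commutatorElement

universe u

/-- what `L3End.concl` uses of the Sylow 2-subgroup of `L`. -/
structure EndFacts {G : Type*} [Group G] (N : Subgroup G) : Prop where
  nc : ∃ x ∈ N, ∃ y ∈ N, x * y ≠ y * x
  cl : ∀ x ∈ N, ∀ y ∈ N, ∀ z ∈ N, ⁅x, y⁆ * z = z * ⁅x, y⁆
  big : 16 ≤ Nat.card N

section Facts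

variable {G : Type*} [Group G]

/-- the Heisenberg group. -/
theorem endFacts_range {K : Type*} [CommRing K] [Nontrivial K] [Finite K] {i : Heis K →* G}
    (hi : Function.Injective i) (h4 : 4 ≤ Nat.card K) : EndFacts i.range where
  nc := by
    refine ⟨i ⟨1, 0, 0⟩, ⟨_, rfl⟩, i ⟨0, 1, 0⟩, ⟨_, rfl⟩, fun h => ?_⟩
    rw [← map_mul, ← map_mul] at h
    have h1 := (commute_iff _ _).1 (hi h)
    simp at h1
  cl := by
    rintro _ ⟨x, rfl⟩ _ ⟨y, rfl⟩ _ ⟨z, rfl⟩
    rw [← map_commutatorElement, ← map_mul, ← map_mul]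
    congr 1
    rw [commutatorElement_def, comm_eq]
    exact z_comm _ _
  big := by
    have e : Heis K ≃ (K × K) × K :=
      ⟨fun u => ((u.a, u.b), u.c), fun p => ⟨p.1.1, p.1.2, p.2⟩, fun _ => rfl, fun _ => rfl⟩
    have h1 : Nat.card i.range = Nat.card K * Nat.card K * Nat.card K := by
      rw [← Nat.card_congr (MonoidHom.ofInjective hi).toEquiv, Nat.card_congr e, Nat.card_prod, Nat.card_prod]
    rw [h1]
    calc 16 ≤ 4 * 4 * 4 := by norm_num
      _ ≤ _ := Nat.mul_le_mul (Nat.mul_le_mul h4 h4) h4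

/-- product of the unipotent groups of two commuting frames. -/
theorem endFacts_prod {A1 A2 : Subgroup G} {F : Type*} [Field F] [Finite F] [CharP F 2]
    {fr1 : FrameL3 A1 F} {fr2 : FrameL3 A2 F} (h1 : Odd (Nat.card (center ↥A1)))
    (h2 : Odd (Nat.card (center ↥A2))) (hcomm : ∀ x ∈ A1, ∀ y ∈ A2, x * y = y * x)
    (h4 : 4 ≤ Nat.card F) {N : Subgroup G} [Finite N] (hU1 : fr1.U ≤ N)
    (hN : ∀ x ∈ N, ∃ a ∈ fr1.U, ∃ b ∈ fr2.U, x = a * b) : EndFacts N where
  nc := by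
    refine ⟨fr1.x 0 1 1, hU1 (fr1.x_mem_U (by decide) 1), fr1.x 1 2 1, hU1 (fr1.x_mem_U (by decide) 1), fun h => ?_⟩
    have e1 : fr1.el 1 0 0 = fr1.x 0 1 1 := by
      rw [FrameL3.el, fr1.x_zero h1 (by decide), fr1.x_zero h1 (by decide), mul_one, mul_one]
    have e2 : fr1.el 0 1 0 = fr1.x 1 2 1 := by
      rw [FrameL3.el, fr1.x_zero h1 (by decide), fr1.x_zero h1 (by decide), mul_one, one_mul]
    rw [← e1, ← e2, fr1.el_mul h1, fr1.el_mul h1, fr1.el_inj] at h
    have h3 := h.2.2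
    simp at h3
  cl := by
    have key : ∀ {A : Subgroup G} {fr : FrameL3 A F} (hZ : Odd (Nat.card (center ↥A))),
        ∀ x ∈ fr.U, ∀ y ∈ fr.U, ∀ z ∈ fr.U, ⁅x, y⁆ * z = z * ⁅x, y⁆ := by
      intro A fr hZ x hx y hy z hz
      obtain ⟨a, b, c, rfl⟩ := (fr.mem_U hZ).1 hx
      obtain ⟨a', b', c', rfl⟩ := (fr.mem_U hZ).1 hy
      obtain ⟨r, s, m, rfl⟩ := (fr.mem_U hZ).1 hz
      rw [commutatorElement_def, fr.el_inv hZ, fr.el_inv hZ]
      simp only [fr.el_mul hZ]
      have hc : ∀ u : F, u + u = 0 := fun u => CharTwo.add_self_eq_zero u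
      have k1 : a + a' + a + a' = 0 := by linear_combination hc a + hc a'
      have k2 : b + b' + b + b' = 0 := by linear_combination hc b + hc b'
      rw [k1, k2]
      congr 1
      · ring
      · ring
      · ring
    rintro x hx y hy z hz
    obtain ⟨a, ha, b, hb, rfl⟩ := hN x hx
    obtain ⟨a', ha', b', hb', rfl⟩ := hN y hy
    obtain ⟨r, hr, s, hs, rfl⟩ := hN z hz
    have c1 : ∀ u ∈ fr1.U, ∀ v ∈ fr2.U, u * v = v * u := fun u hu v hv =>
      hcomm u (fr1.U_le hu) v (fr2.U_le hv)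
    have e1 : ⁅a * b, a' * b'⁆ = ⁅a, a'⁆ * ⁅b, b'⁆ := by
      rw [commutatorElement_def, commutatorElement_def, commutatorElement_def, mul_inv_rev, mul_inv_rev]
      have m1 := c1 a' ha' b hb
      have m2 := c1 a⁻¹ (inv_mem ha) b' hb'
      have m3 := c1 a⁻¹ (inv_mem ha) b hb
      have m4 := c1 a⁻¹ (inv_mem ha) b⁻¹ (inv_mem hb)
      have m5 := c1 a'⁻¹ (inv_mem ha') b hb
      have m6 := c1 a'⁻¹ (inv_mem ha') b' hb'
      have m7 := c1 a'⁻¹ (inv_mem ha') b⁻¹ (inv_mem hb)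
      have m8 := c1 a'⁻¹ (inv_mem ha') b'⁻¹ (inv_mem hb')
      calc a * b * (a' * b') * (b⁻¹ * a⁻¹) * (b'⁻¹ * a'⁻¹)
          = a * (b * a') * b' * b⁻¹ * a⁻¹ * (b'⁻¹ * a'⁻¹) := by group
        _ = a * a' * (b * b' * b⁻¹) * a⁻¹ * (b'⁻¹ * a'⁻¹) := by rw [← m1]; group
        _ = a * a' * (a⁻¹ * (b * b' * b⁻¹)) * (b'⁻¹ * a'⁻¹) := by
            rw [c1 a⁻¹ (inv_mem ha) (b * b' * b⁻¹) (mul_mem (mul_mem hb hb') (inv_mem hb))]; group
        _ = a * a' * a⁻¹ * ((b * b' * b⁻¹ * b'⁻¹) * a'⁻¹) := by group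
        _ = a * a' * a⁻¹ * (a'⁻¹ * (b * b' * b⁻¹ * b'⁻¹)) := by
            rw [c1 a'⁻¹ (inv_mem ha') (b * b' * b⁻¹ * b'⁻¹)
              (mul_mem (mul_mem (mul_mem hb hb') (inv_mem hb)) (inv_mem hb'))]
        _ = _ := by group
    have ka := key h1 a ha a' ha' r hr
    have kb := key h2 b hb b' hb' s hs
    have ca : ⁅a, a'⁆ ∈ fr1.U := by
      rw [commutatorElement_def]; exact mul_mem (mul_mem (mul_mem ha ha') (inv_mem ha)) (inv_mem ha')
    have cb : ⁅b, b'⁆ ∈ fr2.U := by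
      rw [commutatorElement_def]; exact mul_mem (mul_mem (mul_mem hb hb') (inv_mem hb)) (inv_mem hb')
    rw [e1]
    calc ⁅a, a'⁆ * ⁅b, b'⁆ * (r * s) = ⁅a, a'⁆ * (⁅b, b'⁆ * r) * s := by group
      _ = (⁅a, a'⁆ * r) * (⁅b, b'⁆ * s) := by rw [← c1 r hr _ cb]; group
      _ = r * (⁅a, a'⁆ * s) * ⁅b, b'⁆ := by rw [ka, kb]; group
      _ = r * s * (⁅a, a'⁆ * ⁅b, b'⁆) := by rw [c1 _ ca s hs]; group
  big := by
    have h3 : Nat.card fr1.U ≤ Nat.card N :=
      Nat.card_le_card_of_injective _ (Subgroup.inclusion_injective hU1)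
    rw [fr1.card_U h1] at h3
    refine le_trans ?_ h3
    calc 16 ≤ 4 ^ 3 := by norm_num
      _ ≤ _ := Nat.pow_le_pow_left h4 3

theorem isSyl_of_inf [Finite G] {L N : Subgroup G} (hL : L.Normal) (P : Sylow 2 G)
    (h : (P : Subgroup G) ⊓ L = N) : IsSyl N L := by
  rw [← h]
  exact (isSyl_top_of_sylow P).inf_normal le_top (by rw [normalizer_eq_top])

end Facts

/-- The conclusion from `P ∩ L = N`. -/
theorem concl_of {G : Type u} [Group G] [Finite G] {L A : Subgroup G} {t : G} (h1170 : S1170Stmt.{u})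
    (C : Conf L A t) (hT : TypeL3 (↥A ⧸ center ↥A)) {N : Subgroup G} (htL : t ∉ L)
    (hP : ∃ P : Sylow 2 G, (P : Subgroup G) ⊓ L = N) (hN : EndFacts N) : Concl L t := by
  obtain ⟨P, hP⟩ := hP
  exact L3End.concl h1170 C hT (isSyl_of_inf C.normal P hP) hN.nc hN.cl hN.big htL

/-- START for `q = 4`. -/
def StartFour : Prop :=
  ∀ (G : Type u) [Group G] [Finite G] (L A : Subgroup G) (t : G) (F : Type) [Field F] [Finite F] [CharP F 2],
    Conf L A t → Odd (Nat.card (center ↥A)) →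
    ((↥A ⧸ center ↥A) ≃* Matrix.ProjectiveSpecialLinearGroup (Fin 3) F) → Nat.card F = 4 →
    ∃ (T : Subgroup G) (fr : FrameL3 A F) (B : L3Inst.Both L A t T fr), Nonempty (L3Zh.Seed B.xsit.env)

/-- The field case. -/
def FieldStmt : Prop :=
  ∀ (G : Type u) [Group G] [Finite G] (L A : Subgroup G) (t : G) (F : Type) [Field F] [Finite F] [CharP F 2]
    (T : Subgroup G) (fr : FrameL3 A F) (B : L3Inst.Both L A t T fr) (Ag Bg Zg : Subgroup _)
    (I : L3Roots.Input B.xsit Ag Bg Zg), Conf L A t → Odd (Nat.card (center ↥A)) →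
    (∀ c : F, c * c + c ≠ I.K.g) →
    t ∉ L ∧ ∃ N : Subgroup G, (∃ P : Sylow 2 G, (P : Subgroup G) ⊓ L = N) ∧ EndFacts N

/-- The wreath case. -/
def WreathStmt : Prop :=
  ∀ (G : Type u) [Group G] [Finite G] (L A : Subgroup G) (t : G) (F : Type) [Field F] [Finite F] [CharP F 2]
    (T : Subgroup G) (fr : FrameL3 A F) (B : L3Inst.Both L A t T fr) (Ag Bg Zg : Subgroup _)
    (I : L3Roots.Input B.xsit Ag Bg Zg), Conf L A t → Odd (Nat.card (center ↥A)) →
    (∃ c : F, c * c + c = I.K.g) →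
    t ∉ L ∧ ∃ N : Subgroup G, (∃ P : Sylow 2 G, (P : Subgroup G) ⊓ L = N) ∧ EndFacts N

/-- `Both` and the seed for all `q ≥ 4`. -/
theorem exists_start (h4 : StartFour.{u}) {G : Type u} [Group G] [Finite G] {L A : Subgroup G} {t : G}
    {F : Type} [Field F] [Finite F] [CharP F 2] (C : Conf L A t) (hZ : Odd (Nat.card (center ↥A)))
    (e : (↥A ⧸ center ↥A) ≃* Matrix.ProjectiveSpecialLinearGroup (Fin 3) F)
    (hF : Nat.card F = 4 ∨ 8 ≤ Nat.card F) :
    ∃ (T : Subgroup G) (fr : FrameL3 A F) (B : L3Inst.Both L A t T fr), Nonempty (L3Zh.Seed B.xsit.env) := by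
  rcases hF with hF | hF
  · exact h4 G L A t F C hZ e hF
  · obtain ⟨T, fr, hO, ⟨B⟩⟩ := L3Inst.exists_all C hZ e hF
    exact ⟨T, fr, B, B.exists_seed (L3Inst.sch B.sit.perfect fr.e) hO⟩

/-- **Type `L₃(q)`: the core statement, from START (q = 4), the field case and the wreath case.** -/
theorem core_of (h1170 : S1170Stmt.{u}) (h4 : StartFour.{u}) (hF : FieldStmt.{u}) (hW : WreathStmt.{u}) :
    Core.{u} (fun Q _ => TypeL3 Q) := by
  intro G _ _ L A t C hZ hT
  obtain ⟨F, i1, i2, a, ha, hc, ⟨e⟩⟩ := hT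
  have h2 : (2 : F) = 0 := by
    have h1 : ((Fintype.card F : ℕ) : F) = 0 := by simp
    rw [hc, Nat.cast_pow] at h1
    exact_mod_cast pow_eq_zero_iff (by omega) |>.1 h1
  have : CharP F 2 := CharTwo.of_one_ne_zero_of_two_eq_zero one_ne_zero h2
  have hcard : Nat.card F = 2 ^ a := by rw [Nat.card_eq_fintype_card, hc]
  have hq : Nat.card F = 4 ∨ 8 ≤ Nat.card F := by
    rw [hcard]
    rcases Nat.lt_or_ge a 3 with h | h
    · left
      obtain rfl : a = 2 := by omega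
      norm_num
    · right
      calc 8 = 2 ^ 3 := by norm_num
        _ ≤ 2 ^ a := Nat.pow_le_pow_right (by norm_num) h
  obtain ⟨T, fr, B, ⟨S⟩⟩ := exists_start h4 C hZ e hq
  obtain ⟨Ag, Bg, ⟨I⟩⟩ := L3Four.exists_input_all B.xsit S
  have hT : TypeL3 (↥A ⧸ center ↥A) := ⟨F, i1, i2, a, ha, hc, ⟨e⟩⟩
  by_cases hg : ∃ c : F, c * c + c = I.K.g
  · obtain ⟨htL, N, hP, hN⟩ := hW G L A t F T fr B Ag Bg S.Zh I C hZ hg
    exact concl_of h1170 C hT htL hP hN
  · push Not at hg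
    obtain ⟨htL, N, hP, hN⟩ := hF G L A t F T fr B Ag Bg S.Zh I C hZ hg
    exact concl_of h1170 C hT htL hP hN

theorem startFour : StartFour.{u} := fun _ _ _ _ _ _ _ _ _ _ C hZ e hF => L3Four.Start.exists_start_four C hZ e hF

/-- **Type `L₃(q)`: the core statement, from the field case and the wreath case.** -/
theorem core_of_cases (h1170 : S1170Stmt.{u}) (hF : FieldStmt.{u}) (hW : WreathStmt.{u}) :
    Core.{u} (fun Q _ => TypeL3 Q) := core_of h1170 startFour hF hW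

end Cfsg.Agent.StdRank2.L3Asm
end

-- part: StdRank2/L3W/Main
section
/-!
# Wreath case of type `L₃(q)`: `OutData` from `Wr`

`S₀ = P ∩ N(G₁) ∩ N(G₂)`, `N = U₁U₂`, `S_i = U_i`, `Z = Z(U₁)`.
-/

set_option autoImplicit false

namespace Cfsg.Agent.StdRank2.L3W

open Subgroup Cfsg.Agent.StdRank2.OutL3Inv Cfsg.Agent.StdRank2.OutL3Je Cfsg.Agent.StdRank2.OutL3Rel
  Cfsg.Agent.StdRank2.OutSplit
open scoped commutatorElement

variable {G : Type*} [Group G] [Finite G] {F : Type*} [Field F] [Finite F] [CharP F 2] {G1 G2 : Subgroup G}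
  {fr : FrameL3 G1 F} {fr' : FrameL3 G2 F} {E : Subgroup G} {P : Sylow 2 G} {t : G}

/-- `Z(U)` -/
def ZU (fr : FrameL3 G1 F) (hZ : Odd (Nat.card (center ↥G1))) : Subgroup G where
  carrier := {g | ∃ t, g = u fr 0 0 t}
  mul_mem' := by
    rintro _ _ ⟨t, rfl⟩ ⟨t', rfl⟩
    exact ⟨_, by rw [u_mul fr hZ, add_zero]⟩
  one_mem' := ⟨0, (u_zero fr hZ).symm⟩
  inv_mem' := by
    rintro _ ⟨t, rfl⟩
    exact ⟨_, u_inv fr hZ 0 0 t⟩

theorem norm_U {T : Subgroup G} (hZ : Odd (Nat.card (center ↥G1))) (h : Adapted fr T) {x a : G} (hx : x ∈ T)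
    (ha : a ∈ fr.U) : x * a * x⁻¹ ∈ fr.U := by
  rcases h.cases hx with ⟨σ, h1⟩ | ⟨σ, h1⟩
  · exact h1.norm hZ ha
  · exact h1.norm hZ ha

theorem isTwo_U (hZ : Odd (Nat.card (center ↥G1))) : IsPGroup 2 fr.U := by
  rintro ⟨x, hx⟩
  obtain ⟨r, s, t, rfl⟩ := (mem_U fr hZ).1 hx
  refine ⟨2, Subtype.ext ?_⟩
  show u fr r s t ^ (2 ^ 2) = 1
  have h1 : u fr r s t ^ (2 ^ 2) = (u fr r s t * u fr r s t) * (u fr r s t * u fr r s t) := by
    rw [show (2 : ℕ) ^ 2 = 4 from rfl, pow_succ, pow_succ, pow_two]; group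
  rw [h1, u_sq fr hZ, u_sq fr hZ, mul_zero, u_zero fr hZ]

namespace Wr

variable (W : Wr fr fr' E P t)
include W

theorem sup_mem {x : G} (hx : x ∈ fr.U ⊔ fr'.U) : ∃ a ∈ fr.U, ∃ b ∈ fr'.U, x = a * b := by
  have hc : ∀ a ∈ fr.U, ∀ b ∈ fr'.U, a * b = b * a := fun a ha b hb => W.comm a (fr.U_le ha) b (fr'.U_le hb)
  let H : Subgroup G :=
    { carrier := {x | ∃ a ∈ fr.U, ∃ b ∈ fr'.U, x = a * b}
      mul_mem' := by
        rintro _ _ ⟨a, ha, b, hb, rfl⟩ ⟨a', ha', b', hb', rfl⟩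
        refine ⟨a * a', mul_mem ha ha', b * b', mul_mem hb hb', ?_⟩
        calc a * b * (a' * b') = a * (b * a') * b' := by group
          _ = a * (a' * b) * b' := by rw [hc a' ha' b hb]
          _ = a * a' * (b * b') := by group
      one_mem' := ⟨1, one_mem _, 1, one_mem _, (mul_one 1).symm⟩
      inv_mem' := by
        rintro _ ⟨a, ha, b, hb, rfl⟩
        refine ⟨a⁻¹, inv_mem ha, b⁻¹, inv_mem hb, ?_⟩
        rw [mul_inv_rev]
        exact (hc _ (inv_mem ha) _ (inv_mem hb)).symm }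
  have h1 : fr.U ⊔ fr'.U ≤ H := sup_le (fun a ha => ⟨a, ha, 1, one_mem _, (mul_one a).symm⟩)
    (fun b hb => ⟨1, one_mem _, b, hb, (one_mul b).symm⟩)
  exact h1 hx

/-- `t` interchanges `U₁` and `U₂` -/
theorem t_U {a : G} (ha : a ∈ fr.U) : t * a * t⁻¹ ∈ fr'.U := by
  obtain ⟨r, s, v, rfl⟩ := (mem_U fr W.oddZ).1 ha
  have e : t * u fr r s v * t⁻¹ = u fr' r s v := by
    unfold u
    rw [conj_mul3, ← W.frame, ← W.frame, ← W.frame]
  rw [e]
  exact u_mem fr' _ _ _

theorem t_U' {a : G} (ha : a ∈ fr'.U) : t * a * t⁻¹ ∈ fr.U := by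
  obtain ⟨r, s, v, rfl⟩ := (mem_U fr' W.oddZ').1 ha
  have e : t * u fr' r s v * t⁻¹ = u fr r s v := by
    unfold u
    rw [conj_mul3, W.frame, W.frame, W.frame]
    have e2 : ∀ y : G, t * (t * y * t⁻¹) * t⁻¹ = y := by
      intro y
      calc t * (t * y * t⁻¹) * t⁻¹ = (t * t) * y * (t * t)⁻¹ := by group
        _ = y := by rw [W.tt]; group
    rw [e2, e2, e2]
  rw [e]
  exact u_mem fr _ _ _

theorem normS : NormS (P ⊓ NN G1 G2 : Subgroup G) fr.U fr'.U := by
  constructor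
  · intro x hx a ha
    have := norm_U W.oddZ W.adapted (inv_mem hx) ha
    rwa [inv_inv] at this
  · intro x hx a ha
    have := norm_U W.oddZ' W.adapted' (inv_mem hx) ha
    rwa [inv_inv] at this

theorem disj {a : G} (h1 : a ∈ fr.U) (h2 : a ∈ fr'.U) : a = 1 := by
  obtain ⟨k, hk⟩ := isTwo_U W.oddZ ⟨a, h1⟩
  refine W.cent a (fun x hx => ?_) (fun y hy => ?_) ⟨k, congrArg Subtype.val hk⟩
  · exact (W.comm x hx a (fr'.U_le h2)).symm
  · exact W.comm a (fr.U_le h1) y hy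

theorem swap_U {w : G} (hw : w ∈ (P : Subgroup G)) (hw0 : w ∉ (P ⊓ NN G1 G2 : Subgroup G)) {a : G} (ha : a ∈ fr.U) :
    w⁻¹ * a * w ∈ fr'.U := by
  have hwi0 : w⁻¹ ∉ (P ⊓ NN G1 G2 : Subgroup G) := fun h => hw0 ((inv_mem_iff).1 h)
  have h1 : t * w⁻¹ ∈ NN G1 G2 := (W.P_le _ (inv_mem hw)).resolve_left
    (fun h => hwi0 (mem_inf.mpr ⟨inv_mem hw, h⟩))
  have h2 : t * w⁻¹ ∈ (P ⊓ NN G1 G2 : Subgroup G) := mem_inf.2 ⟨mul_mem W.tP (inv_mem hw), h1⟩
  have h3 := W.t_U (norm_U W.oddZ W.adapted h2 ha)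
  have e : t * (t * w⁻¹ * a * (t * w⁻¹)⁻¹) * t⁻¹ = w⁻¹ * a * w := by
    calc t * (t * w⁻¹ * a * (t * w⁻¹)⁻¹) * t⁻¹ = (t * t) * (w⁻¹ * a * w) * (t * t)⁻¹ := by group
      _ = w⁻¹ * a * w := by rw [W.tt]; group
  rwa [e] at h3

theorem swap_U' {w : G} (hw : w ∈ (P : Subgroup G)) (hw0 : w ∉ (P ⊓ NN G1 G2 : Subgroup G)) {a : G}
    (ha : a ∈ fr'.U) : w⁻¹ * a * w ∈ fr.U := by
  have hwi0 : w⁻¹ ∉ (P ⊓ NN G1 G2 : Subgroup G) := fun h => hw0 ((inv_mem_iff).1 h)
  have h1 : t * w⁻¹ ∈ NN G1 G2 := (W.P_le _ (inv_mem hw)).resolve_left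
    (fun h => hwi0 (mem_inf.mpr ⟨inv_mem hw, h⟩))
  have h2 : t * w⁻¹ ∈ (P ⊓ NN G1 G2 : Subgroup G) := mem_inf.2 ⟨mul_mem W.tP (inv_mem hw), h1⟩
  have h3 := W.t_U' (norm_U W.oddZ' W.adapted' h2 ha)
  have e : t * (t * w⁻¹ * a * (t * w⁻¹)⁻¹) * t⁻¹ = w⁻¹ * a * w := by
    calc t * (t * w⁻¹ * a * (t * w⁻¹)⁻¹) * t⁻¹ = (t * t) * (w⁻¹ * a * w) * (t * t)⁻¹ := by group
      _ = w⁻¹ * a * w := by rw [W.tt]; group
  rwa [e] at h3

/-- `SwapData`: what remains is weak closure and (D) -/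
theorem swapData
    (hW : ∀ g : G, (∀ x ∈ fr.U ⊔ fr'.U, g⁻¹ * x * g ∈ (P : Subgroup G)) →
      ∀ x ∈ fr.U ⊔ fr'.U, g⁻¹ * x * g ∈ fr.U ⊔ fr'.U)
    (hD : ∀ a ∈ fr.U, ∀ b ∈ fr'.U, a ≠ 1 → b ≠ 1 → a * a = 1 → b * b = 1 → ∀ g : G,
      g⁻¹ * (a * b) * g ∉ fr.U ∧ g⁻¹ * (a * b) * g ∉ fr'.U) :
    SwapData (P : Subgroup G) (P ⊓ NN G1 G2 : Subgroup G) (fr.U ⊔ fr'.U) fr.U fr'.U where
  hidx := W.hidx
  hS0 := inf_le_left
  hNS := sup_le W.U_le_S0 W.U'_le_S0
  h1N := le_sup_left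
  h2N := le_sup_right
  hsup := fun _ hx => W.sup_mem hx
  hcomm := fun a ha b hb => W.comm a (fr.U_le ha) b (fr'.U_le hb)
  hdisj := fun a h1 h2 => W.disj h1 h2
  hsw1 := fun w hw hw0 a ha => W.swap_U hw hw0 ha
  hsw2 := fun w hw hw0 a ha => W.swap_U' hw hw0 ha
  hW := hW
  hD := hD

end Wr

end Cfsg.Agent.StdRank2.L3W
end

-- part: StdRank2/SC/FiveSplitG
section
/-!
# The split case of `U₅(q)`: the two components

`SplitG Gr`: subgroups `AA i ≤ A`, `PP i ≤ P` (`i : Bool`) swapped by `t`, with `C_i = nb A_i nb`, `R_i = na P_i na`.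
`S_i = A_i R_i P_i C_i`; `S_false × S_true = S0`; `LL i` = the group generated by the eight root groups of index `i`.
-/

set_option autoImplicit false
set_option linter.unusedSectionVars false
set_option linter.unusedVariables false

namespace Cfsg.Agent.StdRank2.SC.Five

open Subgroup Cfsg.Agent.StdRank2.UFour Cfsg.Agent.StdRank2.UFive Cfsg.Agent.StdRank2.UFour.SeedPre
open scoped commutatorElement

variable {F : Type*} [Field F] [CharP F 2] {B : Bar F} {G : Type*} [Group G]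
variable {E : UFive.Env B G}

/-- Output of the structure constants in the split case (`C_i = nb A_i nb`, `R_i = na P_i na`). -/
structure SplitG (Gr : UFive.Grown E) where
  AA : Bool → Subgroup G
  PP : Bool → Subgroup G
  A_le : ∀ i, AA i ≤ Gr.A
  P_le : ∀ i, PP i ≤ Gr.P
  t_A : ∀ i, ∀ g ∈ AA i, E.t * g * E.t⁻¹ ∈ AA (!i)
  t_P : ∀ i, ∀ g ∈ PP i, E.t * g * E.t⁻¹ ∈ PP (!i)
  A_sup : ∀ g ∈ Gr.A, ∃ x ∈ AA false, ∃ y ∈ AA true, g = x * y
  P_sup : ∀ g ∈ Gr.P, ∃ x ∈ PP false, ∃ y ∈ PP true, g = x * y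
  A_inf : ∀ g ∈ AA false, g ∈ AA true → g = 1
  P_inf : ∀ g ∈ PP false, g ∈ PP true → g = 1
  T_A : ∀ i, ∀ k ∈ E.T, ∀ g ∈ AA i, k * g * k⁻¹ ∈ AA i
  T_P : ∀ i, ∀ k ∈ E.T, ∀ g ∈ PP i, k * g * k⁻¹ ∈ PP i
  nb_P : ∀ g ∈ Gr.P, E.nb * g * E.nb⁻¹ = g
  na_C : ∀ i, ∀ a ∈ AA i, E.na * (E.nb * a * E.nb⁻¹) * E.na⁻¹ ∈ (AA i).map (MulAut.conj E.nb).toMonoidHom
  -- inside of the component
  A_C : ∀ i, ∀ a ∈ AA i, ∀ c, E.nb * c * E.nb⁻¹ ∈ AA i → ∃ p ∈ PP i, a * c * a⁻¹ = p * c
  A_R : ∀ i, ∀ a ∈ AA i, ∀ g, E.na * g * E.na⁻¹ ∈ PP i →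
    ∃ p ∈ PP i, ∃ c, E.nb * c * E.nb⁻¹ ∈ AA i ∧ a * g * a⁻¹ = p * c * g
  P_R : ∀ i, ∀ p ∈ PP i, ∀ g, E.na * g * E.na⁻¹ ∈ PP i → ∃ c, E.nb * c * E.nb⁻¹ ∈ AA i ∧ p * g * p⁻¹ = c * g
  -- cross terms
  cA_C : ∀ i, ∀ a ∈ AA i, ∀ c, E.nb * c * E.nb⁻¹ ∈ AA (!i) → c * a = a * c
  cA_R : ∀ i, ∀ a ∈ AA i, ∀ g, E.na * g * E.na⁻¹ ∈ PP (!i) → g * a = a * g
  cP_P : ∀ i, ∀ p ∈ PP i, ∀ g ∈ PP (!i), g * p = p * g
  cP_R : ∀ i, ∀ p ∈ PP i, ∀ g, E.na * g * E.na⁻¹ ∈ PP (!i) → g * p = p * g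
  -- generation
  C_gen : ∀ i, ∀ c, E.nb * c * E.nb⁻¹ ∈ AA i → ∃ a ∈ AA i, ∃ g, E.na * g * E.na⁻¹ ∈ PP i ∧
    ∃ a' ∈ AA i, ∃ c', E.nb * c' * E.nb⁻¹ ∈ AA i ∧ c = ⁅a, g⁆ * ⁅a', c'⁆
  P_gen : ∀ i, ∀ p ∈ PP i, ∃ a ∈ AA i, ∃ g, E.na * g * E.na⁻¹ ∈ PP i ∧ ∃ c, E.nb * c * E.nb⁻¹ ∈ AA i ∧
    ∃ a' ∈ AA i, ∃ c', E.nb * c' * E.nb⁻¹ ∈ AA i ∧ p = ⁅a, g⁆ * c * ⁅a', c'⁆

/-! ### Conjugates of subgroups -/

section gen

/-- the preimage of `H` under conjugation by `n`. -/
def kj (n : G) (H : Subgroup G) : Subgroup G := H.map (MulAut.conj n⁻¹).toMonoidHom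

theorem mem_kj {n g : G} {H : Subgroup G} : g ∈ kj n H ↔ n * g * n⁻¹ ∈ H := by
  constructor
  · rintro ⟨h, hh, rfl⟩
    change n * (n⁻¹ * h * n⁻¹⁻¹) * n⁻¹ ∈ H
    rw [show n * (n⁻¹ * h * n⁻¹⁻¹) * n⁻¹ = h by group]
    exact hh
  · intro h
    refine ⟨n * g * n⁻¹, h, ?_⟩
    change n⁻¹ * (n * g * n⁻¹) * n⁻¹⁻¹ = g
    group

theorem kj_kj (m n : G) (H : Subgroup G) : kj m (kj n H) = kj (n * m) H := by
  ext g
  rw [mem_kj, mem_kj, mem_kj]
  rw [show n * (m * g * m⁻¹) * n⁻¹ = n * m * g * (n * m)⁻¹ by group]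

theorem kj_one (H : Subgroup G) : kj 1 H = H := by
  ext g
  rw [mem_kj, one_mul, inv_one, mul_one]

theorem kj_sup (n : G) (H K : Subgroup G) : kj n (H ⊔ K) = kj n H ⊔ kj n K := Subgroup.map_sup H K _

theorem kj_mono (n : G) {H K : Subgroup G} (h : H ≤ K) : kj n H ≤ kj n K := Subgroup.map_mono h

theorem kj_comm (n : G) (H K : Subgroup G) : kj n ⁅H, K⁆ = ⁅kj n H, kj n K⁆ := Subgroup.map_commutator H K _

/-- elementwise commuting subgroups. -/
def Cm (H K : Subgroup G) : Prop := H ≤ centralizer (K : Set G)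

theorem cm_iff {H K : Subgroup G} : Cm H K ↔ ∀ x ∈ H, ∀ y ∈ K, y * x = x * y :=
  ⟨fun h x hx y hy => mem_centralizer_iff.1 (h hx) y hy, fun h x hx => mem_centralizer_iff.2 fun y hy => h x hx y hy⟩

theorem Cm.symm {H K : Subgroup G} (h : Cm H K) : Cm K H := le_centralizer_iff.1 h

theorem Cm.kj {H K : Subgroup G} (h : Cm H K) (n : G) : Cm (kj n H) (kj n K) := by
  rw [cm_iff] at h ⊢
  intro x hx y hy
  have h1 := h _ (mem_kj.1 hx) _ (mem_kj.1 hy)
  have h2 : n * (y * x) * n⁻¹ = n * (x * y) * n⁻¹ := by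
    calc n * (y * x) * n⁻¹ = (n * y * n⁻¹) * (n * x * n⁻¹) := by group
      _ = _ := h1
      _ = _ := by group
  exact mul_left_cancel (mul_right_cancel h2)

theorem Cm.sup {H H' K : Subgroup G} (h : Cm H K) (h' : Cm H' K) : Cm (H ⊔ H') K := sup_le h h'
theorem Cm.sup' {H K K' : Subgroup G} (h : Cm H K) (h' : Cm H K') : Cm H (K ⊔ K') := (h.symm.sup h'.symm).symm

theorem Cm.mono {H H' K : Subgroup G} (h : Cm H K) (h' : H' ≤ H) : Cm H' K := le_trans h' h

/-- the product of two subgroups. -/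
def mulS (H K : Subgroup G) (hn : ∀ h ∈ H, ∀ k ∈ K, h * k * h⁻¹ ∈ K) : Subgroup G where
  carrier := {x | ∃ h ∈ H, ∃ k ∈ K, x = h * k}
  mul_mem' := by
    rintro _ _ ⟨h, hh, k, hk, rfl⟩ ⟨h', hh', k', hk', rfl⟩
    refine ⟨h * h', mul_mem hh hh', (h'⁻¹ * k * h'⁻¹⁻¹) * k', mul_mem (hn _ (inv_mem hh') _ hk) hk', by group⟩
  one_mem' := ⟨1, one_mem _, 1, one_mem _, by group⟩
  inv_mem' := by
    rintro _ ⟨h, hh, k, hk, rfl⟩
    exact ⟨h⁻¹, inv_mem hh, h * k⁻¹ * h⁻¹, hn _ hh _ (inv_mem hk), by group⟩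

theorem mulS_eq_sup (H K : Subgroup G) (hn : ∀ h ∈ H, ∀ k ∈ K, h * k * h⁻¹ ∈ K) : mulS H K hn = H ⊔ K := by
  apply le_antisymm
  · rintro _ ⟨h, hh, k, hk, rfl⟩
    exact mul_mem (mem_sup_left hh) (mem_sup_right hk)
  · exact sup_le (fun h hh => ⟨h, hh, 1, one_mem _, by group⟩) (fun k hk => ⟨1, one_mem _, k, hk, by group⟩)

end gen

namespace SplitG

variable {Gr : UFive.Grown E} (D : SplitG Gr)

/-- the eight root groups. -/
def X (i : Bool) : Fin 8 → Subgroup G
  | 0 => kj (E.na * E.nb) (D.PP i)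
  | 1 => D.AA i
  | 2 => D.PP i
  | 3 => kj E.nb (D.AA i)
  | 4 => kj E.na (D.PP i)
  | 5 => kj E.na (D.AA i)
  | 6 => kj (E.na * E.nb * E.na) (D.PP i)
  | 7 => kj (E.na * E.nb) (D.AA i)

theorem nb_inv : E.nb⁻¹ = E.nb := WEnv.inv_of_sq E.nb_sq

theorem kj_na_na (H : Subgroup G) : kj E.na (kj E.na H) = H := by rw [kj_kj, E.na_sq, kj_one]
theorem kj_nb_nb (H : Subgroup G) : kj E.nb (kj E.nb H) = H := by rw [kj_kj, E.nb_sq, kj_one]

include D in
theorem nb_PP (i : Bool) : kj E.nb (D.PP i) = D.PP i := by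
  apply le_antisymm
  · rintro _ ⟨h, hh, rfl⟩
    change E.nb⁻¹ * h * E.nb⁻¹⁻¹ ∈ D.PP i
    rw [nb_inv, D.nb_P h (D.P_le i hh)]
    exact hh
  · intro h hh
    rw [mem_kj, D.nb_P h (D.P_le i hh)]
    exact hh

theorem na_X3 (i : Bool) : kj E.na (kj E.nb (D.AA i)) = kj E.nb (D.AA i) := by
  have h : kj E.nb (D.AA i) ≤ kj E.na (kj E.nb (D.AA i)) := by
    intro c hc
    rw [mem_kj] at hc
    have h1 := D.na_C i _ hc
    have h2 : E.nb * (E.nb * c * E.nb⁻¹) * E.nb⁻¹ = c := by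
      calc E.nb * (E.nb * c * E.nb⁻¹) * E.nb⁻¹ = (E.nb * E.nb) * c * (E.nb * E.nb)⁻¹ := by group
        _ = c := by rw [E.nb_sq]; group
    rw [h2] at h1
    rw [mem_kj]
    rw [kj, nb_inv]
    exact h1
  apply le_antisymm _ h
  have := kj_mono E.na h
  rwa [kj_na_na] at this

theorem nb_X6 (i : Bool) : kj E.nb (D.X i 6) = D.X i 6 := by
  change kj E.nb (kj (E.na * E.nb * E.na) (D.PP i)) = kj (E.na * E.nb * E.na) (D.PP i)
  rw [kj_kj, E.braid, show E.nb * E.na * E.nb * E.na = E.nb * (E.na * E.nb * E.na) by group, ← kj_kj, D.nb_PP]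

theorem na_X7 (i : Bool) : kj E.na (D.X i 7) = D.X i 7 := by
  change kj E.na (kj (E.na * E.nb) (D.AA i)) = kj (E.na * E.nb) (D.AA i)
  have h1 : E.na * E.nb * E.na = (E.nb * E.na) * (E.nb * E.na * E.nb) := by
    have h2 : E.na * E.nb * E.na * E.nb * E.nb = E.nb * E.na * E.nb * E.na * E.nb := by rw [E.braid]
    calc E.na * E.nb * E.na = E.na * E.nb * E.na * (E.nb * E.nb) := by rw [E.nb_sq, mul_one]
      _ = E.na * E.nb * E.na * E.nb * E.nb := by group
      _ = _ := by rw [h2]; group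
  rw [kj_kj, h1, ← kj_kj, ← kj_kj E.na E.nb, D.na_X3, kj_kj,
    show E.nb * (E.nb * E.na * E.nb) = (E.nb * E.nb) * (E.na * E.nb) by group, E.nb_sq, one_mul]

/-- action of `na` -/
theorem na_X (i : Bool) (k : Fin 8) : kj E.na (D.X i k) = D.X i (6 - k) := by
  match k with
  | 0 => exact kj_kj _ _ _
  | 1 => rfl
  | 2 => rfl
  | 3 => exact D.na_X3 i
  | 4 => exact kj_na_na _
  | 5 => exact kj_na_na _
  | 6 =>
    change kj E.na (kj (E.na * E.nb * E.na) (D.PP i)) = kj (E.na * E.nb) (D.PP i)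
    rw [kj_kj, mul_assoc (E.na * E.nb), E.na_sq, mul_one]
  | 7 => exact D.na_X7 i

/-- action of `nb` -/
theorem nb_X (i : Bool) (k : Fin 8) : kj E.nb (D.X i k) = D.X i (4 - k) := by
  match k with
  | 0 =>
    change kj E.nb (kj (E.na * E.nb) (D.PP i)) = kj E.na (D.PP i)
    rw [kj_kj, mul_assoc, E.nb_sq, mul_one]
  | 1 => rfl
  | 2 => exact D.nb_PP i
  | 3 => exact kj_nb_nb _
  | 4 => exact kj_kj _ _ _
  | 5 => exact kj_kj _ _ _
  | 6 => exact D.nb_X6 i
  | 7 =>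
    change kj E.nb (kj (E.na * E.nb) (D.AA i)) = kj E.na (D.AA i)
    rw [kj_kj, mul_assoc, E.nb_sq, mul_one]

/-- the `k`-th and `l`-th root groups of different components commute. -/
def Q (k l : Fin 8) : Prop := ∀ i, Cm (D.X i k) (D.X (!i) l)

variable {D}

theorem Q.swap {k l : Fin 8} (h : D.Q k l) : D.Q l k := by
  intro i
  have := (h (!i)).symm
  rwa [Bool.not_not] at this

theorem Q.na {k l : Fin 8} (h : D.Q k l) : D.Q (6 - k) (6 - l) := by
  intro i
  rw [← D.na_X, ← D.na_X]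
  exact (h i).kj _

theorem Q.nb {k l : Fin 8} (h : D.Q k l) : D.Q (4 - k) (4 - l) := by
  intro i
  rw [← D.nb_X, ← D.nb_X]
  exact (h i).kj _

theorem Q.tr {k l : Fin 8} (h : D.Q k l) : D.Q (k + 2) (l + 2) := by
  have := h.nb.na
  have e : ∀ k : Fin 8, 6 - (4 - k) = k + 2 := by decide
  rwa [e, e] at this

theorem Q.tr' {k l : Fin 8} (h : D.Q k l) (n : ℕ) : ∀ m : Fin 8, (m : ℕ) = n → D.Q (k + 2 * m) (l + 2 * m) := by
  induction n with
  | zero =>
    intro m hm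
    have : m = 0 := Fin.ext hm
    rw [this, mul_zero, add_zero, add_zero]
    exact h
  | succ n ih =>
    intro m hm
    have h1 : n < 8 := by have := m.2; omega
    have h2 := (ih ⟨n, h1⟩ rfl).tr
    have e : ∀ k m m' : Fin 8, (m : ℕ) = m' + 1 → k + 2 * m' + 2 = k + 2 * m := by decide +kernel
    rw [e k m ⟨n, h1⟩ hm, e l m ⟨n, h1⟩ hm] at h2
    exact h2

variable (D)

theorem q11 : D.Q 1 1 := fun i => cm_iff.2 fun x hx y hy =>
  (cAA (Gr := Gr) (D.A_le _ hx) (D.A_le _ hy)).symm.eq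
theorem q12 : D.Q 1 2 := fun i => cm_iff.2 fun x hx y hy => (cAP (Gr := Gr) (D.A_le _ hx) (D.P_le _ hy)).symm.eq
theorem q13 : D.Q 1 3 := fun i => cm_iff.2 fun x hx y hy => D.cA_C i x hx y (mem_kj.1 hy)
theorem q14 : D.Q 1 4 := fun i => cm_iff.2 fun x hx y hy => D.cA_R i x hx y (mem_kj.1 hy)
theorem q22 : D.Q 2 2 := fun i => cm_iff.2 fun x hx y hy => D.cP_P i x hx y hy
theorem q24 : D.Q 2 4 := fun i => cm_iff.2 fun x hx y hy => D.cP_R i x hx y (mem_kj.1 hy)

theorem C_le (i : Bool) : kj E.nb (D.AA i) ≤ Gr.C := fun c hc => (Gr.mem_C c).2 (D.A_le i (mem_kj.1 hc))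
theorem R_le (i : Bool) : kj E.na (D.PP i) ≤ Gr.R := fun c hc => (Gr.mem_R c).2 (D.P_le i (mem_kj.1 hc))

theorem q23 : D.Q 2 3 := fun i => cm_iff.2 fun x hx y hy => (cCP (Gr := Gr) (D.C_le _ hy) (D.P_le _ hx)).eq

theorem cC_R (i j : Bool) {c r : G} (hc : c ∈ D.X i 3) (hr : r ∈ D.X j 4) : c * r = r * c := by
  have h1 : c ∈ kj E.na (kj E.nb (D.AA i)) := by rw [D.na_X3]; exact hc
  have h2 : E.na * c * E.na⁻¹ ∈ Gr.C := D.C_le i (mem_kj.1 h1)
  have h3 := (cCP (Gr := Gr) h2 (D.P_le j (mem_kj.1 hr))).eq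
  have h4 : E.na * (c * r) * E.na⁻¹ = E.na * (r * c) * E.na⁻¹ := by
    calc E.na * (c * r) * E.na⁻¹ = (E.na * c * E.na⁻¹) * (E.na * r * E.na⁻¹) := by group
      _ = _ := h3
      _ = _ := by group
  exact mul_left_cancel (mul_right_cancel h4)

theorem X3_gen (i : Bool) : D.X i 3 ≤ ⁅D.X i 1, D.X i 4⁆ ⊔ ⁅D.X i 1, D.X i 3⁆ := by
  intro c hc
  obtain ⟨a, ha, g, hg, a', ha', c', hc', rfl⟩ := D.C_gen i c (mem_kj.1 hc)
  exact mul_mem (mem_sup_left (commutator_mem_commutator ha (mem_kj.2 hg)))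
    (mem_sup_right (commutator_mem_commutator ha' (mem_kj.2 hc')))

theorem X13_le (i : Bool) : ⁅D.X i 1, D.X i 3⁆ ≤ D.X i 2 := by
  rw [commutator_le]
  intro a ha c hc
  obtain ⟨p, hp, h⟩ := D.A_C i a ha c (mem_kj.1 hc)
  rw [commutatorElement_def, h, mul_inv_cancel_right]
  exact hp

theorem X2_gen (i : Bool) : D.X i 2 ≤ ⁅D.X i 1, D.X i 4⁆ ⊔ D.X i 3 ⊔ ⁅D.X i 1, D.X i 3⁆ := by
  intro p hp
  obtain ⟨a, ha, g, hg, c, hc, a', ha', c', hc', rfl⟩ := D.P_gen i p hp
  exact mul_mem (mem_sup_left (mul_mem (mem_sup_left (commutator_mem_commutator ha (mem_kj.2 hg)))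
    (mem_sup_right (mem_kj.2 hc)))) (mem_sup_right (commutator_mem_commutator ha' (mem_kj.2 hc')))

theorem Cm.comm {H K L : Subgroup G} (h1 : Cm H L) (h2 : Cm K L) : Cm ⁅H, K⁆ L :=
  le_trans (commutator_mono h1 h2) (commutator_le_self _)

theorem q25 : D.Q 2 5 := D.q14.na.swap
theorem q05 : D.Q 0 5 := (D.q14.tr.tr).swap
theorem q35 : D.Q 3 5 := D.q13.tr
theorem q02 : D.Q 0 2 := D.q24.swap.nb
theorem q03 : D.Q 0 3 := D.q14.swap.nb

theorem q15 : D.Q 1 5 := by
  intro i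
  have h1 : D.X i 1 ≤ ⁅D.X i 3, D.X i 0⁆ ⊔ D.X i 2 := by
    have h2 := kj_mono E.nb (D.X3_gen i)
    rw [kj_sup, kj_comm, D.nb_X, D.nb_X, D.nb_X] at h2
    have h3 := kj_mono E.nb (D.X13_le i)
    rw [D.nb_X] at h3
    exact h2.trans (sup_le_sup_left h3 _)
  exact Cm.mono ((Cm.comm (D.q35 i) (D.q05 i)).sup (D.q25 i)) h1

theorem q40 : D.Q 4 0 := by
  intro i
  have h1 : D.X i 4 ≤ ⁅D.X i 5, D.X i 2⁆ ⊔ D.X i 3 ⊔ ⁅D.X i 5, D.X i 3⁆ := by
    have h2 := kj_mono E.na (D.X2_gen i)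
    rw [kj_sup, kj_sup, kj_comm, kj_comm, D.na_X, D.na_X, D.na_X, D.na_X] at h2
    exact h2
  exact Cm.mono (((Cm.comm (D.q05.swap i) (D.q02.swap i)).sup (D.q03.swap i)).sup
    (Cm.comm (D.q05.swap i) (D.q03.swap i))) h1

theorem q_all (k l : Fin 8) : D.Q k l := by
  have base : ∀ d ∈ ([(1,1),(2,2),(1,2),(2,3),(1,3),(2,4),(1,4),(2,5),(1,5),(4,0)] : List (Fin 8 × Fin 8)),
      D.Q d.1 d.2 := by
    intro d hd
    simp only [List.mem_cons, List.not_mem_nil, or_false] at hd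
    rcases hd with rfl | rfl | rfl | rfl | rfl | rfl | rfl | rfl | rfl | rfl
    · exact D.q11
    · exact D.q22
    · exact D.q12
    · exact D.q23
    · exact D.q13
    · exact D.q24
    · exact D.q14
    · exact D.q25
    · exact D.q15
    · exact D.q40
  have key : ∀ k l : Fin 8, ∃ d ∈ ([(1,1),(2,2),(1,2),(2,3),(1,3),(2,4),(1,4),(2,5),(1,5),(4,0)] : List (Fin 8 × Fin 8)),
      ∃ m : Fin 8, (k = d.1 + 2 * m ∧ l = d.2 + 2 * m) ∨ (l = d.1 + 2 * m ∧ k = d.2 + 2 * m) := by decide +kernel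
  obtain ⟨d, hd, m, ⟨rfl, rfl⟩ | ⟨rfl, rfl⟩⟩ := key k l
  · exact (base d hd).tr' m m rfl
  · exact ((base d hd).tr' m m rfl).swap

/-! ### The components -/

/-- the component. -/
def LL (i : Bool) : Subgroup G := ⨆ k, D.X i k

theorem X_LL (i : Bool) (k : Fin 8) : D.X i k ≤ D.LL i := le_iSup (D.X i) k

theorem LL_comm (i : Bool) : Cm (D.LL i) (D.LL (!i)) := by
  refine iSup_le fun k => ?_
  refine Cm.symm (iSup_le fun l => ?_)
  exact (D.q_all k l i).symm

theorem na_LL (i : Bool) : kj E.na (D.LL i) = D.LL i := by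
  have h : kj E.na (D.LL i) ≤ D.LL i := by
    unfold LL kj
    rw [Subgroup.map_iSup]
    refine iSup_le fun k => ?_
    have := D.na_X i k
    unfold kj at this
    rw [this]
    exact D.X_LL i _
  apply le_antisymm h
  have := kj_mono E.na h
  rwa [kj_na_na] at this

theorem nb_LL (i : Bool) : kj E.nb (D.LL i) = D.LL i := by
  have h : kj E.nb (D.LL i) ≤ D.LL i := by
    unfold LL kj
    rw [Subgroup.map_iSup]
    refine iSup_le fun k => ?_
    have := D.nb_X i k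
    unfold kj at this
    rw [this]
    exact D.X_LL i _
  apply le_antisymm h
  have := kj_mono E.nb h
  rwa [kj_nb_nb] at this

theorem LL_perf (i : Bool) : D.LL i ≤ ⁅D.LL i, D.LL i⁆ := by
  have h3 : D.X i 3 ≤ ⁅D.LL i, D.LL i⁆ :=
    (D.X3_gen i).trans (sup_le (commutator_mono (D.X_LL i _) (D.X_LL i _)) (commutator_mono (D.X_LL i _) (D.X_LL i _)))
  have h2 : D.X i 2 ≤ ⁅D.LL i, D.LL i⁆ :=
    (D.X2_gen i).trans (sup_le (sup_le (commutator_mono (D.X_LL i _) (D.X_LL i _)) h3)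
      (commutator_mono (D.X_LL i _) (D.X_LL i _)))
  have hna : ∀ k : Fin 8, D.X i k ≤ ⁅D.LL i, D.LL i⁆ → D.X i (6 - k) ≤ ⁅D.LL i, D.LL i⁆ := by
    intro k hk
    have := kj_mono E.na hk
    rwa [kj_comm, D.na_LL, D.na_X] at this
  have hnb : ∀ k : Fin 8, D.X i k ≤ ⁅D.LL i, D.LL i⁆ → D.X i (4 - k) ≤ ⁅D.LL i, D.LL i⁆ := by
    intro k hk
    have := kj_mono E.nb hk
    rwa [kj_comm, D.nb_LL, D.nb_X] at this
  have h1 : D.X i 1 ≤ _ := hnb 3 h3
  have h4 : D.X i 4 ≤ _ := hna 2 h2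
  have h5 : D.X i 5 ≤ _ := hna 1 h1
  have h0 : D.X i 0 ≤ _ := hnb 4 h4
  have h6 : D.X i 6 ≤ _ := hna 0 h0
  have h7 : D.X i 7 ≤ _ := hnb 5 h5
  refine iSup_le fun k => ?_
  match k with
  | 0 => exact h0
  | 1 => exact h1
  | 2 => exact h2
  | 3 => exact h3
  | 4 => exact h4
  | 5 => exact h5
  | 6 => exact h6
  | 7 => exact h7

theorem t_X (i : Bool) (k : Fin 8) : kj E.t (D.X i k) ≤ D.X (!i) k := by
  have ht : E.t⁻¹ = E.t := E.toWEnv.t_inv
  have hA : ∀ i, kj E.t (D.AA i) ≤ D.AA (!i) := by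
    intro i g hg
    have h1 := D.t_A i _ (mem_kj.1 hg)
    have h2 : E.t * (E.t * g * E.t⁻¹) * E.t⁻¹ = g := by
      calc E.t * (E.t * g * E.t⁻¹) * E.t⁻¹ = (E.t * E.t) * g * (E.t * E.t)⁻¹ := by group
        _ = g := by rw [E.t_sq]; group
    rwa [h2] at h1
  have hP : ∀ i, kj E.t (D.PP i) ≤ D.PP (!i) := by
    intro i g hg
    have h1 := D.t_P i _ (mem_kj.1 hg)
    have h2 : E.t * (E.t * g * E.t⁻¹) * E.t⁻¹ = g := by
      calc E.t * (E.t * g * E.t⁻¹) * E.t⁻¹ = (E.t * E.t) * g * (E.t * E.t)⁻¹ := by group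
        _ = g := by rw [E.t_sq]; group
    rwa [h2] at h1
  have key : ∀ (n : G) (H K : Subgroup G), n * E.t = E.t * n → kj E.t H ≤ K → kj E.t (kj n H) ≤ kj n K := by
    intro n H K hn hK
    rw [kj_kj, hn, ← kj_kj]
    exact kj_mono n hK
  have hna : E.na * E.t = E.t * E.na := E.t_na.symm
  have hnb : E.nb * E.t = E.t * E.nb := E.t_nb.symm
  have hab : E.na * E.nb * E.t = E.t * (E.na * E.nb) := by rw [mul_assoc, hnb, ← mul_assoc, hna, mul_assoc]
  have haba : E.na * E.nb * E.na * E.t = E.t * (E.na * E.nb * E.na) := by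
    rw [mul_assoc (E.na * E.nb), hna, ← mul_assoc, hab]; group
  match k with
  | 0 => exact key _ _ _ hab (hP i)
  | 1 => exact hA i
  | 2 => exact hP i
  | 3 => exact key _ _ _ hnb (hA i)
  | 4 => exact key _ _ _ hna (hP i)
  | 5 => exact key _ _ _ hna (hA i)
  | 6 => exact key _ _ _ haba (hP i)
  | 7 => exact key _ _ _ hab (hA i)

theorem t_LL (i : Bool) {g : G} (hg : g ∈ D.LL i) : E.t * g * E.t⁻¹ ∈ D.LL (!i) := by
  have h : kj E.t (D.LL i) ≤ D.LL (!i) := by
    have h1 : kj E.t (⨆ k, D.X i k) = ⨆ k, kj E.t (D.X i k) := by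
      unfold kj
      exact Subgroup.map_iSup _ _
    unfold LL
    rw [h1]
    exact iSup_le fun k => (D.t_X i k).trans (D.X_LL (!i) k)
  apply h
  rw [mem_kj]
  have h2 : E.t * (E.t * g * E.t⁻¹) * E.t⁻¹ = g := by
    calc E.t * (E.t * g * E.t⁻¹) * E.t⁻¹ = (E.t * E.t) * g * (E.t * E.t)⁻¹ := by group
      _ = g := by rw [E.t_sq]; group
  rw [h2]
  exact hg

end SplitG

end Cfsg.Agent.StdRank2.SC.Five
end

private theorem dce_9dfe5774d3da : _root_.True := by
  try have : _root_.True := by simp only [_root_.Cfsg.Agent.StdRank2.L3W0.Inp.z2.eq_1]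
  try have : _root_.True := by simp only [_root_.Cfsg.Agent.StdRank2.L3W0.Inp.e'.eq_1]
  try have : _root_.True := by simp only [_root_.Cfsg.Agent.StdRank2.L3Four.dat.congr_simp]
  try have : _root_.True := by simp only [_root_.Cfsg.Agent.StdRank2.L3G.Base.mk.congr_simp]
  try have : _root_.True := by simp only [_root_.Cfsg.Agent.StdRank2.L3F.FC.FE.congr_simp]
  try have : _root_.True := by simp only [_root_.Cfsg.Agent.StdRank2.L3W0.Inp.z1.eq_1]
  try have : _root_.True := by simp only [_root_.Cfsg.Agent.StdRank2.SC.Five.kj.eq_1]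
  try have : _root_.True := by simp only [_root_.Cfsg.Agent.StdRank2.L3Four.Start.CU.eq_1]
  try have : _root_.True := by simp only [_root_.Cfsg.Agent.StdRank2.L3W0.Inp.A2.eq_1]
  try have : _root_.True := by simp only [_root_.Cfsg.Agent.StdRank2.L3W0.Inp.A1.eq_1]
  try have : _root_.True := by simp only [_root_.Cfsg.Agent.StdRank2.L3G.Base.comap.eq_1]
  exact _root_.True.intro
end

-- part: StdSpFour/RankOne_mg
section
prune_inst 0x4003000204122020000000000000000000000000200000000800000000008000200000000000000000000200000000020004400000000000000000000000000000000000080480000000008000000000000000000000000000000000000000000000000000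
set_option linter.all false
open scoped Cfsg.Agent.FastGrp

-- part: StdSpFour/RankOne
section
/-!
# Bruhat decomposition of a rank one group in characteristic two, inside a central extension

`X = {x(s)}`, `n` an involution with `n x(1) n = x(1) n x(1)`, `h` with `h x(s) h⁻¹ = x(μ s)`, `n h n = h⁻¹`, `μ` a
generator of `Fˣ`.  Then every element of `⟨X, n X n⟩` is `x(a) h^j` or `x(a) h^j n x(b)`.
-/

set_option autoImplicit false

namespace Cfsg.Agent.StdSpFour.RankOne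

open Subgroup

variable {F G : Type*} [Field F] [Group G]

/-- the data -/
structure Data (F : Type*) [Field F] {G : Type*} [Group G] (x : F → G) (n h : G) (μ : Fˣ) : Prop where
  gen : ∀ β : Fˣ, ∃ j : ℤ, μ ^ j = β
  add : ∀ a b, x (a + b) = x a * x b
  nn : n * n = 1
  one : n * x 1 * n = x 1 * n * x 1
  act : ∀ a, h * x a = x (μ * a) * h
  inv : n * h * n = h⁻¹

namespace Data

variable {x : F → G} {n h : G} {μ : Fˣ} (D : Data F x n h μ)
include D

theorem zero : x 0 = 1 := by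
  have h1 := D.add 0 0
  rw [add_zero] at h1
  exact mul_eq_left.1 h1.symm

theorem neg (a : F) : (x a)⁻¹ = x (-a) := by
  apply inv_eq_of_mul_eq_one_right
  rw [← D.add, add_neg_cancel, D.zero]

theorem n_inv : n⁻¹ = n := inv_eq_of_mul_eq_one_left D.nn

theorem actj (j : ℤ) (a : F) : h ^ j * x a = x ((μ ^ j : Fˣ) * a) * h ^ j := by
  have e : ∀ a, h * x a * h⁻¹ = x (μ * a) := fun a => by rw [D.act, mul_inv_cancel_right]
  have e' : ∀ a, h⁻¹ * x a * h = x ((μ⁻¹ : Fˣ) * a) := by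
    intro a
    have h1 := e ((μ⁻¹ : Fˣ) * a)
    rw [← mul_assoc, ← Units.val_mul, mul_inv_cancel, Units.val_one, one_mul] at h1
    rw [← h1]; group
  induction j using Int.induction_on generalizing a with
  | zero => simp
  | succ i ih =>
    rw [zpow_add_one, mul_assoc, D.act, ← mul_assoc, ih, zpow_add_one μ, Units.val_mul, mul_assoc, mul_assoc]
  | pred i ih =>
    rw [zpow_sub_one, mul_assoc]
    have h1 : h⁻¹ * x a = x ((μ⁻¹ : Fˣ) * a) * h⁻¹ := by rw [← e']; group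
    rw [h1, ← mul_assoc, ih, zpow_sub_one μ, Units.val_mul, mul_assoc, mul_assoc]

theorem invj (j : ℤ) : n * h ^ j * n = h ^ (-j) := by
  have h1 : n * h ^ j * n⁻¹ = (n * h * n⁻¹) ^ j := (conj_zpow).symm
  rw [D.n_inv, D.inv, inv_zpow, ← zpow_neg] at h1
  exact h1

theorem n_h (j : ℤ) : n * h ^ j = h ^ (-j) * n := by
  rw [← D.invj j]
  calc n * h ^ j = n * h ^ j * (n * n) := by rw [D.nn, mul_one]
    _ = _ := by group

/-- `n x(u) n = x(u⁻¹) h^{-2j} n x(u⁻¹)`, `μ^j = u` -/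
theorem n_x_n {u : F} (hu : u ≠ 0) : ∃ j : ℤ, n * x u * n = x u⁻¹ * h ^ j * n * x u⁻¹ := by
  obtain ⟨j, hj⟩ := D.gen (Units.mk0 u hu)
  have hj1 : ((μ ^ j : Fˣ) : F) = u := by rw [hj, Units.val_mk0]
  have hj2 : ((μ ^ (-j) : Fˣ) : F) = u⁻¹ := by rw [zpow_neg, hj, Units.val_inv_eq_inv_val, Units.val_mk0]
  refine ⟨-j + -j, ?_⟩
  have h1 : x u = h ^ j * x 1 * h ^ (-j) := by
    rw [D.actj, hj1, mul_one, zpow_neg, mul_inv_cancel_right]
  have h2 := D.n_h j
  have h3 : h ^ (-j) * n = n * h ^ j := h2.symm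
  have h4 := D.actj (-j) 1
  rw [hj2, mul_one] at h4
  have h5 : x 1 * h ^ j = h ^ j * x u⁻¹ := by
    calc x 1 * h ^ j = h ^ j * (h ^ (-j) * x 1) * h ^ j := by rw [zpow_neg]; group
      _ = h ^ j * x u⁻¹ := by rw [h4, zpow_neg]; group
  calc n * x u * n = (n * h ^ j) * x 1 * (h ^ (-j) * n) := by rw [h1]; group
    _ = (h ^ (-j) * n) * x 1 * (n * h ^ j) := by rw [h2, h3]
    _ = h ^ (-j) * (n * x 1 * n) * h ^ j := by group
    _ = (h ^ (-j) * x 1) * n * (x 1 * h ^ j) := by rw [D.one]; group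
    _ = x u⁻¹ * h ^ (-j) * (n * h ^ j) * x u⁻¹ := by rw [h4, h5]; group
    _ = x u⁻¹ * (h ^ (-j) * h ^ (-j)) * n * x u⁻¹ := by rw [h2]; group
    _ = _ := by rw [← zpow_add]

/-- the big set -/
def Br : Subgroup G where
  carrier := {g | (∃ a, ∃ j : ℤ, g = x a * h ^ j) ∨ ∃ a, ∃ j : ℤ, ∃ b, g = x a * h ^ j * n * x b}
  one_mem' := Or.inl ⟨0, 0, by rw [D.zero, zpow_zero, one_mul]⟩
  mul_mem' := by
    have l1 : ∀ (j : ℤ) a, h ^ j * x a = x ((μ ^ j : Fˣ) * a) * h ^ j := D.actj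
    rintro _ _ (⟨a, j, rfl⟩ | ⟨a, j, b, rfl⟩) (⟨a', j', rfl⟩ | ⟨a', j', b', rfl⟩)
    · left
      refine ⟨a + (μ ^ j : Fˣ) * a', j + j', ?_⟩
      rw [D.add, zpow_add]
      calc x a * h ^ j * (x a' * h ^ j') = x a * (h ^ j * x a') * h ^ j' := by group
        _ = _ := by rw [l1]; group
    · right
      refine ⟨a + (μ ^ j : Fˣ) * a', j + j', b', ?_⟩
      rw [D.add, zpow_add]
      calc x a * h ^ j * (x a' * h ^ j' * n * x b') = x a * (h ^ j * x a') * h ^ j' * n * x b' := by group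
        _ = _ := by rw [l1]; group
    · right
      have e1 : (μ ^ j' : Fˣ) * ((μ ^ (-j') : Fˣ) * (b + a')) = b + a' := by
        rw [← mul_assoc, ← Units.val_mul, ← zpow_add, add_neg_cancel, zpow_zero, Units.val_one, one_mul]
      refine ⟨a, j + -j', (μ ^ (-j') : Fˣ) * (b + a'), ?_⟩
      have e2 := l1 j' ((μ ^ (-j') : Fˣ) * (b + a'))
      rw [e1] at e2
      calc x a * h ^ j * n * x b * (x a' * h ^ j') = x a * h ^ j * n * (x b * x a' * h ^ j') := by group
        _ = x a * h ^ j * (n * h ^ j') * x ((μ ^ (-j') : Fˣ) * (b + a')) := by rw [← D.add, ← e2]; group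
        _ = x a * (h ^ j * h ^ (-j')) * n * x ((μ ^ (-j') : Fˣ) * (b + a')) := by rw [D.n_h]; group
        _ = _ := by rw [← zpow_add]
    · by_cases hu : b + a' = 0
      · left
        refine ⟨a + (μ ^ (j + -j') : Fˣ) * b', j + -j', ?_⟩
        rw [D.add]
        calc x a * h ^ j * n * x b * (x a' * h ^ j' * n * x b')
            = x a * h ^ j * n * (x b * x a') * h ^ j' * n * x b' := by group
          _ = x a * h ^ j * (n * h ^ j' * n) * x b' := by rw [← D.add, hu, D.zero]; group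
          _ = x a * (h ^ (j + -j') * x b') := by rw [D.invj, zpow_add]; group
          _ = _ := by rw [l1]; group
      · right
        obtain ⟨i, hi⟩ := D.n_x_n hu
        have e3 : ∀ y, x y * h ^ (-j') = h ^ (-j') * x ((μ ^ j' : Fˣ) * y) := by
          intro y
          rw [l1, ← mul_assoc, ← Units.val_mul, ← zpow_add, neg_add_cancel, zpow_zero, Units.val_one, one_mul]
        refine ⟨a + (μ ^ j : Fˣ) * (b + a')⁻¹, j + i + j', (μ ^ j' : Fˣ) * (b + a')⁻¹ + b', ?_⟩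
        rw [D.add, D.add]
        calc x a * h ^ j * n * x b * (x a' * h ^ j' * n * x b')
            = x a * h ^ j * n * (x b * x a') * (h ^ j' * n) * x b' := by group
          _ = x a * h ^ j * n * x (b + a') * (h ^ j' * n) * x b' := by rw [← D.add]
          _ = x a * h ^ j * n * x (b + a') * (n * h ^ (-j')) * x b' := by
              rw [D.n_h (-j'), neg_neg]
          _ = x a * h ^ j * (n * x (b + a') * n) * h ^ (-j') * x b' := by group
          _ = x a * (h ^ j * x (b + a')⁻¹) * h ^ i * n * (x (b + a')⁻¹ * h ^ (-j')) * x b' := by rw [hi]; group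
          _ = x a * x ((μ ^ j : Fˣ) * (b + a')⁻¹) * h ^ j * h ^ i * (n * h ^ (-j')) *
                x ((μ ^ j' : Fˣ) * (b + a')⁻¹) * x b' := by rw [l1, e3]; group
          _ = x a * x ((μ ^ j : Fˣ) * (b + a')⁻¹) * (h ^ j * h ^ i * h ^ j') * n *
                (x ((μ ^ j' : Fˣ) * (b + a')⁻¹) * x b') := by rw [D.n_h (-j'), neg_neg]; group
          _ = _ := by rw [← zpow_add, ← zpow_add]
  inv_mem' := by
    have l1 : ∀ (j : ℤ) a, h ^ j * x a = x ((μ ^ j : Fˣ) * a) * h ^ j := D.actj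
    rintro _ (⟨a, j, rfl⟩ | ⟨a, j, b, rfl⟩)
    · left
      refine ⟨(μ ^ (-j) : Fˣ) * (-a), -j, ?_⟩
      rw [mul_inv_rev, D.neg, ← zpow_neg, l1]
    · right
      refine ⟨-b, j, -a, ?_⟩
      have h1 := D.n_h (-j)
      rw [neg_neg] at h1
      rw [mul_inv_rev, mul_inv_rev, mul_inv_rev, D.neg, D.neg, D.n_inv, ← zpow_neg, ← mul_assoc, ← mul_assoc,
        mul_assoc (x (-b)), h1, ← mul_assoc]

theorem mem_Br {g : G} : g ∈ D.Br ↔
    (∃ a, ∃ j : ℤ, g = x a * h ^ j) ∨ ∃ a, ∃ j : ℤ, ∃ b, g = x a * h ^ j * n * x b := Iff.rfl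

theorem x_mem (a : F) : x a ∈ D.Br := Or.inl ⟨a, 0, by rw [zpow_zero, mul_one]⟩

theorem n_mem : n ∈ D.Br := Or.inr ⟨0, 0, 0, by rw [D.zero, zpow_zero, one_mul, one_mul, mul_one]⟩

theorem nxn_mem (a : F) : n * x a * n⁻¹ ∈ D.Br :=
  mul_mem (mul_mem D.n_mem (D.x_mem a)) (inv_mem D.n_mem)

end Data

/-- correcting the torus element: `n h n h = k` with `k` central of odd order -/
theorem exists_corr {G : Type*} [Group G] {n h k : G} (nn : n * n = 1) (hk : n * h * n * h = k) (ho : Odd (orderOf k))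
    (hkn : k * n = n * k) : ∃ j : ℕ, n * (h * k ^ j) * n = (h * k ^ j)⁻¹ := by
  obtain ⟨m, hm⟩ := ho
  have n_inv : n⁻¹ = n := inv_eq_of_mul_eq_one_left nn
  -- `k` commutes with `h`
  have h1 : h * n * h * n = k := by
    have : n * k * n = k := by rw [← hkn, mul_assoc, nn, mul_one]
    rw [← this, ← hk]
    calc h * n * h * n = (n * n) * h * n * h * n := by rw [nn, one_mul]
      _ = _ := by group
  have hkh : Commute k h := by
    show k * h = h * k
    calc k * h = h * (n * h * n * h) := by rw [← h1]; group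
      _ = _ := by rw [hk]
  have hkn' : Commute k n := hkn
  refine ⟨m, ?_⟩
  have e1 : Commute (k ^ m) h := hkh.pow_left m
  have e2 : Commute (k ^ m) n := hkn'.pow_left m
  rw [eq_comm, inv_eq_iff_mul_eq_one]
  have e3 : k ^ m * k ^ m * k = 1 := by
    rw [← pow_add, ← pow_succ, show m + m + 1 = orderOf k by omega, pow_orderOf_eq_one]
  calc h * k ^ m * (n * (h * k ^ m) * n) = h * (k ^ m * n) * h * (k ^ m * n) := by group
    _ = h * n * (k ^ m * h) * n * k ^ m := by rw [e2.eq]; group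
    _ = h * n * h * (k ^ m * n) * k ^ m := by rw [e1.eq]; group
    _ = (h * n * h * n) * (k ^ m * k ^ m) := by rw [e2.eq]; group
    _ = k * (k ^ m * k ^ m) := by rw [h1]
    _ = k ^ m * k ^ m * k := by rw [← pow_add, ← pow_succ, ← pow_succ']
    _ = 1 := e3

end Cfsg.Agent.StdSpFour.RankOne
end

-- part: StdSpFour/RootRestrict
section
/-!
S1778, type Sp₄(q): restriction of an `Eight` of `G` to a subgroup `E` which contains the root groups.
-/

set_option autoImplicit false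

namespace Cfsg.Agent.StdSpFour.RootEight

open Subgroup Cfsg.Agent.SplitTwo

variable {G : Type*} [Group G] {E : Subgroup G}

theorem map_sub {H : Subgroup G} (h : H ≤ E) : (H.subgroupOf E).map E.subtype = H := by
  rw [subgroupOf_map_subtype]
  exact inf_eq_left.2 h

theorem le_of_map {A B : Subgroup ↥E} (h : A.map E.subtype ≤ B.map E.subtype) : A ≤ B :=
  (Subgroup.map_le_map_iff_of_injective E.subtype_injective).1 h

theorem eq_of_map {A B : Subgroup ↥E} (h : A.map E.subtype = B.map E.subtype) : A = B :=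
  le_antisymm (le_of_map h.le) (le_of_map h.ge)

theorem map_cjS (g : ↥E) (A : Subgroup ↥E) : (cjS g A).map E.subtype = cjS (g : G) (A.map E.subtype) := by
  ext x
  constructor
  · rintro ⟨_, ⟨y, hy, rfl⟩, rfl⟩
    exact ⟨y, ⟨y, hy, rfl⟩, rfl⟩
  · rintro ⟨_, ⟨y, hy, rfl⟩, rfl⟩
    exact ⟨g * y * g⁻¹, ⟨y, hy, rfl⟩, rfl⟩

/-- restriction to `E` -/
def Eight.restrict (R : Eight G) (hX : ∀ i, R.X i ≤ E) (hna : R.na ∈ E) (hnb : R.nb ∈ E) : Eight ↥E where
  X i := (R.X i).subgroupOf E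
  na := ⟨R.na, hna⟩
  nb := ⟨R.nb, hnb⟩
  na_X i := by
    apply eq_of_map
    rw [map_cjS, map_sub (hX _), map_sub (hX _)]
    exact R.na_X i
  nb_X i := by
    apply eq_of_map
    rw [map_cjS, map_sub (hX _), map_sub (hX _)]
    exact R.nb_X i
  ne0 := by
    intro h
    apply R.ne0
    rw [← map_sub (hX 0), h, Subgroup.map_bot]
  ne1 := by
    intro h
    apply R.ne1
    rw [← map_sub (hX 1), h, Subgroup.map_bot]
  c01 := by
    apply eq_of_map
    rw [Subgroup.map_commutator, map_sub (hX _), map_sub (hX _), Subgroup.map_bot]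
    exact R.c01
  c12 := by
    apply eq_of_map
    rw [Subgroup.map_commutator, map_sub (hX _), map_sub (hX _), Subgroup.map_bot]
    exact R.c12
  c02 := by
    apply le_of_map
    rw [Subgroup.map_commutator, map_sub (hX _), map_sub (hX _), map_sub (hX _)]
    exact R.c02
  c13 := by
    apply le_of_map
    rw [Subgroup.map_commutator, map_sub (hX _), map_sub (hX _), map_sub (hX _)]
    exact R.c13
  c03 := by
    apply le_of_map
    rw [Subgroup.map_commutator, Subgroup.map_sup, map_sub (hX _), map_sub (hX _), map_sub (hX _), map_sub (hX _)]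
    exact R.c03
  i0 := by
    apply eq_of_map
    rw [Subgroup.map_inf _ _ _ E.subtype_injective, Subgroup.map_sup, Subgroup.map_sup, map_sub (hX _),
      map_sub (hX _), map_sub (hX _), map_sub (hX _), Subgroup.map_bot]
    exact R.i0
  i3 := by
    apply eq_of_map
    rw [Subgroup.map_inf _ _ _ E.subtype_injective, Subgroup.map_sup, Subgroup.map_sup, map_sub (hX _),
      map_sub (hX _), map_sub (hX _), map_sub (hX _), Subgroup.map_bot]
    exact R.i3
  mu0 := by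
    intro u hu hu1
    obtain ⟨v, hv, v', hv', h⟩ := R.mu0 u (mem_subgroupOf.1 hu) (fun e => hu1 (Subtype.ext e))
    refine ⟨⟨v, hX 4 hv⟩, mem_subgroupOf.2 hv, ⟨v', hX 4 hv'⟩, mem_subgroupOf.2 hv', fun j => ?_⟩
    apply eq_of_map
    rw [map_cjS, map_sub (hX _), map_sub (hX _)]
    exact h j
  mu3 := by
    intro u hu hu1
    obtain ⟨v, hv, v', hv', h⟩ := R.mu3 u (mem_subgroupOf.1 hu) (fun e => hu1 (Subtype.ext e))
    refine ⟨⟨v, hX 7 hv⟩, mem_subgroupOf.2 hv, ⟨v', hX 7 hv'⟩, mem_subgroupOf.2 hv', fun j => ?_⟩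
    apply eq_of_map
    rw [map_cjS, map_sub (hX _), map_sub (hX _)]
    exact h j

/-- **`RootSys 4 E` from an `Eight` of `G`** -/
def Eight.rootSysIn (R : Eight G) (gen : (⨆ i, R.X i) = E) (hna : R.na ∈ E) (hnb : R.nb ∈ E) {p : ℕ}
    (hp : p.Prime) (h0 : IsPGroup p (R.X 0)) (h1 : IsPGroup p (R.X 1)) : RootSys 4 ↥E :=
  have hX : ∀ i, R.X i ≤ E := fun i => gen ▸ le_iSup R.X i
  (R.restrict hX hna hnb).rootSys (by
    apply eq_of_map
    rw [Subgroup.map_iSup]
    have h2 : ∀ i, ((R.restrict hX hna hnb).X i).map E.subtype = R.X i := fun i => map_sub (hX i)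
    rw [iSup_congr h2, gen, ← MonoidHom.range_eq_map, Subgroup.range_subtype]) hp
    (h0.comap_subtype) (h1.comap_subtype)

end Cfsg.Agent.StdSpFour.RootEight
end

-- part: StdSpFour/CaseCInv
section
/-!
# S1778, type Sp₄(q), case (C): the model `T5 (Rg E)`

Semilinear endomorphisms, `tau`, Hilbert 90, involutions, counting.
-/

set_option autoImplicit false
set_option linter.unusedSectionVars false

namespace Cfsg.Agent.StdSpFour.CaseCInv

open Cfsg.Agent.StdSpFour.CaseC Cfsg.Agent.StdSpFour.UFiveModel Cfsg.Agent.StdRank2.OutField QuadraticAlgebra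

section two

variable {K : Type*} [CommRing K] [CharP K 2]

theorem two0 : (2 : K) = 0 := CharTwo.two_eq_zero

theorem n4 : (4 : K) = 0 := by rw [show (4 : K) = 2 * 2 by norm_num, two0, zero_mul]
theorem n6 : (6 : K) = 0 := by rw [show (6 : K) = 2 * 3 by norm_num, two0, zero_mul]
theorem n8 : (8 : K) = 0 := by rw [show (8 : K) = 2 * 4 by norm_num, two0, zero_mul]

theorem eq_of_add {x y : K} (h : x + y = 0) : x = y := by
  linear_combination h - y * two0 (K := K)

end two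

/-- normalisation modulo 2 -/
macro "c2n" : tactic => `(tactic| (ring_nf; try simp only [two0, n4, n6, n8, mul_zero,
  zero_mul, add_zero, zero_add, sub_zero, neg_zero]))

section generic

variable {K : Type*} [CommRing K] [StarRing K] [CharP K 2]

/-- the endomorphism of `T5 K` induced by `s : K →+* K` commuting with `star` -/
def map (s : K →+* K) (hs : ∀ w, s (star w) = star (s w)) : T5 K →* T5 K where
  toFun x :=
    { w1 := s x.w1
      w2 := s x.w2
      w3 := s x.w3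
      c := s x.c
      y := s x.y
      d := s x.d
      hc := by rw [← hs, ← hs, ← hs, ← hs, ← map_add, x.hc]; simp only [map_add, map_mul]
      hd := by rw [← hs, ← hs, ← map_add, x.hd, map_mul] }
  map_one' := by ext <;> simp [T5.one_w1, T5.one_w2, T5.one_w3, T5.one_c, T5.one_y, T5.one_d]
  map_mul' x y := by
    ext <;> simp only [T5.mul_w1, T5.mul_w2, T5.mul_w3, T5.mul_c, T5.mul_y, T5.mul_d, map_add, map_mul, hs]

variable {s : K →+* K} {hs : ∀ w, s (star w) = star (s w)}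

theorem map_w1 (x : T5 K) : (map s hs x).w1 = s x.w1 := rfl
theorem map_w2 (x : T5 K) : (map s hs x).w2 = s x.w2 := rfl
theorem map_w3 (x : T5 K) : (map s hs x).w3 = s x.w3 := rfl
theorem map_c (x : T5 K) : (map s hs x).c = s x.c := rfl
theorem map_y (x : T5 K) : (map s hs x).y = s x.y := rfl
theorem map_d (x : T5 K) : (map s hs x).d = s x.d := rfl

/-- the action of `t` -/
def tau : T5 K →* T5 K := map (starRingEnd K) (fun _ => rfl)

theorem tau_w1 (x : T5 K) : (tau x).w1 = star x.w1 := rfl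
theorem tau_w2 (x : T5 K) : (tau x).w2 = star x.w2 := rfl
theorem tau_w3 (x : T5 K) : (tau x).w3 = star x.w3 := rfl
theorem tau_c (x : T5 K) : (tau x).c = star x.c := rfl
theorem tau_y (x : T5 K) : (tau x).y = star x.y := rfl
theorem tau_d (x : T5 K) : (tau x).d = star x.d := rfl

theorem tau_tau (x : T5 K) : tau (tau x) = x := by
  ext <;> simp only [tau_w1, tau_w2, tau_w3, tau_c, tau_y, tau_d, star_star]

/-- root elements -/
def eA (w : K) : T5 K := ⟨w, 0, 0, 0, 0, 0, by simp only [_root_.star_zero, _root_.add_zero, _root_.MulZeroClass.mul_zero, _root_.MulZeroClass.zero_mul], by simp⟩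
def eX (w : K) : T5 K := ⟨0, 0, w, 0, 0, 0, by simp only [_root_.star_zero, _root_.add_zero, _root_.MulZeroClass.zero_mul, _root_.MulZeroClass.mul_zero], by simp⟩

section

variable {φ : T5 K →* T5 K}

theorem sol_conj {M : Type*} [Group M] {φ : M →* M} {x y1 : M} (h : ∃ y, φ y * (φ y1 * x * y1⁻¹) = y) :
    ∃ y, φ y * x = y := by
  obtain ⟨y, hy⟩ := h
  refine ⟨y * y1, ?_⟩
  calc φ (y * y1) * x = φ y * (φ y1 * x * y1⁻¹) * y1 := by rw [map_mul]; group
    _ = _ := by rw [hy]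

theorem tw_conj {M : Type*} [Group M] {φ : M →* M} (hφ : ∀ x, φ (φ x) = x) {x y1 : M} (h : φ x * x = 1) :
    φ (φ y1 * x * y1⁻¹) * (φ y1 * x * y1⁻¹) = 1 := by
  calc φ (φ y1 * x * y1⁻¹) * (φ y1 * x * y1⁻¹) = φ (φ y1) * φ x * (φ y1)⁻¹ * (φ y1 * x * y1⁻¹) := by
        rw [map_mul, map_mul, map_inv]
    _ = y1 * (φ x * x) * y1⁻¹ := by rw [hφ]; group
    _ = 1 := by rw [h]; group

end

macro "t5" : tactic => `(tactic| simp only [T5.mul_w1, T5.mul_w2, T5.mul_w3, T5.mul_c, T5.mul_y, T5.mul_d,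
  T5.inv_w1, T5.inv_w2, T5.inv_w3, T5.inv_c, T5.inv_y, T5.inv_d, T5.one_w1, T5.one_w2, T5.one_w3, T5.one_c, T5.one_y,
  T5.one_d, map_w1, map_w2, map_w3, map_c, map_y, map_d, tau_w1, tau_w2, tau_w3, tau_c, tau_y, tau_d,
  star_add, star_mul', star_star, star_zero, star_one, map_add, map_mul, map_zero, map_one, mul_zero, zero_mul,
  add_zero, zero_add])

macro "t5" "at" h:ident : tactic => `(tactic| simp only [T5.mul_w1, T5.mul_w2, T5.mul_w3, T5.mul_c, T5.mul_y, T5.mul_d,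
  T5.inv_w1, T5.inv_w2, T5.inv_w3, T5.inv_c, T5.inv_y, T5.inv_d, T5.one_w1, T5.one_w2, T5.one_w3, T5.one_c, T5.one_y,
  T5.one_d, map_w1, map_w2, map_w3, map_c, map_y, map_d, tau_w1, tau_w2, tau_w3, tau_c, tau_y, tau_d,
  star_add, star_mul', star_star, star_zero, star_one, map_add, map_mul, map_zero, map_one, mul_zero, zero_mul,
  add_zero, zero_add] at $h:ident)

/-- **Hilbert 90** for a semilinear involution with a trace element `u` fixed by `star` -/
theorem h90 (hss : ∀ w, s (s w) = w) {u θ : K} (hu : star u = u) (hsu : u + s u = 1) (hθ : θ + star θ = 1)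
    {x : T5 K} (hx : map s hs x * x = 1) : ∃ y, map s hs y * x = y := by
  have hmm : ∀ z : T5 K, map s hs (map s hs z) = z := by
    intro z
    ext <;> simp only [map_w1, map_w2, map_w3, map_c, map_y, map_d, hss]
  have key : ∀ w : K, s w + w = 0 → s u * s w + w + u * w = 0 := by
    intro w hw
    linear_combination (norm := c2n) s u * hw + w * hsu
  -- kill `w1`
  suffices H : ∀ x : T5 K, map s hs x * x = 1 → x.w1 = 0 → ∃ y, map s hs y * x = y by
    refine sol_conj (y1 := eA (u * x.w1)) (H _ (tw_conj hmm hx) ?_)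
    have h3 := congrArg T5.w1 hx
    t5 at h3
    show s (u * x.w1) + x.w1 + u * x.w1 = 0
    rw [map_mul]
    exact key _ h3
  clear hx x
  -- kill `y`
  suffices H : ∀ x : T5 K, map s hs x * x = 1 → x.w1 = 0 → x.y = 0 → ∃ y, map s hs y * x = y by
    intro x hx h1
    have h3 := congrArg T5.y hx
    t5 at h3
    refine sol_conj (y1 := ⟨0, 0, 0, 0, u * x.y, (u * x.y) * star (u * x.y) * θ, by simp, by
      simp only [star_mul', star_star]; linear_combination (u * x.y * (star u * star x.y)) * hθ⟩)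
      (H _ (tw_conj hmm hx) ?_ ?_)
    · t5; exact h1
    · show s (u * x.y) + x.y + u * x.y = 0
      rw [map_mul]
      exact key _ h3
  -- kill `w2`
  suffices H : ∀ x : T5 K, map s hs x * x = 1 → x.w1 = 0 → x.y = 0 → x.w2 = 0 → ∃ y, map s hs y * x = y by
    intro x hx h1 h2
    have h3 := congrArg T5.w2 hx
    t5 at h3
    rw [h1, h2] at h3
    t5 at h3
    refine sol_conj (y1 := ⟨0, u * x.w2, 0, (u * x.w2) * star (u * x.w2) * θ, 0, 0, by
      simp only [star_mul', star_star, star_zero]; linear_combination (u * x.w2 * (star u * star x.w2)) * hθ, by simp⟩)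
      (H _ (tw_conj hmm hx) ?_ ?_ ?_)
    · t5; exact h1
    · t5; exact h2
    · t5
      linear_combination key _ h3
  -- kill `d`
  suffices H : ∀ x : T5 K, map s hs x * x = 1 → x.w1 = 0 → x.y = 0 → x.w2 = 0 → x.d = 0 → ∃ y, map s hs y * x = y by
    intro x hx h1 h2 h4
    have h3 := congrArg T5.d hx
    t5 at h3
    rw [h2] at h3
    t5 at h3
    have h5 := x.hd
    rw [h2, zero_mul] at h5
    have h6 : star x.d = x.d := by linear_combination (norm := c2n) h5
    refine sol_conj (y1 := ⟨0, 0, 0, 0, 0, u * x.d, by simp, by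
      rw [star_mul', hu, h6]; linear_combination (norm := c2n)⟩)
      (H _ (tw_conj hmm hx) ?_ ?_ ?_ ?_)
    · t5; exact h1
    · t5; exact h2
    · t5; exact h4
    · t5
      rw [hu, h6]
      linear_combination key _ h3
  -- kill `w3`
  suffices H : ∀ x : T5 K, map s hs x * x = 1 → x.w1 = 0 → x.y = 0 → x.w2 = 0 → x.d = 0 → x.w3 = 0 →
      ∃ y, map s hs y * x = y by
    intro x hx h1 h2 h4 h5
    have h3 := congrArg T5.w3 hx
    t5 at h3
    rw [h1, h4] at h3
    t5 at h3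
    refine sol_conj (y1 := eX (u * x.w3)) (H _ (tw_conj hmm hx) ?_ ?_ ?_ ?_ ?_)
    · show s 0 + x.w1 + 0 = 0
      rw [h1, map_zero]; ring
    · show s 0 + x.y + 0 = 0
      rw [h2, map_zero]; ring
    · unfold eX; t5; exact h4
    · unfold eX; t5; exact h5
    · unfold eX; t5
      linear_combination key _ h3
  intro x hx h1 h2 h4 h5 h6
  have h3 := congrArg T5.c hx
  t5 at h3
  rw [h1, h4, h6] at h3
  t5 at h3
  have h7 := x.hc
  rw [h1, h4, h6] at h7
  t5 at h7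
  have h8 : star x.c = x.c := by linear_combination (norm := c2n) h7
  refine ⟨⟨0, 0, 0, u * x.c, 0, 0, by rw [star_mul', hu, h8]; linear_combination (norm := c2n), by simp⟩, ?_⟩
  ext
  · t5; exact h1
  · t5; rw [h4]
  · t5; exact h6
  · t5; linear_combination (norm := c2n) key _ h3
  · t5; exact h2
  · t5; exact h5

/-- the involutions of `t T` are conjugate to `t` under `T` -/
theorem tau_h90 (hsq : ∀ c : K, ∃ v, v * v = c) (hred : ∀ a : K, a * a = 0 → a = 0) {θ : K} (hθ : θ + star θ = 1)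
    {x : T5 K} (hx : tau x * x = 1) : ∃ y, tau y * x = y := by
  have key : ∀ w : K, star w + w = 0 → star θ * star w + w + θ * w = 0 := by
    intro w hw
    linear_combination (norm := c2n) star θ * hw + w * hθ
  have hinj : ∀ a b : K, a * a = b * b → a = b := by
    intro a b h
    apply eq_of_add
    apply hred
    linear_combination (norm := c2n) h
  -- kill `w1`
  suffices H : ∀ x : T5 K, tau x * x = 1 → x.w1 = 0 → ∃ y, tau y * x = y by
    refine sol_conj (y1 := eA (θ * x.w1)) (H _ (tw_conj tau_tau hx) ?_)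
    have h3 := congrArg T5.w1 hx
    t5 at h3
    show star (θ * x.w1) + x.w1 + θ * x.w1 = 0
    rw [star_mul']
    exact key _ h3
  clear hx x
  -- kill `y`, `d`
  suffices H : ∀ x : T5 K, tau x * x = 1 → x.w1 = 0 → x.y = 0 → x.d = 0 → ∃ y, tau y * x = y by
    intro x hx h1
    have h3 := congrArg T5.y hx
    t5 at h3
    obtain ⟨v, hv⟩ := hsq x.d
    have h4 : star v + v = x.y := by
      apply hinj
      have h5 : star v * star v = star x.d := by rw [← hv, star_mul']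
      linear_combination (norm := c2n) h5 + hv + x.hd + x.y * h3
    refine sol_conj (y1 := ⟨0, 0, 0, 0, v, v * star v * θ, by simp, by
      simp only [star_mul', star_star]; linear_combination (v * star v) * hθ⟩)
      (H _ (tw_conj tau_tau hx) ?_ ?_ ?_)
    · t5; exact h1
    · t5
      linear_combination (norm := c2n) h4
    · t5
      linear_combination (norm := c2n) v * h3 + hv
  -- kill `w2`, `c`
  suffices H : ∀ x : T5 K, tau x * x = 1 → x.w1 = 0 → x.y = 0 → x.d = 0 → x.w2 = 0 → x.c = 0 → ∃ y, tau y * x = y by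
    intro x hx h1 h2 h5
    have h3 := congrArg T5.w2 hx
    t5 at h3
    rw [h1, h2] at h3
    t5 at h3
    obtain ⟨v', hv'⟩ := hsq x.c
    obtain ⟨v, rfl⟩ : ∃ v, v' = star v := ⟨star v', (star_star _).symm⟩
    have h4 : star v + v = x.w2 := by
      apply hinj
      have h5 : v * v = star x.c := by rw [← hv', star_mul', star_star]
      have h6 := x.hc
      rw [h1] at h6
      t5 at h6
      linear_combination (norm := c2n) h5 + hv' + h6 + x.w2 * h3
    refine sol_conj (y1 := ⟨0, v, 0, v * star v * θ, 0, 0, by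
      simp only [star_mul', star_star, star_zero]; linear_combination (v * star v) * hθ, by simp⟩)
      (H _ (tw_conj tau_tau hx) ?_ ?_ ?_ ?_ ?_)
    · t5; exact h1
    · t5; exact h2
    · t5; exact h5
    · t5
      linear_combination (norm := c2n) h4
    · t5
      rw [h1]
      linear_combination (norm := c2n) star v * h3 + hv'
  intro x hx h1 h2 h4 h5 h6
  have h3 := congrArg T5.w3 hx
  t5 at h3
  rw [h1, h5] at h3
  t5 at h3
  refine ⟨eX (θ * x.w3), ?_⟩
  unfold eX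
  ext
  · t5; exact h1
  · t5; rw [h5]
  · t5; linear_combination (norm := c2n) key _ h3
  · t5; rw [h6, h1]; simp only [_root_.star_zero, _root_.MulZeroClass.mul_zero, _root_.add_zero]
  · t5; exact h2
  · t5; exact h4

end generic

/-! ### the ring `Rg E` -/

section concrete

variable {F : Type*} [Field F] [CharP F 2] {E : F}

instance charRg : CharP (Rg E) 2 :=
  charP_of_injective_algebraMap (R := F) (A := Rg E) QuadraticAlgebra.algebraMap_injective 2

/-- components -/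
macro "cm" : tactic => `(tactic| simp only [nm, th, re_mul, im_mul, re_add, im_add, re_star, im_star, re_smul, im_smul,
  smul_eq_mul, re_zero, im_zero, re_one, im_one, re_neg, im_neg])

theorem th_add : (th : Rg E) + star th = 1 := by
  ext <;> cm <;> linear_combination (norm := c2n)

theorem star_ofF (a : F) : star (⟨a, 0⟩ : Rg E) = ⟨a, 0⟩ := by
  ext <;> cm <;> ring

theorem eq_ofF {w : Rg E} (h : w + star w = 0) : w = ⟨w.re, 0⟩ := by
  have h1 := congrArg re h
  simp only [re_add, re_star, re_zero] at h1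
  ext
  · rfl
  · show w.im = 0
    linear_combination (norm := c2n) h1

theorem eq_ofF' {w : Rg E} (h : star w = w) : w = ⟨w.re, 0⟩ :=
  eq_ofF (by rw [h]; exact CharTwo.add_self_eq_zero w)

theorem hred (a : Rg E) (h : a * a = 0) : a = 0 := by
  have h1 := congrArg re h
  have h2 := congrArg im h
  simp only [re_mul, im_mul, re_zero, im_zero] at h1 h2
  have h3 : a.im = 0 := by
    have : a.im * a.im = 0 := by linear_combination (norm := c2n) h2
    exact mul_self_eq_zero.1 this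
  rw [h3] at h1
  have h4 : a.re = 0 := by
    have : a.re * a.re = 0 := by linear_combination (norm := c2n) h1
    exact mul_self_eq_zero.1 this
  ext
  · exact h4
  · exact h3

theorem hsq [Finite F] (c : Rg E) : ∃ v, v * v = c := by
  obtain ⟨b, hb⟩ := exists_sqrt (F := F) c.im
  obtain ⟨a, ha⟩ := exists_sqrt (F := F) (c.re + E * c.im)
  refine ⟨⟨a, b⟩, ?_⟩
  ext <;> cm
  · linear_combination (norm := c2n) ha + E * hb
  · linear_combination (norm := c2n) hb

/-- **all involutions of `t T` are conjugate to `t` under `T`** -/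
theorem tau_normal [Finite F] {x : T5 (Rg E)} (hx : tau x * x = 1) : ∃ y, tau y * x = y :=
  tau_h90 hsq hred th_add hx

/-! ### semilinear endomorphisms -/

/-- a ring endomorphism of `Rg E` commuting with `star`, extending `σ` -/
structure Sem (E : F) (σ : F ≃+* F) where
  s : Rg E →+* Rg E
  hs : ∀ w, s (star w) = star (s w)
  hC : ∀ a : F, s ⟨a, 0⟩ = ⟨σ a, 0⟩

variable {σ σ' : F ≃+* F}

/-- the endomorphism of `T5` -/
def Sem.m (s : Sem E σ) : T5 (Rg E) →* T5 (Rg E) := map s.s s.hs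

def Sem.comp (s : Sem E σ) (s' : Sem E σ') : Sem E (σ * σ') where
  s := s.s.comp s'.s
  hs w := by show s.s (s'.s (star w)) = star (s.s (s'.s w)); rw [s'.hs, s.hs]
  hC a := by show s.s (s'.s ⟨a, 0⟩) = ⟨σ (σ' a), 0⟩; rw [s'.hC, s.hC]

theorem Sem.comp_m (s : Sem E σ) (s' : Sem E σ') (x : T5 (Rg E)) : (s.comp s').m x = s.m (s'.m x) := rfl

def Sem.one : Sem E 1 where
  s := RingHom.id _
  hs _ := rfl
  hC _ := rfl

theorem Sem.one_m (x : T5 (Rg E)) : (Sem.one (E := E)).m x = x := rfl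

def Sem.conj : Sem E 1 where
  s := starRingEnd _
  hs _ := rfl
  hC a := star_ofF a

theorem Sem.conj_m (x : T5 (Rg E)) : (Sem.conj (E := E)).m x = tau x := rfl

theorem Sem.m_tau (s : Sem E σ) (x : T5 (Rg E)) : s.m (tau x) = tau (s.m x) := by
  ext1
  all_goals exact s.hs _

/-- the endomorphism `θ ↦ θ + δ` -/
def Sem.mk' (σ : F ≃+* F) (δ : F) (h : σ E = E + δ + δ ^ 2) : Sem E σ where
  s :=
    { toFun := fun w => ⟨σ w.re + δ * σ w.im, σ w.im⟩
      map_one' := by ext <;> simp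
      map_mul' := fun w w' => by
        ext
        · show σ (w * w').re + δ * σ (w * w').im = _
          cm
          simp only [map_add, map_mul, map_one]
          rw [h]
          linear_combination (norm := c2n)
        · show σ (w * w').im = _
          cm
          simp only [map_add, map_mul, map_one]
          linear_combination (norm := c2n)
      map_zero' := by ext <;> simp
      map_add' := fun w w' => by
        ext
        · show σ (w + w').re + δ * σ (w + w').im = _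
          cm
          simp only [map_add]
          ring
        · show σ (w + w').im = _
          cm
          rw [map_add] }
  hs w := by
    ext
    · show σ (star w).re + δ * σ (star w).im = (star (⟨_, _⟩ : Rg E)).re
      cm
      simp only [map_add, map_mul, map_one, map_neg]
      linear_combination (norm := c2n)
    · show σ (star w).im = (star (⟨_, _⟩ : Rg E)).im
      cm
      rw [map_neg]
  hC a := by
    ext
    · show σ a + δ * σ 0 = σ a
      rw [map_zero]; ring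
    · show σ 0 = 0
      exact map_zero σ

theorem Sem.mk'_apply {δ : F} (h : σ E = E + δ + δ ^ 2) (w : Rg E) :
    (Sem.mk' σ δ h).s w = ⟨σ w.re + δ * σ w.im, σ w.im⟩ := rfl

/-! ### coordinates, orders -/

theorem her_im (w1 w2 w3 : Rg E) : (w1 * star w3 + w2 * star w2 + w3 * star w1).im = 0 := by
  cm
  linear_combination (norm := c2n)

theorem nrm_im (y : Rg E) : (y * star y).im = 0 := by
  cm
  linear_combination (norm := c2n)

/-- an element from its coordinates -/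
def mkT (w1 w2 w3 y : Rg E) (c d : F) : T5 (Rg E) where
  w1 := w1
  w2 := w2
  w3 := w3
  y := y
  c := ⟨c, (w1 * star w3 + w2 * star w2 + w3 * star w1).re⟩
  d := ⟨d, (y * star y).re⟩
  hc := by
    ext
    · simp only [re_add, re_star]
      linear_combination (norm := c2n)
    · rw [her_im]
      simp only [im_add, im_star]
      linear_combination (norm := c2n)
  hd := by
    ext
    · simp only [re_add, re_star]
      linear_combination (norm := c2n)
    · rw [nrm_im]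
      simp only [im_add, im_star]
      linear_combination (norm := c2n)

theorem c_im (x : T5 (Rg E)) : x.c.im = (x.w1 * star x.w3 + x.w2 * star x.w2 + x.w3 * star x.w1).re := by
  rw [← x.hc]
  simp only [re_add, re_star]
  linear_combination (norm := c2n)

theorem d_im (x : T5 (Rg E)) : x.d.im = (x.y * star x.y).re := by
  rw [← x.hd]
  simp only [re_add, re_star]
  linear_combination (norm := c2n)

theorem ext' {x y : T5 (Rg E)} (h1 : x.w1 = y.w1) (h2 : x.w2 = y.w2) (h3 : x.w3 = y.w3) (h4 : x.y = y.y)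
    (hc : x.c.re = y.c.re) (hd : x.d.re = y.d.re) : x = y := by
  ext1
  · exact h1
  · exact h2
  · exact h3
  · ext
    · exact hc
    · rw [c_im, c_im, h1, h2, h3]
  · exact h4
  · ext
    · exact hd
    · rw [d_im, d_im, h4]

/-- coordinates -/
def equivT : T5 (Rg E) ≃ (Rg E × Rg E × Rg E × Rg E) × (F × F) where
  toFun x := ((x.w1, x.w2, x.w3, x.y), (x.c.re, x.d.re))
  invFun p := mkT p.1.1 p.1.2.1 p.1.2.2.1 p.1.2.2.2 p.2.1 p.2.2
  left_inv _ := ext' rfl rfl rfl rfl rfl rfl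
  right_inv _ := rfl

instance finite_Rg [Finite F] : Finite (Rg E) := Finite.of_equiv _ (QuadraticAlgebra.equivProd E 1).symm

instance [Finite F] : Finite (T5 (Rg E)) := Finite.of_equiv _ (equivT (E := E)).symm

theorem card_Rg : Nat.card (Rg E) = Nat.card F ^ 2 := by
  rw [Nat.card_congr (QuadraticAlgebra.equivProd E 1), Nat.card_prod, pow_two]

theorem card_T : Nat.card (T5 (Rg E)) = Nat.card F ^ 10 := by
  rw [Nat.card_congr (equivT (E := E))]
  simp only [Nat.card_prod, card_Rg]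
  ring

/-- `V₄ = x_b(F) X(R) z_l(F)` -/
def V4 (E : F) : Subgroup (T5 (Rg E)) where
  carrier := {x | x.w1 = 0 ∧ x.w2 = 0 ∧ x.y = 0}
  one_mem' := ⟨rfl, rfl, rfl⟩
  mul_mem' := by
    rintro x y ⟨h1, h2, h3⟩ ⟨h4, h5, h6⟩
    exact ⟨by t5; rw [h1, h4, add_zero], by t5; rw [h2, h5, h4, mul_zero, add_zero, add_zero],
      by t5; rw [h3, h6, add_zero]⟩
  inv_mem' := by
    rintro x ⟨h1, h2, h3⟩
    exact ⟨by t5; exact h1, by t5; rw [h1, h2]; ring, by t5; exact h3⟩

/-- elements with `w1 = 0` centralise `V₄` -/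
theorem V4_comm' {x y : T5 (Rg E)} (hx : x ∈ V4 E) (hy : y.w1 = 0) : x * y = y * x := by
  obtain ⟨h1, h2, h3⟩ := hx
  ext1
  · t5; rw [h1, hy]
  · t5; rw [h2, h3, h1]; ring
  · t5; rw [h2, h3, hy, h1]; t5; ring
  · t5; rw [h1, h2, hy]; t5; ring
  · t5; ring
  · t5; rw [h3]; t5; ring

theorem V4_comm {x y : T5 (Rg E)} (hx : x ∈ V4 E) (hy : y ∈ V4 E) : x * y = y * x := V4_comm' hx hy.1

theorem V4_sq {x : T5 (Rg E)} (hx : x ∈ V4 E) : x * x = 1 := by
  obtain ⟨h1, h2, h3⟩ := hx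
  refine ext' ?_ ?_ ?_ ?_ ?_ ?_
  · t5; rw [h1]; t5
  · t5; rw [h2, h1]; t5
  · t5; rw [h2, h1]; t5; linear_combination (norm := c2n)
  · t5; rw [h3]; t5
  · t5; rw [h1, h2]; t5
    show (x.c + x.c).re = 0
    rw [CharTwo.add_self_eq_zero]; rfl
  · t5; rw [h3]; t5
    show (x.d + x.d).re = 0
    rw [CharTwo.add_self_eq_zero]; rfl

theorem card_V4 : Nat.card (V4 E) = Nat.card F ^ 4 := by
  have e : V4 E ≃ Rg E × F × F :=
    { toFun := fun x => (x.1.w3, x.1.c.re, x.1.d.re)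
      invFun := fun y => ⟨mkT 0 0 y.1 0 y.2.1 y.2.2, ⟨rfl, rfl, rfl⟩⟩
      left_inv := by
        rintro ⟨x, h1, h2, h3⟩
        apply Subtype.ext
        exact ext' h1.symm h2.symm rfl h3.symm rfl rfl
      right_inv := fun _ => rfl }
  rw [Nat.card_congr e]
  simp only [Nat.card_prod, card_Rg]
  ring

/-- `U`, the fixed points of `tau` -/
def U (E : F) : Subgroup (T5 (Rg E)) where
  carrier := {x | tau x = x}
  one_mem' := map_one _
  mul_mem' := by
    intro x y h1 h2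
    show tau (x * y) = x * y
    rw [map_mul, h1, h2]
  inv_mem' := by
    intro x h1
    show tau x⁻¹ = x⁻¹
    rw [map_inv, h1]

theorem mem_U {x : T5 (Rg E)} : x ∈ U E ↔ tau x = x := Iff.rfl

/-- the elements of `U` -/
theorem mem_U_iff {x : T5 (Rg E)} : x ∈ U E ↔ x.w1.im = 0 ∧ x.w2 = 0 ∧ x.w3.im = 0 ∧ x.c.im = 0 ∧ x.y = 0 ∧ x.d.im = 0 := by
  constructor
  · intro h
    have h1 := eq_ofF' (congrArg T5.w1 h)
    have h2 := eq_ofF' (congrArg T5.w2 h)
    have h3 := eq_ofF' (congrArg T5.w3 h)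
    have h4 := eq_ofF' (congrArg T5.c h)
    have h5 := eq_ofF' (congrArg T5.y h)
    have h6 := eq_ofF' (congrArg T5.d h)
    have i4 : x.c.im = 0 := by rw [h4]
    have i6 : x.d.im = 0 := by rw [h6]
    refine ⟨by rw [h1], ?_, by rw [h3], i4, ?_, i6⟩
    · have h7 := c_im x
      rw [i4, h1, h2, h3] at h7
      simp only [star_ofF] at h7
      have h8 : x.w2.re * x.w2.re = 0 := by
        simp only [re_add, re_mul, mul_zero, add_zero] at h7
        linear_combination (norm := c2n) h7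
      rw [h2, mul_self_eq_zero.1 h8]
      rfl
    · have h7 := d_im x
      rw [i6, h5, star_ofF] at h7
      have h8 : x.y.re * x.y.re = 0 := by
        simp only [re_mul, mul_zero, add_zero] at h7
        linear_combination (norm := c2n) h7
      rw [h5, mul_self_eq_zero.1 h8]
      rfl
  · rintro ⟨h1, h2, h3, h4, h5, h6⟩
    have e : ∀ w : Rg E, w.im = 0 → star w = w := by
      intro w hw
      ext
      · rw [re_star, hw]; ring
      · rw [im_star, hw]; ring
    show tau x = x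
    ext1
    · exact e _ h1
    · show star x.w2 = x.w2
      rw [h2, star_zero]
    · exact e _ h3
    · exact e _ h4
    · show star x.y = x.y
      rw [h5, star_zero]
    · exact e _ h6

theorem U_ext {x y : T5 (Rg E)} (hx : x ∈ U E) (hy : y ∈ U E) (h1 : x.w1.re = y.w1.re) (h3 : x.w3.re = y.w3.re)
    (hc : x.c.re = y.c.re) (hd : x.d.re = y.d.re) : x = y := by
  obtain ⟨a1, a2, a3, -, a5, -⟩ := mem_U_iff.1 hx
  obtain ⟨b1, b2, b3, -, b5, -⟩ := mem_U_iff.1 hy
  refine ext' ?_ (a2.trans b2.symm) ?_ (a5.trans b5.symm) hc hd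
  · ext
    · exact h1
    · rw [a1, b1]
  · ext
    · exact h3
    · rw [a3, b3]

theorem U_mul {x y : T5 (Rg E)} (hx : x ∈ U E) (hy : y ∈ U E) : (x * y).w1.re = x.w1.re + y.w1.re ∧
    (x * y).w3.re = x.w3.re + y.w3.re + x.d.re * y.w1.re ∧
    (x * y).c.re = x.c.re + y.c.re + x.w1.re * (y.w3.re + x.d.re * y.w1.re) + x.w3.re * y.w1.re ∧
    (x * y).d.re = x.d.re + y.d.re := by
  obtain ⟨a1, a2, a3, a4, a5, a6⟩ := mem_U_iff.1 hx
  obtain ⟨b1, b2, b3, b4, b5, b6⟩ := mem_U_iff.1 hy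
  refine ⟨rfl, ?_, ?_, ?_⟩
  · rw [T5.mul_w3, a5, b2]
    simp only [star_zero, mul_zero, re_zero, re_add, re_mul, b1, a6]
    ring
  · rw [T5.mul_c, a2, b2]
    cm
    simp only [a1, a3, a6, b1, b3]
    ring
  · rw [T5.mul_d, a5]
    simp only [star_zero, zero_mul, add_zero, re_add]

/-- elementary abelian subgroups of `U` have order at most `q³` -/
theorem card_elem_U [Finite F] {Y : Subgroup (T5 (Rg E))} (hYU : Y ≤ U E) (hsq : ∀ x ∈ Y, x * x = 1)
    (hc : ∀ x ∈ Y, ∀ y ∈ Y, x * y = y * x) : Nat.card Y ≤ Nat.card F ^ 3 := by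
  have key : (∀ x ∈ Y, x.w1.re = 0) ∨ (∀ x ∈ Y, x.d.re = 0) := by
    by_contra hcon
    push Not at hcon
    obtain ⟨⟨x, hx, hxu⟩, ⟨y, hy, hys⟩⟩ := hcon
    have h0 := (U_mul (hYU hx) (hYU hx)).2.1
    rw [hsq x hx] at h0
    have h1 : x.d.re = 0 := by
      have : x.d.re * x.w1.re = 0 := by
        have h00 : (1 : T5 (Rg E)).w3.re = 0 := rfl
        rw [h00] at h0
        linear_combination (norm := c2n) h0
      exact (mul_eq_zero.1 this).resolve_right hxu
    have h2 := congrArg (fun z : T5 (Rg E) => z.w3.re) (hc x hx y hy)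
    rw [(U_mul (hYU hx) (hYU hy)).2.1, (U_mul (hYU hy) (hYU hx)).2.1, h1] at h2
    have h3 : y.d.re * x.w1.re = 0 := by linear_combination (norm := c2n) h2
    rcases mul_eq_zero.1 h3 with h | h
    · exact hys h
    · exact hxu h
  have hcard : Nat.card (F × F × F) = Nat.card F ^ 3 := by
    simp only [Nat.card_prod]; ring
  rw [← hcard]
  rcases key with h | h
  · refine Nat.card_le_card_of_injective (fun x : Y => (x.1.d.re, x.1.w3.re, x.1.c.re)) ?_
    rintro ⟨x, hx⟩ ⟨y, hy⟩ hxy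
    have h1 := Prod.mk.inj hxy
    have h2 := Prod.mk.inj h1.2
    exact Subtype.ext (U_ext (hYU hx) (hYU hy) (by rw [h x hx, h y hy]) h2.1 h2.2 h1.1)
  · refine Nat.card_le_card_of_injective (fun x : Y => (x.1.w1.re, x.1.w3.re, x.1.c.re)) ?_
    rintro ⟨x, hx⟩ ⟨y, hy⟩ hxy
    have h1 := Prod.mk.inj hxy
    have h2 := Prod.mk.inj h1.2
    exact Subtype.ext (U_ext (hYU hx) (hYU hy) h1.1 h2.1 h2.2 (by rw [h x hx, h y hy]))

theorem Sem.m_mem_U (s : Sem E σ) {x : T5 (Rg E)} (hx : x ∈ U E) : s.m x ∈ U E := by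
  rw [mem_U] at *
  rw [← s.m_tau, hx]

theorem Sem.re {s : Sem E σ} {w : Rg E} (hw : w.im = 0) : (s.s w).re = σ w.re := by
  have : w = ⟨w.re, 0⟩ := by ext; · rfl
                             · exact hw
  rw [this, s.hC]

/-- fixed points on `U` of a semilinear involution times an inner automorphism -/
theorem card_fix_U [Finite F] (h2 : σ * σ = 1) (h1 : σ ≠ 1) (s : Sem E σ) {y : T5 (Rg E)} (hy : y ∈ U E)
    {Y : Subgroup (T5 (Rg E))} (hYU : Y ≤ U E) (hY : ∀ x ∈ Y, y * s.m x = x * y) : Nat.card Y ≤ Nat.card F ^ 2 := by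
  set K := {x : F // σ x = x} with hK
  have hKc : Nat.card K * Nat.card K = Nat.card F := card_fix h2 h1
  have co : ∀ x ∈ Y, (s.m x).w1.re = σ x.w1.re ∧ (s.m x).w3.re = σ x.w3.re ∧ (s.m x).c.re = σ x.c.re ∧
      (s.m x).d.re = σ x.d.re := by
    intro x hx
    obtain ⟨a1, -, a3, a4, -, a6⟩ := mem_U_iff.1 (hYU hx)
    exact ⟨Sem.re a1, Sem.re a3, Sem.re a4, Sem.re a6⟩
  -- coordinates `w1`, `d`
  have hcoord : ∀ x ∈ Y, σ x.w1.re = x.w1.re ∧ σ x.d.re = x.d.re := by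
    intro x hx
    obtain ⟨c1, c3, cc, cd⟩ := co x hx
    have e1 := congrArg (fun z : T5 (Rg E) => z.w1.re) (hY x hx)
    have e2 := congrArg (fun z : T5 (Rg E) => z.d.re) (hY x hx)
    rw [(U_mul hy (s.m_mem_U (hYU hx))).1, (U_mul (hYU hx) hy).1, c1] at e1
    rw [(U_mul hy (s.m_mem_U (hYU hx))).2.2.2, (U_mul (hYU hx) hy).2.2.2, cd] at e2
    exact ⟨by linear_combination e1, by linear_combination e2⟩
  let f : Y →* Multiplicative (F × F) :=
    { toFun := fun x => Multiplicative.ofAdd (x.1.w1.re, x.1.d.re)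
      map_one' := rfl
      map_mul' := fun x x' => by
        show Multiplicative.ofAdd ((x.1 * x'.1).w1.re, (x.1 * x'.1).d.re) = _
        rw [(U_mul (hYU x.2) (hYU x'.2)).1, (U_mul (hYU x.2) (hYU x'.2)).2.2.2]
        rfl }
  have hrange : Nat.card f.range ≤ Nat.card K * Nat.card K := by
    rw [← Nat.card_prod]
    have : ∀ z : f.range, σ (Multiplicative.toAdd z.1).1 = (Multiplicative.toAdd z.1).1 ∧
        σ (Multiplicative.toAdd z.1).2 = (Multiplicative.toAdd z.1).2 := by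
      rintro ⟨_, ⟨x, hx⟩, rfl⟩
      exact hcoord x hx
    refine Nat.card_le_card_of_injective (fun z : f.range =>
      ((⟨_, (this z).1⟩, ⟨_, (this z).2⟩) : K × K)) ?_
    rintro z w hzw
    have h3 := Prod.mk.inj hzw
    apply Subtype.ext
    apply Multiplicative.toAdd.injective
    exact Prod.ext (congrArg Subtype.val h3.1) (congrArg Subtype.val h3.2)
  have hker : Nat.card f.ker ≤ Nat.card K * Nat.card K := by
    rw [← Nat.card_prod]
    have hz : ∀ x : f.ker, x.1.1.w1.re = 0 ∧ x.1.1.d.re = 0 := by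
      rintro ⟨x, hx⟩
      have h3 : Multiplicative.ofAdd (x.1.w1.re, x.1.d.re) = 1 := hx
      have h4 : (x.1.w1.re, x.1.d.re) = (0, 0) := h3
      exact Prod.mk.inj h4
    have : ∀ x : f.ker, σ x.1.1.w3.re = x.1.1.w3.re ∧ σ x.1.1.c.re = x.1.1.c.re := by
      intro x
      obtain ⟨c1, c3, cc, cd⟩ := co x.1.1 x.1.2
      obtain ⟨hu, hs⟩ := hz x
      rw [hu, map_zero] at c1
      rw [hs, map_zero] at cd
      have e1 := congrArg (fun z : T5 (Rg E) => z.w3.re) (hY x.1.1 x.1.2)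
      have e2 := congrArg (fun z : T5 (Rg E) => z.c.re) (hY x.1.1 x.1.2)
      rw [(U_mul hy (s.m_mem_U (hYU x.1.2))).2.1, (U_mul (hYU x.1.2) hy).2.1, c1, c3, hs] at e1
      rw [(U_mul hy (s.m_mem_U (hYU x.1.2))).2.2.1, (U_mul (hYU x.1.2) hy).2.2.1, c1, c3, cc, hs, hu] at e2
      have e3 : σ x.1.1.w3.re = x.1.1.w3.re := by linear_combination e1
      rw [e3] at e2
      exact ⟨e3, by linear_combination e2⟩
    refine Nat.card_le_card_of_injective (fun x : f.ker =>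
      ((⟨_, (this x).1⟩, ⟨_, (this x).2⟩) : K × K)) ?_
    rintro x x' hxx
    have h3 := Prod.mk.inj hxx
    have h4 := hz x
    have h5 := hz x'
    exact Subtype.ext (Subtype.ext (U_ext (hYU x.1.2) (hYU x'.1.2) (h4.1.trans h5.1.symm)
      (congrArg Subtype.val h3.1) (congrArg Subtype.val h3.2) (h4.2.trans h5.2.symm)))
  have hmul : Nat.card Y = Nat.card f.ker * Nat.card f.range := by
    have h3 := f.ker.card_mul_index
    rw [Subgroup.index_ker] at h3
    exact h3.symm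
  rw [hmul, pow_two]
  rw [hKc] at hrange hker
  exact Nat.mul_le_mul hker hrange

theorem card_U [Finite F] : Nat.card (U E) ≤ Nat.card F ^ 4 := by
  have hcard : Nat.card (F × F × F × F) = Nat.card F ^ 4 := by
    simp only [Nat.card_prod]; ring
  rw [← hcard]
  refine Nat.card_le_card_of_injective (fun x : U E => (x.1.w1.re, x.1.w3.re, x.1.c.re, x.1.d.re)) ?_
  rintro ⟨x, hx⟩ ⟨y, hy⟩ hxy
  have h1 := Prod.mk.inj hxy
  have h2 := Prod.mk.inj h1.2
  have h3 := Prod.mk.inj h2.2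
  exact Subtype.ext (U_ext hx hy h1.1 h2.1 h3.1 h3.2)

theorem Sem.theta (s : Sem E σ) : (s.s th).im = 1 := by
  have h1 : star (s.s th) = s.s th + 1 := by
    rw [← s.hs, ← map_one s.s, ← map_add]
    congr 1
    have := th_add (E := E)
    linear_combination (norm := c2n) this
  have h2 := congrArg QuadraticAlgebra.re h1
  rw [re_star, re_add, re_one] at h2
  linear_combination h2

/-- an element of trace `1` fixed by `s` -/
theorem exists_theta [Finite F] (h2 : σ * σ = 1) (h1 : σ ≠ 1) (s : Sem E σ) (hss : ∀ w, s.s (s.s w) = w) :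
    ∃ b : F, s.s ⟨b, 1⟩ = ⟨b, 1⟩ := by
  set δ := (s.s th).re with hδ
  have e1 : s.s th = ⟨δ, 1⟩ := by
    ext
    · rfl
    · exact s.theta
  have e2 : ∀ a : F, (⟨a, 1⟩ : Rg E) = ⟨a, 0⟩ + th := by
    intro a; ext <;> cm <;> ring
  have h3 : σ δ = δ := by
    have h4 := hss th
    rw [e1, e2, map_add, s.hC, e1] at h4
    have h5 := congrArg re h4
    have h6 : (th : Rg E).re = 0 := rfl
    rw [re_add, h6] at h5
    have h7 : σ δ + δ = 0 := h5
    exact eq_of_add h7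
  obtain ⟨b, hb⟩ := exists_trace h2 h1 h3
  refine ⟨b, ?_⟩
  rw [e2, map_add, s.hC, e1]
  ext <;> cm
  linear_combination (norm := c2n) hb

/-- an element fixed by `s` -/
def mkF (θ : Rg E) (hθ : θ + star θ = 1) (w1 w2 w3 y : Rg E) (r : F) : T5 (Rg E) where
  w1 := w1
  w2 := w2
  w3 := w3
  y := y
  c := (w1 * star w3 + w2 * star w2 + w3 * star w1) * θ + ⟨r, 0⟩
  d := y * star y * θ
  hc := by
    simp only [star_add, star_mul', star_star, star_ofF]
    linear_combination (norm := c2n) (w1 * star w3 + w2 * star w2 + w3 * star w1) * hθ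
  hd := by
    simp only [star_mul', star_star]
    linear_combination (norm := c2n) (y * star y) * hθ

/-- **fixed points of a semilinear involution on `T`**: more than `q⁴` -/
theorem card_fix_T [Finite F] (hF : 4 ≤ Nat.card F) (h2 : σ * σ = 1) (h1 : σ ≠ 1) (s : Sem E σ)
    (hss : ∀ w, s.s (s.s w) = w) : Nat.card F ^ 4 < Nat.card {x : T5 (Rg E) // s.m x = x} := by
  obtain ⟨b, hb⟩ := exists_theta h2 h1 s hss
  set θ : Rg E := ⟨b, 1⟩ with hθ
  have hθ1 : θ + star θ = 1 := by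
    rw [hθ]; ext <;> cm <;> linear_combination (norm := c2n)
  set K := {x : F // σ x = x} with hK
  have hKc : Nat.card K * Nat.card K = Nat.card F := card_fix h2 h1
  let w : K × K → Rg E := fun a => ⟨a.1.1, 0⟩ + ⟨a.2.1, 0⟩ * θ
  have hw : ∀ a, s.s (w a) = w a := by
    rintro ⟨⟨a, ha⟩, ⟨a', ha'⟩⟩
    show s.s (⟨a, 0⟩ + ⟨a', 0⟩ * θ) = ⟨a, 0⟩ + ⟨a', 0⟩ * θ
    rw [map_add, map_mul, s.hC, s.hC, hb, ha, ha']
  have winj : Function.Injective w := by
    rintro ⟨⟨a, ha⟩, ⟨a', ha'⟩⟩ ⟨⟨a2, ha2⟩, ⟨a2', ha2'⟩⟩ h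
    have h3 := congrArg re h
    have h4 := congrArg im h
    simp only [w, hθ, re_add, re_mul, im_add, im_mul] at h3 h4
    have h5 : a' = a2' := by linear_combination h4
    subst h5
    have h6 : a = a2 := by linear_combination h3
    subst h6
    rfl
  let f : (K × K) × (K × K) × (K × K) × (K × K) × K → {x : T5 (Rg E) // s.m x = x} := fun p =>
    ⟨mkF θ hθ1 (w p.1) (w p.2.1) (w p.2.2.1) (w p.2.2.2.1) p.2.2.2.2.1, by
      obtain ⟨p1, p2, p3, p4, ⟨r, hr⟩⟩ := p
      ext1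
      · exact hw p1
      · exact hw p2
      · exact hw p3
      · show s.s ((w p1 * star (w p3) + w p2 * star (w p2) + w p3 * star (w p1)) * θ + ⟨r, 0⟩) = _
        simp only [map_add, map_mul, s.hs, hw, hb, s.hC, hr]
        rfl
      · exact hw p4
      · show s.s (w p4 * star (w p4) * θ) = _
        simp only [map_mul, s.hs, hw, hb]
        rfl⟩
  have finj : Function.Injective f := by
    rintro ⟨p1, p2, p3, p4, ⟨r, hr⟩⟩ ⟨q1, q2, q3, q4, ⟨r', hr'⟩⟩ h
    have h3 := congrArg Subtype.val h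
    have e1 : p1 = q1 := winj (congrArg T5.w1 h3)
    have e2 : p2 = q2 := winj (congrArg T5.w2 h3)
    have e3 : p3 = q3 := winj (congrArg T5.w3 h3)
    have e4 : p4 = q4 := winj (congrArg T5.y h3)
    subst e1 e2 e3 e4
    have e5 : (w p1 * star (w p3) + w p2 * star (w p2) + w p3 * star (w p1)) * θ + (⟨r, 0⟩ : Rg E) =
      (w p1 * star (w p3) + w p2 * star (w p2) + w p3 * star (w p1)) * θ + ⟨r', 0⟩ := congrArg T5.c h3
    have e6 := congrArg re (add_left_cancel e5)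
    have e7 : r = r' := e6
    subst e7
    rfl
  have h3 := Nat.card_le_card_of_injective f finj
  simp only [Nat.card_prod] at h3
  refine lt_of_lt_of_le ?_ h3
  have h4 : 2 ≤ Nat.card K := by
    by_contra hlt
    have h5 : Nat.card K ≤ 1 := by omega
    have h6 : Nat.card K * Nat.card K ≤ 1 * 1 := Nat.mul_le_mul h5 h5
    rw [hKc] at h6
    omega
  have h5 : Nat.card K * Nat.card K * (Nat.card K * Nat.card K * (Nat.card K * Nat.card K *
      (Nat.card K * Nat.card K * Nat.card K))) = Nat.card F ^ 4 * Nat.card K := by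
    rw [hKc]; ring
  rw [h5]
  have h6 : 0 < Nat.card F ^ 4 := by positivity
  nlinarith only [hF, hKc, h6]

/-! ### the centraliser of an involution of `T` -/

theorem sq_rel {x : T5 (Rg E)} (hx : x * x = 1) : x.y * x.w1 = 0 ∧ star x.y * x.w2 + x.d * x.w1 = 0 ∧
    x.w1 * star x.w3 + x.w2 * star x.w2 + x.w3 * star x.w1 = 0 ∧ x.y * star x.y = 0 := by
  have h2 := congrArg T5.w2 hx
  have h3 := congrArg T5.w3 hx
  have h4 := congrArg T5.c hx
  have h5 := congrArg T5.d hx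
  rw [T5.mul_w2, T5.one_w2] at h2
  rw [T5.mul_w3, T5.one_w3] at h3
  rw [T5.mul_c, T5.one_c] at h4
  rw [T5.mul_d, T5.one_d] at h5
  have e2 : x.y * x.w1 = 0 := by linear_combination (norm := c2n) h2
  have e3 : star x.y * x.w2 + x.d * x.w1 = 0 := by linear_combination (norm := c2n) h3
  refine ⟨e2, e3, ?_, by linear_combination (norm := c2n) h5⟩
  have e4 : x.w3 + star x.y * x.w2 + x.d * x.w1 = x.w3 := by linear_combination e3
  rw [e4, e2, add_zero] at h4
  linear_combination (norm := c2n) h4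

section split

variable {θ : F} (hθ : θ ^ 2 + θ + E = 0)
include hθ

theorem ee : (⟨θ, 1⟩ : Rg E) * ⟨θ, 1⟩ = ⟨θ, 1⟩ := by
  ext <;> cm
  · linear_combination (norm := c2n) hθ
  · linear_combination (norm := c2n)

theorem ee' : (⟨θ, 1⟩ : Rg E) * ⟨θ + 1, 1⟩ = 0 := by
  ext <;> cm
  · linear_combination (norm := c2n) hθ
  · linear_combination (norm := c2n)

omit hθ in
theorem star_e : star (⟨θ, 1⟩ : Rg E) = ⟨θ + 1, 1⟩ := by
  ext <;> cm
  · linear_combination (norm := c2n)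
  · linear_combination (norm := c2n)

omit hθ in
theorem dec (w : Rg E) : w = ⟨w.re + w.im * θ, 0⟩ * ⟨θ + 1, 1⟩ + ⟨w.re + w.im * (θ + 1), 0⟩ * ⟨θ, 1⟩ := by
  ext <;> cm
  · linear_combination (norm := c2n)
  · linear_combination (norm := c2n)

/-- the abelian normal subgroup of order `q⁶` -/
def V6 (E θ : F) : Subgroup (T5 (Rg E)) where
  carrier := {x | x.w1 = 0 ∧ x.y * ⟨θ, 1⟩ = 0 ∧ x.w2 * ⟨θ, 1⟩ = 0}
  one_mem' := ⟨rfl, zero_mul _, zero_mul _⟩
  mul_mem' := by
    rintro x y ⟨h1, h2, h3⟩ ⟨h4, h5, h6⟩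
    refine ⟨by t5; rw [h1, h4, add_zero], ?_, ?_⟩
    · rw [T5.mul_y]; linear_combination h2 + h5
    · rw [T5.mul_w2, h4]; linear_combination h3 + h6
  inv_mem' := by
    rintro x ⟨h1, h2, h3⟩
    refine ⟨h1, h2, ?_⟩
    rw [T5.inv_w2, h1]; linear_combination h3

theorem V6_aux {x y : T5 (Rg E)} (hx : x ∈ V6 E θ) (hy : y ∈ V6 E θ) : star x.y * y.w2 = 0 ∧ x.w2 * star y.w2 = 0 ∧
    star x.y * y.y = 0 := by
  obtain ⟨-, h2, h3⟩ := hx
  obtain ⟨-, h5, h6⟩ := hy
  have e1 : (⟨θ, 1⟩ : Rg E) + ⟨θ + 1, 1⟩ = 1 := by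
    ext <;> cm
    · linear_combination (norm := c2n)
    · linear_combination (norm := c2n)
  have k : ∀ a b : Rg E, a * ⟨θ, 1⟩ = 0 → b * ⟨θ, 1⟩ = 0 → star a * b = 0 := by
    intro a b ha hb
    have ha' : star a * ⟨θ + 1, 1⟩ = 0 := by
      rw [← star_e, mul_comm, ← star_mul, ha, star_zero]
    calc star a * b = star a * b * (⟨θ, 1⟩ + ⟨θ + 1, 1⟩) := by rw [e1, mul_one]
      _ = star a * (b * ⟨θ, 1⟩) + b * (star a * ⟨θ + 1, 1⟩) := by ring
      _ = 0 := by rw [ha', hb, mul_zero, mul_zero, add_zero]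
  refine ⟨k _ _ h2 h6, ?_, k _ _ h2 h5⟩
  rw [mul_comm]
  exact k _ _ h6 h3

theorem V6_comm {x y : T5 (Rg E)} (hx : x ∈ V6 E θ) (hy : y ∈ V6 E θ) : x * y = y * x := by
  obtain ⟨a1, a2, a3⟩ := V6_aux hθ hx hy
  obtain ⟨b1, b2, b3⟩ := V6_aux hθ hy hx
  have h1 := hx.1
  have h2 := hy.1
  ext1
  · t5; rw [h1, h2]
  · t5; rw [h1, h2]; ring
  · t5; rw [h1, h2, a1, b1]; ring
  · t5; rw [h1, h2]; t5; rw [a2, b2]; ring
  · t5; ring
  · t5; rw [a3, b3]; ring

theorem V6_sq {x : T5 (Rg E)} (hx : x ∈ V6 E θ) : x * x = 1 := by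
  obtain ⟨a1, a2, a3⟩ := V6_aux hθ hx hx
  have h1 := hx.1
  ext1
  · t5; rw [h1, add_zero]
  · t5; rw [h1]; linear_combination (norm := c2n)
  · t5; rw [h1, a1]; linear_combination (norm := c2n)
  · t5; rw [h1]; t5; rw [a2]; linear_combination (norm := c2n)
  · t5; linear_combination (norm := c2n)
  · t5; rw [a3]; linear_combination (norm := c2n)

/-- a group of order `q⁴` in `V6` centralising an involution `x` with `w1 = a e`, `a ≠ 0` -/
theorem exists_W [Finite F] {x : T5 (Rg E)} (hx : x * x = 1) {a : F} (ha : a ≠ 0) (hw1 : x.w1 = ⟨a, 0⟩ * ⟨θ, 1⟩) :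
    Nat.card F ^ 4 ≤ Nat.card (V6 E θ ⊓ Subgroup.centralizer {x} : Subgroup (T5 (Rg E))) := by
  obtain ⟨r1, r2, -, -⟩ := sq_rel hx
  have h0 := ee hθ
  have h0' := ee' hθ
  have h0'' := ee (E := E) (θ := θ + 1) (by linear_combination (norm := c2n) hθ)
  set e : Rg E := ⟨θ, 1⟩ with he
  set e' : Rg E := ⟨θ + 1, 1⟩ with he'
  have hs : star e = e' := star_e
  have hs' : star e' = e := by rw [← hs, star_star]
  -- `y = b e'`
  set b := x.y.re + x.y.im * θ with hb
  set b' := x.y.re + x.y.im * (θ + 1) with hb'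
  set k := x.w2.re + x.w2.im * (θ + 1) with hk
  set m := x.w2.re + x.w2.im * θ with hm
  have dy : x.y = ⟨b, 0⟩ * e' + ⟨b', 0⟩ * e := dec x.y
  have dw : x.w2 = ⟨m, 0⟩ * e' + ⟨k, 0⟩ * e := dec x.w2
  have mulF : ∀ u v : F, (⟨u, 0⟩ : Rg E) * ⟨v, 0⟩ = ⟨u * v, 0⟩ := by
    intro u v; ext <;> cm <;> ring
  have hb0 : b' = 0 := by
    have h1 : (⟨b' * a, 0⟩ : Rg E) * e = 0 := by
      rw [← mulF]
      rw [dy, hw1] at r1
      linear_combination r1 - ⟨b, 0⟩ * ⟨a, 0⟩ * h0' - ⟨b', 0⟩ * ⟨a, 0⟩ * h0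
    have h2 := congrArg im h1
    simp only [he, im_mul, im_zero] at h2
    have h3 : b' * a = 0 := by linear_combination h2
    exact (mul_eq_zero.1 h3).resolve_right ha
  have z0 : (⟨0, 0⟩ : Rg E) = 0 := rfl
  rw [hb0, z0, zero_mul, add_zero] at dy
  have sF : ∀ u : F, star (⟨u, 0⟩ : Rg E) = ⟨u, 0⟩ := star_ofF
  -- the elements
  let g : F × F × F × F → T5 (Rg E) := fun p =>
    { w1 := 0
      w2 := ⟨p.1, 0⟩ * e'
      w3 := ⟨k / a, 0⟩ * ⟨p.1, 0⟩ * e' + ⟨p.2.2.1, 0⟩ * e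
      c := ⟨p.2.2.2, 0⟩
      y := ⟨p.2.1, 0⟩ * e'
      d := ⟨k / a, 0⟩ * ⟨p.2.1, 0⟩
      hc := by
        simp only [star_mul', sF, hs', star_zero, zero_mul, mul_zero, zero_add, add_zero]
        linear_combination (norm := c2n) (-(⟨p.1, 0⟩ * ⟨p.1, 0⟩ : Rg E)) * h0'
      hd := by
        simp only [star_mul', sF, hs']
        linear_combination (norm := c2n) (-(⟨p.2.1, 0⟩ * ⟨p.2.1, 0⟩ : Rg E)) * h0' }
  have hka : (⟨k / a, 0⟩ : Rg E) * ⟨a, 0⟩ = ⟨k, 0⟩ := by rw [mulF, div_mul_cancel₀ _ ha]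
  have hg : ∀ p, g p ∈ (V6 E θ ⊓ Subgroup.centralizer {x} : Subgroup (T5 (Rg E))) := by
    rintro ⟨p, u, v, r⟩
    refine ⟨⟨rfl, ?_, ?_⟩, ?_⟩
    · show ⟨u, 0⟩ * e' * e = 0
      linear_combination ⟨u, 0⟩ * h0'
    · show ⟨p, 0⟩ * e' * e = 0
      linear_combination ⟨p, 0⟩ * h0'
    · show g (p, u, v, r) ∈ Subgroup.centralizer {x}
      rw [Subgroup.mem_centralizer_singleton_iff]
      have g1 : (g (p, u, v, r)).w1 = 0 := rfl
      have g2 : (g (p, u, v, r)).w2 = ⟨p, 0⟩ * e' := rfl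
      have g3 : (g (p, u, v, r)).w3 = ⟨k / a, 0⟩ * ⟨p, 0⟩ * e' + ⟨v, 0⟩ * e := rfl
      have g4 : (g (p, u, v, r)).c = ⟨r, 0⟩ := rfl
      have g5 : (g (p, u, v, r)).y = ⟨u, 0⟩ * e' := rfl
      have g6 : (g (p, u, v, r)).d = ⟨k / a, 0⟩ * ⟨u, 0⟩ := rfl
      ext1
      · t5; rw [g1]; ring
      · t5
        rw [g1, g2, g5, hw1]
        linear_combination ⟨u, 0⟩ * ⟨a, 0⟩ * h0'
      · t5
        rw [g1, g2, g3, g5, g6, hw1, dw, dy]
        simp only [star_mul', sF, hs']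
        linear_combination (norm := c2n) (⟨u, 0⟩ * ⟨m, 0⟩ - ⟨b, 0⟩ * ⟨p, 0⟩) * h0' + ⟨u, 0⟩ * ⟨k, 0⟩ * h0 + ⟨u, 0⟩ * e * hka
      · t5
        rw [g1, g2, g3, g4, g5, hw1, dw, dy]
        simp only [star_mul', star_add, sF, hs', hs, star_zero]
        linear_combination (norm := c2n) (⟨p, 0⟩ * ⟨u, 0⟩ * ⟨a, 0⟩ * e' - ⟨a, 0⟩ * ⟨b, 0⟩ * ⟨p, 0⟩ * e) * h0' +
          (⟨p, 0⟩ * ⟨k, 0⟩ + ⟨k / a, 0⟩ * ⟨p, 0⟩ * ⟨a, 0⟩) * h0'' -
          (⟨k / a, 0⟩ * ⟨a, 0⟩ * ⟨p, 0⟩ + ⟨k, 0⟩ * ⟨p, 0⟩) * h0 + ⟨p, 0⟩ * e' * hka - ⟨p, 0⟩ * e * hka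
      · t5; ring
      · t5
        rw [g5, g6, dy]
        simp only [star_mul', sF, hs']
        ring
  have ginj : Function.Injective g := by
    rintro ⟨p, u, v, r⟩ ⟨p', u', v', r'⟩ h
    have e1 : (⟨p, 0⟩ : Rg E) * e' = ⟨p', 0⟩ * e' := congrArg T5.w2 h
    have e2 : (⟨u, 0⟩ : Rg E) * e' = ⟨u', 0⟩ * e' := congrArg T5.y h
    have e3 : (⟨k / a, 0⟩ : Rg E) * ⟨p, 0⟩ * e' + ⟨v, 0⟩ * e = ⟨k / a, 0⟩ * ⟨p', 0⟩ * e' + ⟨v', 0⟩ * e :=
      congrArg T5.w3 h
    have e4 : (⟨r, 0⟩ : Rg E) = ⟨r', 0⟩ := congrArg T5.c h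
    have i1 := congrArg im e1
    have i2 := congrArg im e2
    simp only [he', im_mul] at i1 i2
    have p1 : p = p' := by linear_combination i1
    have p2 : u = u' := by linear_combination i2
    subst p1 p2
    have i3 := congrArg im (add_left_cancel e3)
    simp only [he, im_mul] at i3
    have p3 : v = v' := by linear_combination i3
    have p4 : r = r' := congrArg re e4
    subst p3 p4
    rfl
  have hcard : Nat.card (F × F × F × F) = Nat.card F ^ 4 := by
    simp only [Nat.card_prod]; ring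
  rw [← hcard]
  refine Nat.card_le_card_of_injective
    (fun p => (⟨g p, hg p⟩ : ↥(V6 E θ ⊓ Subgroup.centralizer {x} : Subgroup (T5 (Rg E))))) ?_
  intro p p' h
  exact ginj (congrArg Subtype.val h)

end split

/-- **the centraliser of an involution of `T`** -/
theorem rank [Finite F] {x : T5 (Rg E)} (hx : x * x = 1) :
    (∃ W : Subgroup (T5 (Rg E)), Nat.card F ^ 4 ≤ Nat.card W ∧ (∀ w ∈ W, w * w = 1) ∧
      (∀ w ∈ W, ∀ w' ∈ W, w * w' = w' * w) ∧ ∀ w ∈ W, w * x = x * w) ∨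
    ∃ (y : T5 (Rg E)) (w : Rg E) (c : F), x * y = y * mkT w 0 0 0 c 0 := by
  obtain ⟨r1, r2, r3, r4⟩ := sq_rel hx
  by_cases h1 : x.w1 = 0
  · left
    exact ⟨V4 E, card_V4.ge, fun w hw => V4_sq hw, fun w hw w' hw' => V4_comm hw hw', fun w hw => V4_comm' hw h1⟩
  have hn : x.w1 * star x.w1 = ⟨nm x.w1, 0⟩ := by
    ext <;> cm <;> linear_combination (norm := c2n)
  by_cases h2 : nm x.w1 = 0
  · -- the split case
    left
    have him : x.w1.im ≠ 0 := by
      intro h3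
      apply h1
      rw [nm, h3] at h2
      have h4 : x.w1.re ^ 2 = 0 := by linear_combination h2
      ext
      · exact pow_eq_zero_iff (two_ne_zero) |>.1 h4
      · exact h3
    set θ := x.w1.re / x.w1.im with hθd
    have hθm : θ * x.w1.im = x.w1.re := div_mul_cancel₀ _ him
    have hθ : θ ^ 2 + θ + E = 0 := by
      have h3 : x.w1.im ^ 2 * (θ ^ 2 + θ + E) = 0 := by
        rw [nm, ← hθm] at h2
        linear_combination h2
      exact (mul_eq_zero.1 h3).resolve_left (pow_ne_zero 2 him)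
    have hw1 : x.w1 = ⟨x.w1.im, 0⟩ * ⟨θ, 1⟩ := by
      ext <;> cm
      · linear_combination (-1 : F) * hθm
      · ring
    refine ⟨V6 E θ ⊓ Subgroup.centralizer {x}, exists_W hθ hx him hw1, fun w hw => V6_sq hθ hw.1,
      fun w hw w' hw' => V6_comm hθ hw.1 hw'.1, fun w hw => ?_⟩
    have hw2 : w ∈ Subgroup.centralizer {x} := hw.2
    exact Subgroup.mem_centralizer_singleton_iff.1 hw2
  · right
    -- `w1` is a unit
    obtain ⟨v, hv⟩ : ∃ v : Rg E, x.w1 * v = 1 := by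
      refine ⟨⟨(nm x.w1)⁻¹, 0⟩ * star x.w1, ?_⟩
      calc x.w1 * (⟨(nm x.w1)⁻¹, 0⟩ * star x.w1) = ⟨(nm x.w1)⁻¹, 0⟩ * (x.w1 * star x.w1) := by ring
        _ = ⟨(nm x.w1)⁻¹, 0⟩ * ⟨nm x.w1, 0⟩ := by rw [hn]
        _ = 1 := by
          ext
          · rw [re_mul, re_one, inv_mul_cancel₀ h2]; ring
          · rw [im_mul, im_one]; ring
    have hv' : star x.w1 * star v = 1 := by rw [← star_mul', hv, star_one]
    have hy : x.y = 0 := by linear_combination v * r1 - x.y * hv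
    have hd : x.d = 0 := by
      rw [hy] at r2
      simp only [star_zero] at r2
      linear_combination v * r2 - x.d * hv
    refine ⟨⟨0, 0, 0, 0, x.w2 * v, x.w3 * v, by simp, ?_⟩, x.w1, x.c.re, ?_⟩
    · simp only [star_mul']
      have e1 : x.w3 * v + star x.w3 * star v = (v * star v) * (x.w3 * star x.w1 + x.w1 * star x.w3) := by
        linear_combination (-(x.w3 * v)) * hv' - (star x.w3 * star v) * hv
      rw [e1]
      linear_combination (norm := c2n) (v * star v) * r3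
    · refine ext' ?_ ?_ ?_ ?_ ?_ ?_
      · show x.w1 + 0 = 0 + x.w1
        ring
      · show x.w2 + (0 + x.y * 0) = 0 + (0 + x.w2 * v * x.w1)
        linear_combination (-x.w2) * hv
      · show x.w3 + (0 + star x.y * 0 + x.d * 0) = 0 + (0 + star (x.w2 * v) * 0 + x.w3 * v * x.w1)
        linear_combination (-x.w3) * hv
      · show x.y + x.w2 * v = x.w2 * v + 0
        rw [hy]; ring
      · show (x.c + 0 + (x.w1 * star (0 + star x.y * 0 + x.d * 0) + x.w2 * star (0 + x.y * 0) + x.w3 * star 0)).re =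
          (0 + (mkT x.w1 0 0 0 x.c.re 0).c + (0 * star (0 + star (x.w2 * v) * 0 + x.w3 * v * x.w1) +
            0 * star (0 + x.w2 * v * x.w1) + 0 * star x.w1)).re
        simp only [mul_zero, zero_mul, add_zero, zero_add, star_zero]
        rfl
      · show (x.d + x.w3 * v + star x.y * (x.w2 * v)).re = (x.w3 * v + (mkT x.w1 0 0 0 x.c.re 0).d + star (x.w2 * v) * 0).re
        rewrite [hy, hd]
        have : (mkT x.w1 0 0 0 x.c.re 0 : T5 (Rg E)).d = 0 := by
          ext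
          · rfl
          · show (0 * star (0 : Rg E)).re = 0
            rw [zero_mul]; rfl
        rw [this]
        simp only [star_zero, zero_mul, mul_zero, add_zero, zero_add]

end concrete

end Cfsg.Agent.StdSpFour.CaseCInv
end

-- part: StdSpFour/CaseCEnv
section
/-!
# S1778, type Sp₄(q), case (C): the end, from an abstract environment

`Env i t S0`: `i : T5 (Rg E) →* G` injective, `t` acts by `tau`, `S0` a Sylow 2-subgroup of `C_G(t)` acting on
`T = range i` by semilinear automorphisms.  `star`: `t^G ∩ (T S0) = t^T`.  `main`: `t ∉ L` and `T` is a Sylow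
2-subgroup of `L`.
-/

set_option autoImplicit false
set_option linter.unusedSectionVars false

namespace Cfsg.Agent.StdSpFour.CaseCEnv

open Subgroup Cfsg.Agent.StdSpFour.CaseC Cfsg.Agent.StdSpFour.CaseCInv Cfsg.Agent.StdSpFour.UFiveModel
open Cfsg.Agent.StdRank2.OutField

universe u v

variable {F : Type v} {G : Type u} [Field F] [CharP F 2] [Group G] {E : F}

/-- `z` acts on `T` as `inn(y) ∘ s`, `y ∈ Y`, `s` semilinear over `σ` -/
def Typ (Y : Subgroup (T5 (Rg E))) (i : T5 (Rg E) →* G) (z : G) (σ : F ≃+* F) : Prop :=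
  ∃ y ∈ Y, ∃ s : Sem E σ, ∀ x, z * i x = i (y * s.m x * y⁻¹) * z

theorem Typ.top {Y : Subgroup (T5 (Rg E))} {i : T5 (Rg E) →* G} {z : G} {σ : F ≃+* F} (h : Typ Y i z σ) :
    Typ ⊤ i z σ := by
  obtain ⟨y, -, s, hz⟩ := h
  exact ⟨y, mem_top _, s, hz⟩

theorem conj_d (y : T5 (Rg E)) (a : F) : (y * mkT 0 0 0 0 0 a * y⁻¹).d.re = a := by
  have h1 : (mkT 0 0 0 0 0 a : T5 (Rg E)).d = ⟨a, 0⟩ := by
    ext
    · rfl
    · show (0 * star (0 : Rg E)).re = 0
      rw [zero_mul]; rfl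
  have h2 : (mkT 0 0 0 0 0 a : T5 (Rg E)).y = 0 := rfl
  rw [T5.mul_d, T5.mul_d, T5.mul_y, T5.inv_y, T5.inv_d, h1, h2]
  have h3 := congrArg QuadraticAlgebra.re y.hd
  simp only [mul_zero, add_zero, QuadraticAlgebra.re_add, QuadraticAlgebra.re_mul, QuadraticAlgebra.re_star,
    QuadraticAlgebra.im_star] at h3 ⊢
  linear_combination (norm := c2n) h3

theorem Typ.unique {i : T5 (Rg E) →* G} (inj : Function.Injective i) {Y Y' : Subgroup (T5 (Rg E))} {z : G}
    {σ σ' : F ≃+* F} (h : Typ Y i z σ) (h' : Typ Y' i z σ') : σ = σ' := by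
  obtain ⟨y, -, s, hz⟩ := h
  obtain ⟨y', -, s', hz'⟩ := h'
  ext a
  have h1 := inj (mul_right_cancel ((hz (mkT 0 0 0 0 0 a)).symm.trans (hz' (mkT 0 0 0 0 0 a))))
  have k : ∀ (σ : F ≃+* F) (s : Sem E σ), s.m (mkT 0 0 0 0 0 a) = mkT 0 0 0 0 0 (σ a) := by
    intro σ s
    refine ext' (map_zero s.s) (map_zero s.s) (map_zero s.s) (map_zero s.s) ?_ ?_
    · show (s.s ⟨0, _⟩).re = 0
      have : (⟨0, ((0 : Rg E) * star 0 + 0 * star 0 + 0 * star 0).re⟩ : Rg E) = 0 := by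
        simp only [zero_mul, add_zero]; rfl
      rw [this, map_zero]; rfl
    · show (s.s ⟨a, _⟩).re = σ a
      have : (⟨a, ((0 : Rg E) * star 0).re⟩ : Rg E) = ⟨a, 0⟩ := by
        simp only [zero_mul]; rfl
      rw [this, s.hC]
  rw [k, k] at h1
  have h2 := congrArg (fun x : T5 (Rg E) => x.d.re) h1
  rw [conj_d, conj_d] at h2
  exact h2

theorem Typ.mul {i : T5 (Rg E) →* G} {z z' : G} {σ σ' : F ≃+* F} {Y : Subgroup (T5 (Rg E))} (hY : Y = ⊤ ∨ Y = U E)
    (h : Typ Y i z σ) (h' : Typ Y i z' σ') : Typ Y i (z * z') (σ * σ') := by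
  obtain ⟨y, hy, s, hz⟩ := h
  obtain ⟨y', hy', s', hz'⟩ := h'
  refine ⟨y * s.m y', ?_, s.comp s', fun x => ?_⟩
  · rcases hY with rfl | rfl
    · exact mem_top _
    · exact mul_mem hy (s.m_mem_U hy')
  · rw [mul_assoc, hz', ← mul_assoc, hz, Sem.comp_m, map_mul s.m, map_mul s.m, map_inv, mul_assoc]
    congr 2
    group

theorem Typ.of_act {i : T5 (Rg E) →* G} {z : G} {σ : F ≃+* F} (s : Sem E σ)
    (hz : ∀ x, z * i x = i (s.m x) * z) {Y : Subgroup (T5 (Rg E))} : Typ Y i z σ :=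
  ⟨1, one_mem _, s, fun x => by rw [one_mul, inv_one, mul_one]; exact hz x⟩

theorem Typ.i {i : T5 (Rg E) →* G} (y : T5 (Rg E)) {Y : Subgroup (T5 (Rg E))} (hy : y ∈ Y) : Typ Y i (i y) 1 :=
  ⟨y, hy, Sem.one, fun x => by
    rw [Sem.one_m, ← map_mul, ← map_mul]
    congr 1
    group⟩

/-- `z_l(r)` -/
def eZ (r : F) : T5 (Rg E) := mkT 0 0 0 0 r 0

theorem eZ_c (r : F) : (eZ r : T5 (Rg E)).c = ⟨r, 0⟩ := by
  ext
  · rfl
  · show ((0 : Rg E) * star 0 + 0 * star 0 + 0 * star 0).re = 0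
    simp only [zero_mul, add_zero]; rfl

theorem eZ_d (r : F) : (eZ r : T5 (Rg E)).d = 0 := by
  ext
  · rfl
  · show ((0 : Rg E) * star 0).re = 0
    simp only [zero_mul]; rfl

theorem eZ_w1 (r : F) : (eZ r : T5 (Rg E)).w1 = 0 := rfl
theorem eZ_w2 (r : F) : (eZ r : T5 (Rg E)).w2 = 0 := rfl
theorem eZ_w3 (r : F) : (eZ r : T5 (Rg E)).w3 = 0 := rfl
theorem eZ_y (r : F) : (eZ r : T5 (Rg E)).y = 0 := rfl

theorem eZ_zero : (eZ 0 : T5 (Rg E)) = 1 := by
  refine ext' rfl rfl rfl rfl rfl rfl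

theorem eZ_mul (r r' : F) : (eZ r : T5 (Rg E)) * eZ r' = eZ (r + r') := by
  ext1
  · t5; rw [eZ_w1, eZ_w1, eZ_w1, add_zero]
  · t5; rw [eZ_w2, eZ_w2, eZ_w2, eZ_w1, eZ_y]; t5
  · t5; rw [eZ_w2, eZ_w3, eZ_w3, eZ_w3, eZ_w1, eZ_y]; t5
  · t5; rw [eZ_w2, eZ_w3, eZ_w3, eZ_w1, eZ_w1, eZ_w2, eZ_y, eZ_c, eZ_c, eZ_c]; t5
    ext
    · rfl
    · show (0 : F) + 0 = 0
      ring
  · t5; rw [eZ_y, eZ_y, eZ_y, add_zero]
  · t5; rw [eZ_y, eZ_y, eZ_d, eZ_d, eZ_d]; t5

theorem eZ_comm (r : F) (x : T5 (Rg E)) : eZ r * x = x * eZ r := by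
  ext1
  · t5; rw [eZ_w1]; ring
  · t5; rw [eZ_w2, eZ_w1, eZ_y]; ring
  · t5; rw [eZ_w2, eZ_w3, eZ_w1, eZ_y, eZ_d]; t5
  · t5; rw [eZ_w2, eZ_w3, eZ_w1, eZ_y]; t5; ring
  · t5; ring
  · t5; rw [eZ_y, eZ_d]; t5

theorem eZ_U (r : F) : (eZ r : T5 (Rg E)) ∈ U E := by
  rw [mem_U_iff]
  exact ⟨rfl, rfl, rfl, by rw [eZ_c], rfl, by rw [eZ_d]; rfl⟩

theorem eZ_m {σ : F ≃+* F} (s : Sem E σ) (r : F) : s.m (eZ r) = eZ (σ r) := by
  ext1
  · exact map_zero s.s
  · exact map_zero s.s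
  · exact map_zero s.s
  · show s.s (eZ r : T5 (Rg E)).c = _
    rw [eZ_c, eZ_c, s.hC]
  · exact map_zero s.s
  · show s.s (eZ r : T5 (Rg E)).d = _
    rw [eZ_d, eZ_d, map_zero]

theorem eq_eZ {x : T5 (Rg E)} (hx : x ∈ U E) (hc : ∀ z, x * z = z * x) : x = eZ x.c.re := by
  obtain ⟨a1, a2, a3, a4, a5, a6⟩ := mem_U_iff.1 hx
  have h1 := congrArg T5.w3 (hc ⟨0, 0, 0, 0, 0, 1, by simp, by rw [star_one, CharTwo.add_self_eq_zero]; simp⟩)
  have h2 := congrArg T5.w3 (hc (eA 1))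
  have h3 := congrArg T5.c (hc (eA th))
  simp only [T5.mul_w3, T5.mul_c, eA, star_zero, mul_zero, zero_mul, add_zero, zero_add, mul_one, one_mul] at h1 h2 h3
  have e1 : x.w1 = 0 := left_eq_add.1 h1
  have e2 : x.d = 0 := add_eq_left.1 h2
  rw [e1, a2] at h3
  simp only [zero_mul, zero_add] at h3
  have h4 := congrArg QuadraticAlgebra.re (add_left_cancel h3)
  have e3 : x.w3 = 0 := by
    ext
    · simp only [th, QuadraticAlgebra.re_mul, QuadraticAlgebra.re_star, QuadraticAlgebra.im_star, a3] at h4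
      show x.w3.re = 0
      linear_combination h4
    · exact a3
  refine ext' e1 a2 e3 a5 rfl ?_
  rw [e2]; rfl

/-- the environment -/
structure Env (i : T5 (Rg E) →* G) (t : G) (S0 : Subgroup G) : Prop where
  inj : Function.Injective i
  tt : t * t = 1
  t_i : ∀ x, t * i x = i (tau x) * t
  t_ne : ∀ x, i x ≠ t
  two : IsPGroup 2 S0
  mem_t : t ∈ S0
  mem_U : ∀ x ∈ U E, i x ∈ S0
  comm : ∀ z ∈ S0, z * t = t * z
  syl : ∀ Q : Subgroup G, IsPGroup 2 Q → (∀ z ∈ Q, z * t = t * z) → S0 ≤ Q → Q ≤ S0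
  typ : ∀ z ∈ S0, ∃ σ, Typ (U E) i z σ
  one : ∀ z ∈ S0, Typ ⊤ i z 1 → ∃ x ∈ U E, z = i x ∨ z = t * i x
  fus : ∀ w c, IsConj (i (mkT w 0 0 0 c 0)) (i (mkT 0 0 w 0 c 0))

namespace Env

variable {i : T5 (Rg E) →* G} {t : G} {S0 : Subgroup G} (E0 : Env i t S0)
include E0
theorem t_inv : t⁻¹ = t := inv_eq_of_mul_eq_one_right E0.tt

theorem i_t (x : T5 (Rg E)) : i x * t = t * i (tau x) := by
  rw [E0.t_i, tau_tau]

theorem mem_U_of_comm {x : T5 (Rg E)} (h : i x * t = t * i x) : x ∈ U E := by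
  rw [CaseCInv.mem_U]
  rw [E0.i_t] at h
  exact E0.inj (mul_left_cancel h)

/-- `T` -/
def TT (_ : Env i t S0) : Subgroup G := i.range

theorem mem_TT {g : G} : g ∈ E0.TT ↔ ∃ x, i x = g := Iff.rfl

/-- `S0` normalises `T` -/
theorem conj_TT {z : G} (hz : z ∈ S0) {g : G} (hg : g ∈ E0.TT) : z * g * z⁻¹ ∈ E0.TT := by
  obtain ⟨x, rfl⟩ := hg
  obtain ⟨σ, y, -, s, hz'⟩ := E0.typ z hz
  exact ⟨y * s.m x * y⁻¹, by rw [hz' x, mul_inv_cancel_right]⟩

/-- `S = T S0` -/
def SS (E0 : Env i t S0) : Subgroup G where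
  carrier := {g | ∃ x, ∃ z ∈ S0, g = i x * z}
  one_mem' := ⟨1, 1, one_mem _, by simp⟩
  mul_mem' := by
    rintro _ _ ⟨x, z, hz, rfl⟩ ⟨x', z', hz', rfl⟩
    obtain ⟨x'', hx''⟩ := E0.conj_TT hz (E0.mem_TT.2 ⟨x', rfl⟩)
    refine ⟨x * x'', z * z', mul_mem hz hz', ?_⟩
    rw [map_mul, hx'']
    group
  inv_mem' := by
    rintro _ ⟨x, z, hz, rfl⟩
    obtain ⟨x'', hx''⟩ := E0.conj_TT (inv_mem hz) (E0.mem_TT.2 ⟨x⁻¹, rfl⟩)
    refine ⟨x'', z⁻¹, inv_mem hz, ?_⟩
    rw [hx'', map_inv]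
    group

theorem TT_le : E0.TT ≤ E0.SS := by
  rintro _ ⟨x, rfl⟩
  exact ⟨x, 1, one_mem _, by simp⟩

theorem S0_le : S0 ≤ E0.SS := fun z hz => ⟨1, z, hz, by simp⟩

theorem S0_le_normalizer : S0 ≤ normalizer (E0.TT : Set G) := by
  intro z hz
  rw [mem_normalizer_iff]
  intro g
  refine ⟨fun hg => E0.conj_TT hz hg, fun hg => ?_⟩
  have := E0.conj_TT (inv_mem hz) hg
  have e : z⁻¹ * (z * g * z⁻¹) * z⁻¹⁻¹ = g := by group
  rwa [e] at this

theorem isPGroup_TT [Finite F] : IsPGroup 2 E0.TT := by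
  have h1 : IsPGroup 2 (T5 (Rg E)) := by
    rw [IsPGroup.iff_card]
    obtain ⟨n, hn⟩ : ∃ n, Nat.card F = 2 ^ n := by
      have := Fintype.ofFinite F
      obtain ⟨n, -, hn⟩ := FiniteField.card F 2
      exact ⟨n, by rw [Nat.card_eq_fintype_card, hn]⟩
    exact ⟨n * 10, by rw [card_T, hn, ← pow_mul]⟩
  exact IsPGroup.of_surjective h1 i.rangeRestrict i.rangeRestrict_surjective

theorem isPGroup_SS [Finite F] : IsPGroup 2 E0.SS := by
  have h1 : IsPGroup 2 (E0.TT ⊔ S0 : Subgroup G) :=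
    IsPGroup.to_sup_of_normal_left' E0.isPGroup_TT E0.two E0.S0_le_normalizer
  refine h1.to_le ?_
  rintro _ ⟨x, z, hz, rfl⟩
  exact mul_mem (mem_sup_left ⟨x, rfl⟩) (mem_sup_right hz)

theorem conj_SS_TT {s g : G} (hs : s ∈ E0.SS) (hg : g ∈ E0.TT) : s * g * s⁻¹ ∈ E0.TT := by
  obtain ⟨x, z, hz, rfl⟩ := hs
  obtain ⟨w, hw⟩ := E0.conj_TT hz hg
  refine ⟨x * w * x⁻¹, ?_⟩
  rw [map_mul, map_mul, map_inv, hw]
  group

theorem typ_SS {g : G} (hg : g ∈ E0.SS) : ∃ σ, Typ ⊤ i g σ := by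
  obtain ⟨x, z, hz, rfl⟩ := hg
  obtain ⟨σ, hσ⟩ := E0.typ z hz
  exact ⟨1 * σ, (Typ.i x (mem_top _)).mul (Or.inl rfl) hσ.top⟩

/-- the field automorphism induced by an element of `S` -/
noncomputable def chi : E0.SS →* (F ≃+* F) where
  toFun g := (E0.typ_SS g.2).choose
  map_one' := by
    have h1 := (E0.typ_SS (one_mem E0.SS)).choose_spec
    have h2 : Typ ⊤ i (1 : G) (1 : F ≃+* F) := by
      have := Typ.i (i := i) (1 : T5 (Rg E)) (mem_top _)
      rwa [map_one] at this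
    exact h1.unique E0.inj h2
  map_mul' g g' := by
    have h1 := (E0.typ_SS g.2).choose_spec
    have h2 := (E0.typ_SS g'.2).choose_spec
    have h3 := (E0.typ_SS (g * g').2).choose_spec
    exact h3.unique E0.inj (h1.mul (Or.inl rfl) h2)

theorem chi_spec (g : E0.SS) : Typ ⊤ i (g : G) (E0.chi g) := (E0.typ_SS g.2).choose_spec

theorem chi_eq {g : E0.SS} {σ : F ≃+* F} {Y : Subgroup (T5 (Rg E))} (h : Typ Y i (g : G) σ) : E0.chi g = σ :=
  (E0.chi_spec g).unique E0.inj h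

theorem chi_i (x : T5 (Rg E)) : E0.chi ⟨i x, E0.TT_le ⟨x, rfl⟩⟩ = 1 := E0.chi_eq (Typ.i x (mem_top _))

theorem of_chi_one {g : G} (hg : g ∈ E0.SS) (h : E0.chi ⟨g, hg⟩ = 1) : (∃ x, g = i x) ∨ ∃ x, g = t * i x := by
  obtain ⟨x, z, hz, rfl⟩ := hg
  have h1 := E0.chi_spec ⟨i x * z, ⟨x, z, hz, rfl⟩⟩
  rw [h] at h1
  have h2 : Typ ⊤ i z 1 := by
    have h3 := (Typ.i (i := i) x⁻¹ (mem_top _)).mul (Or.inl rfl) h1
    have e : i x⁻¹ * (i x * z) = z := by rw [map_inv]; group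
    rw [one_mul] at h3
    change Typ ⊤ i (i x⁻¹ * (i x * z)) 1 at h3
    rwa [e] at h3
  obtain ⟨x', -, h3 | h3⟩ := E0.one z hz h2
  · left
    exact ⟨x * x', by rw [h3, map_mul]⟩
  · right
    refine ⟨tau x * x', ?_⟩
    rw [h3, ← mul_assoc, E0.i_t, map_mul, mul_assoc]

/-- `[S, S] ≤ T` modulo the central element `t` -/
theorem t_comm_mod {g : G} (hg : g ∈ E0.SS) : g⁻¹ * t⁻¹ * g * t ∈ E0.TT := by
  obtain ⟨x, z, hz, rfl⟩ := hg
  have h1 : t⁻¹ * i x = i (tau x) * t⁻¹ := by rw [E0.t_inv, E0.t_i]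
  have h2 : (z⁻¹ * i (x⁻¹ * tau x) * z⁻¹⁻¹) ∈ E0.TT := E0.conj_TT (inv_mem hz) ⟨_, rfl⟩
  have h3 : (i x * z)⁻¹ * t⁻¹ * (i x * z) * t = z⁻¹ * i (x⁻¹ * tau x) * z⁻¹⁻¹ := by
    have h4 : t⁻¹ * z * t = z := by
      rw [mul_assoc, E0.comm z hz]; group
    calc (i x * z)⁻¹ * t⁻¹ * (i x * z) * t = z⁻¹ * (i x)⁻¹ * (t⁻¹ * i x) * z * t := by group
      _ = z⁻¹ * (i x)⁻¹ * i (tau x) * (t⁻¹ * z * t) := by rw [h1]; group
      _ = _ := by rw [h4, map_mul, map_inv]; group
  rw [h3]; exact h2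

theorem comm_TT [Finite F] {g h : G} (hg : g ∈ E0.SS) (hh : h ∈ E0.SS) : (h * g)⁻¹ * (g * h) ∈ E0.TT := by
  let N : Subgroup E0.SS := E0.TT.subgroupOf E0.SS
  have hN : N.Normal := ⟨fun n hn g => by
    rw [mem_subgroupOf] at hn ⊢
    exact E0.conj_SS_TT g.2 hn⟩
  let f : E0.SS ⧸ N →* (F ≃+* F) := QuotientGroup.lift N E0.chi (by
    rintro ⟨g, hg⟩ hgN
    obtain ⟨x, rfl⟩ := mem_subgroupOf.1 hgN
    exact E0.chi_i x)
  have hcyc : IsCyclic (F ≃+* F) := isCyclic
  have hker : f.ker ≤ center (E0.SS ⧸ N) := by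
    intro q hq
    obtain ⟨⟨g, hg⟩, rfl⟩ := QuotientGroup.mk_surjective q
    have h1 : E0.chi ⟨g, hg⟩ = 1 := hq
    rw [mem_center_iff]
    intro r
    obtain ⟨⟨h, hh⟩, rfl⟩ := QuotientGroup.mk_surjective r
    rcases E0.of_chi_one hg h1 with ⟨x, rfl⟩ | ⟨x, rfl⟩
    · have : ((⟨i x, hg⟩ : E0.SS) : E0.SS ⧸ N) = 1 := (QuotientGroup.eq_one_iff _).2 (mem_subgroupOf.2 ⟨x, rfl⟩)
      rw [this, mul_one, one_mul]
    · have h2 : ((⟨t * i x, hg⟩ : E0.SS) : E0.SS ⧸ N) = ((⟨t, E0.S0_le E0.mem_t⟩ : E0.SS) : E0.SS ⧸ N) := by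
        rw [eq_comm, QuotientGroup.eq, mem_subgroupOf]
        show t⁻¹ * (t * i x) ∈ E0.TT
        exact ⟨x, by group⟩
      rw [h2, ← QuotientGroup.mk_mul, ← QuotientGroup.mk_mul, eq_comm, QuotientGroup.eq, mem_subgroupOf]
      show (t * h)⁻¹ * (h * t) ∈ E0.TT
      have e : (t * h)⁻¹ * (h * t) = h⁻¹ * t⁻¹ * h * t := by group
      rw [e]
      exact E0.t_comm_mod hh
  have hc := (f.isMulCommutative_of_isCyclic_of_ker_le_center hker).is_comm.comm
  have h1 := hc ((⟨h, hh⟩ : E0.SS) : E0.SS ⧸ N) ((⟨g, hg⟩ : E0.SS) : E0.SS ⧸ N)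
  rw [← QuotientGroup.mk_mul, ← QuotientGroup.mk_mul, QuotientGroup.eq, mem_subgroupOf] at h1
  exact h1

theorem TT_normal : (E0.TT.subgroupOf E0.SS).Normal := ⟨fun n hn g => by
    rw [mem_subgroupOf] at hn ⊢
    exact E0.conj_SS_TT g.2 hn⟩

theorem exists_phi [Finite F] : ∃ (A : Type u) (_ : CommGroup A) (φ : E0.SS →* A),
    φ ⟨t, E0.S0_le E0.mem_t⟩ ≠ 1 := by
  let N : Subgroup E0.SS := E0.TT.subgroupOf E0.SS
  have hN : N.Normal := E0.TT_normal
  let I : CommGroup (E0.SS ⧸ N) :=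
    { (inferInstance : Group (E0.SS ⧸ N)) with
      mul_comm := by
        intro a b
        obtain ⟨⟨g, hg⟩, rfl⟩ := QuotientGroup.mk_surjective a
        obtain ⟨⟨h, hh⟩, rfl⟩ := QuotientGroup.mk_surjective b
        rw [← QuotientGroup.mk_mul, ← QuotientGroup.mk_mul, QuotientGroup.eq, mem_subgroupOf]
        exact E0.comm_TT hh hg }
  refine ⟨E0.SS ⧸ N, I, QuotientGroup.mk' N, ?_⟩
  intro h
  have h1 : (⟨t, E0.S0_le E0.mem_t⟩ : E0.SS) ∈ N := (QuotientGroup.eq_one_iff _).1 h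
  obtain ⟨x, hx⟩ := mem_subgroupOf.1 h1
  exact E0.t_ne x hx

/-- involutions in the cosets of involutory type -/
theorem exists_invol [Finite F] {g : G} (hg : g ∈ E0.SS) {σ : F ≃+* F} (hσ : E0.chi ⟨g, hg⟩ = σ) (hσ2 : σ * σ = 1)
    (hσ1 : σ ≠ 1) (hgg : g * g ∈ E0.TT) :
    ∃ f ∈ S0, ∃ s : Sem E σ, f * f = 1 ∧ (∀ w, s.s (s.s w) = w) ∧
      (∀ x, f * i x = i (s.m x) * f) ∧ ∃ x, g = i x * f := by
  obtain ⟨x, z, hz, rfl⟩ := hg
  obtain ⟨σ', hT⟩ := E0.typ z hz
  have hσσ : σ' = σ := by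
    have h1 := E0.chi_eq (g := ⟨i x * z, ⟨x, z, hz, rfl⟩⟩) ((Typ.i x (mem_top _)).mul (Or.inl rfl) hT.top)
    rw [hσ, one_mul] at h1
    exact h1.symm
  subst hσσ
  obtain ⟨y, hy, s, hz'⟩ := hT
  set g1 : G := (i y)⁻¹ * z with hg1
  have hg1S : g1 ∈ S0 := mul_mem (inv_mem (E0.mem_U y hy)) hz
  have act : ∀ x, g1 * i x = i (s.m x) * g1 := by
    intro x
    rw [hg1, mul_assoc, hz', map_mul, map_mul, map_inv]
    group
  have hT1 : Typ ⊤ i (g1 * g1) 1 := by
    have := (Typ.of_act s act (Y := ⊤)).mul (Or.inl rfl) (Typ.of_act s act (Y := ⊤))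
    rwa [hσ2] at this
  -- `g1 g1 ∈ T`
  have hzz : (i x * z) * (i x * z) = i (x * y * s.m (x * y)) * (g1 * g1) := by
    have e : z = i y * g1 := by rw [hg1]; group
    have e1 : i x * z = i (x * y) * g1 := by rw [e, map_mul, mul_assoc]
    rw [e1]
    calc i (x * y) * g1 * (i (x * y) * g1) = i (x * y) * (g1 * i (x * y)) * g1 := by group
      _ = _ := by rw [act, map_mul i (x * y)]; group
  obtain ⟨x1, hx1, h2⟩ := E0.one _ (mul_mem hg1S hg1S) hT1
  have h3 : g1 * g1 = i x1 := by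
    rcases h2 with h2 | h2
    · exact h2
    · exfalso
      rw [hzz, h2] at hgg
      obtain ⟨w, hw⟩ := hgg
      have : i ((x * y * s.m (x * y))⁻¹ * w * x1⁻¹) = t := by
        rw [map_mul, map_mul, hw, map_inv, map_inv]; group
      exact E0.t_ne _ this
  have h4 : ∀ x, x1 * x = s.m (s.m x) * x1 := by
    intro x
    apply E0.inj
    rw [map_mul, map_mul, ← h3, mul_assoc, act, ← mul_assoc, act, mul_assoc]
  have hss : ∀ w, s.s (s.s w) = w := by
    intro w
    have e1 := congrArg T5.w1 (h4 (eA w))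
    rw [T5.mul_w1, T5.mul_w1] at e1
    have e2 : x1.w1 + w = s.s (s.s w) + x1.w1 := e1
    linear_combination (-1 : Rg E) * e2
  have hmm : ∀ x, s.m (s.m x) = x := by
    intro x
    ext1
    all_goals exact hss _
  have hx1e : x1 = eZ x1.c.re := eq_eZ hx1 (fun z => by rw [h4, hmm])
  set r1 := x1.c.re with hr1
  -- `σ r = r`
  have hr : σ' r1 = r1 := by
    have h5 : g1 * i x1 = i x1 * g1 := by
      rw [← h3]
      exact (mul_assoc g1 g1 g1).symm
    rw [act] at h5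
    have h6 := E0.inj (mul_right_cancel h5)
    rw [hx1e, eZ_m] at h6
    exact congrArg (fun z : T5 (Rg E) => z.c.re) h6
  obtain ⟨r2, hr2⟩ := exists_trace hσ2 hσ1 hr
  set ρ : T5 (Rg E) := eZ r2 with hρ
  have hρU : ρ ∈ U E := eZ_U _
  have hρφ : s.m ρ * (x1 * ρ) = 1 := by
    rw [hx1e, hρ, eZ_m, eZ_mul, eZ_mul, ← eZ_zero]
    congr 1
    linear_combination (norm := c2n) hr2
  refine ⟨g1 * i ρ, mul_mem hg1S (E0.mem_U _ hρU), s, ?_, hss, ?_, x * y * s.m ρ, ?_⟩
  · calc g1 * i ρ * (g1 * i ρ) = (g1 * i ρ) * g1 * i ρ := by group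
      _ = i (s.m ρ) * (g1 * g1) * i ρ := by rw [act]; group
      _ = i (s.m ρ * (x1 * ρ)) := by rw [h3, map_mul, map_mul]; group
      _ = 1 := by rw [hρφ, map_one]
  · intro w
    calc g1 * i ρ * i w = g1 * i (ρ * w) := by rw [map_mul]; group
      _ = (g1 * i w) * i ρ := by rw [hρ, eZ_comm, map_mul]; group
      _ = _ := by rw [act]; group
  · have hφρ : s.m ρ * s.m ρ = 1 := by
      rw [hρ, eZ_m, eZ_mul, CharTwo.add_self_eq_zero, eZ_zero]
    calc i x * z = i (x * y) * g1 := by rw [hg1, map_mul]; group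
      _ = i (x * y) * i (s.m ρ * s.m ρ) * g1 := by rw [hφρ, map_one, mul_one]
      _ = i (x * y) * i (s.m ρ) * (i (s.m ρ) * g1) := by rw [map_mul i (s.m ρ)]; group
      _ = i (x * y) * i (s.m ρ) * (g1 * i ρ) := by rw [← act]
      _ = _ := by rw [map_mul i (x * y)]

/-- `t` is not conjugate into `T` -/
theorem not_conj [Finite F] [Finite G] (hF : 4 ≤ Nat.card F) (x : T5 (Rg E)) : ¬ IsConj t (i x) := by
  have : Fact (Nat.Prime 2) := ⟨Nat.prime_two⟩
  intro hconj
  have hix : i x * i x = 1 := by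
    obtain ⟨g, hg⟩ := isConj_iff.1 hconj
    rw [← hg]
    calc g * t * g⁻¹ * (g * t * g⁻¹) = g * (t * t) * g⁻¹ := by group
      _ = 1 := by rw [E0.tt]; group
  have hx : x * x = 1 := by
    apply E0.inj
    rw [map_mul, map_one, hix]
  obtain ⟨x', W, hW4, hWsq, hWc, hWx, hc'⟩ : ∃ (x' : T5 (Rg E)) (W : Subgroup (T5 (Rg E))),
      Nat.card F ^ 4 ≤ Nat.card W ∧ (∀ w ∈ W, w * w = 1) ∧ (∀ w ∈ W, ∀ w' ∈ W, w * w' = w' * w) ∧
      (∀ w ∈ W, w * x' = x' * w) ∧ IsConj t (i x') := by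
    rcases rank hx with ⟨W, h1, h2, h3, h4⟩ | ⟨y, w, c, h⟩
    · exact ⟨x, W, h1, h2, h3, h4, hconj⟩
    · refine ⟨mkT 0 0 w 0 c 0, V4 E, card_V4.ge, fun w hw => V4_sq hw, fun w hw w' hw' => V4_comm hw hw',
        fun z hz => V4_comm' hz rfl, (hconj.trans ?_).trans (E0.fus w c)⟩
      rw [isConj_iff]
      refine ⟨(i y)⁻¹, ?_⟩
      rw [inv_inv, mul_assoc, ← map_mul, h, map_mul, inv_mul_cancel_left]
  obtain ⟨g, hg⟩ := isConj_iff.1 hc'
  -- the elementary abelian group of order `q⁴` in `C_G(t)`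
  set C : Subgroup G := centralizer ({t} : Set G) with hC
  set E1 : Subgroup G := (W.map i).map (MulAut.conj g⁻¹).toMonoidHom with hE1
  have hE1C : E1 ≤ C := by
    rintro _ ⟨_, ⟨w, hw, rfl⟩, rfl⟩
    rw [hC, mem_centralizer_singleton_iff]
    have h1 : i w * i x' = i x' * i w := by rw [← map_mul, hWx w hw, map_mul]
    rw [← hg] at h1
    show (MulAut.conj g⁻¹) (i w) * t = t * (MulAut.conj g⁻¹) (i w)
    rw [MulAut.conj_apply, inv_inv]
    calc g⁻¹ * i w * g * t = g⁻¹ * (i w * (g * t * g⁻¹)) * g := by group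
      _ = t * (g⁻¹ * i w * g) := by rw [h1]; group
  have hE1p : IsPGroup 2 E1 := by
    have h1 : IsPGroup 2 (W.map i) := E0.isPGroup_TT.to_le (by
      rintro _ ⟨w, -, rfl⟩; exact ⟨w, rfl⟩)
    exact h1.map _
  obtain ⟨R, hR1, hR2, hR3, hR4⟩ := Cfsg.Agent.Lib.GoldschmidtFusion.exists_sylow_in (p := 2) (N := C) (D := S0)
    (fun z hz => mem_centralizer_singleton_iff.2 (E0.comm z hz)) E0.two
  have hRS : R = S0 := le_antisymm (E0.syl R hR3 (fun z hz => mem_centralizer_singleton_iff.1 (hR2 hz)) hR1) hR1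
  subst hRS
  obtain ⟨k, -, hk⟩ := Cfsg.Agent.Lib.GoldschmidtFusion.exists_conj_le_in (p := 2) hR3 hR4 hE1C hE1p
  set E2 : Subgroup G := E1.map (MulAut.conj k).toMonoidHom with hE2
  have hcard : Nat.card F ^ 4 ≤ Nat.card E2 := by
    refine hW4.trans (le_of_eq ?_)
    symm
    rw [hE2, hE1]
    rw [Nat.card_congr (equivMapOfInjective _ _ (MulAut.conj k).injective).toEquiv.symm]
    rw [Nat.card_congr (equivMapOfInjective _ _ (MulAut.conj g⁻¹).injective).toEquiv.symm]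
    exact (Nat.card_congr (equivMapOfInjective _ _ E0.inj).toEquiv.symm)
  have hsq : ∀ z ∈ E2, z * z = 1 := by
    rintro _ ⟨_, ⟨_, ⟨w, hw, rfl⟩, rfl⟩, rfl⟩
    rw [← map_mul, ← map_mul, ← map_mul, hWsq w hw, map_one, map_one, map_one]
  have hcomm : ∀ z ∈ E2, ∀ w ∈ E2, z * w = w * z := by
    rintro _ ⟨_, ⟨_, ⟨w, hw, rfl⟩, rfl⟩, rfl⟩ _ ⟨_, ⟨_, ⟨w', hw', rfl⟩, rfl⟩, rfl⟩
    rw [← map_mul, ← map_mul, ← map_mul, hWc w hw w' hw', map_mul, map_mul, map_mul]
  have hE2S : E2 ≤ E0.SS := hk.trans E0.S0_le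
  -- the part in `U`
  set E3 : Subgroup (T5 (Rg E)) := E2.comap i with hE3
  have hE3U : E3 ≤ U E := fun w hw => E0.mem_U_of_comm (E0.comm _ (hk hw))
  have hE3sq : ∀ w ∈ E3, w * w = 1 := fun w hw => E0.inj (by rw [map_mul, map_one]; exact hsq _ hw)
  have hE3c : ∀ w ∈ E3, ∀ w' ∈ E3, w * w' = w' * w := fun w hw w' hw' =>
    E0.inj (by rw [map_mul, map_mul]; exact hcomm _ hw _ hw')
  have hn3 : ((E3.map i : Subgroup G) : Set G).ncard = Nat.card E3 := by
    rw [← Nat.card_coe_set_eq]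
    exact Nat.card_congr (equivMapOfInjective _ _ E0.inj).toEquiv.symm
  -- elements of type one
  let H1 : Set G := {z | ∃ h : z ∈ E2, E0.chi ⟨z, hE2S h⟩ = 1}
  have hA : H1.ncard ≤ 2 * Nat.card E3 := by
    rw [← hn3]
    by_cases hex : ∃ y0 ∈ H1, ∃ w, y0 = t * i w
    · obtain ⟨y0, ⟨hy0, -⟩, w0, hw0⟩ := hex
      refine ncard_le_two y0 fun z hz => ?_
      obtain ⟨hz2, hz1⟩ := hz
      rcases E0.of_chi_one (hE2S hz2) hz1 with ⟨w, rfl⟩ | ⟨w, rfl⟩
      · left; exact ⟨w, hz2, rfl⟩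
      · right
        have h1 : y0⁻¹ * (t * i w) ∈ E2 := mul_mem (inv_mem hy0) hz2
        have h2 : y0⁻¹ * (t * i w) = i (w0⁻¹ * w) := by
          rw [hw0, map_mul, map_inv]; group
        rw [h2] at h1 ⊢
        exact ⟨_, h1, rfl⟩
    · refine ncard_le_two 1 fun z hz => ?_
      obtain ⟨hz2, hz1⟩ := hz
      rcases E0.of_chi_one (hE2S hz2) hz1 with ⟨w, rfl⟩ | ⟨w, rfl⟩
      · left; exact ⟨w, hz2, rfl⟩
      · exact absurd ⟨_, ⟨hz2, hz1⟩, w, rfl⟩ hex
  have hncard : Nat.card F ^ 4 ≤ ((E2 : Subgroup G) : Set G).ncard := by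
    refine hcard.trans (le_of_eq ?_)
    rw [← Nat.card_coe_set_eq]; rfl
  by_cases hall : ∀ z (hz : z ∈ E2), E0.chi ⟨z, hE2S hz⟩ = 1
  · have h1 : ((E2 : Subgroup G) : Set G) ⊆ H1 := fun z hz => ⟨hz, hall z hz⟩
    have h2 := Set.ncard_le_ncard h1 (Set.toFinite _)
    have h3 := card_elem_U hE3U hE3sq hE3c
    have h4 : Nat.card F ^ 4 ≤ 2 * Nat.card F ^ 3 :=
      hncard.trans (h2.trans (hA.trans (Nat.mul_le_mul_left 2 h3)))
    have h5 : Nat.card F ^ 4 = Nat.card F * Nat.card F ^ 3 := by ring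
    have h6 : 0 < Nat.card F ^ 3 := by positivity
    rw [h5] at h4
    have := Nat.le_of_mul_le_mul_right h4 h6
    omega
  · push Not at hall
    obtain ⟨z0, hz0, hz01⟩ := hall
    set σ := E0.chi ⟨z0, hE2S hz0⟩ with hσ
    have hsqchi : ∀ z (hz : z ∈ E2), E0.chi ⟨z, hE2S hz⟩ * E0.chi ⟨z, hE2S hz⟩ = 1 := by
      intro z hz
      rw [← map_mul]
      have : (⟨z, hE2S hz⟩ : E0.SS) * ⟨z, hE2S hz⟩ = 1 := Subtype.ext (hsq z hz)
      rw [this, map_one]
    have hB : ((E2 : Subgroup G) : Set G).ncard ≤ 2 * H1.ncard := by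
      refine ncard_le_two z0 fun z hz => ?_
      have hz' : z ∈ E2 := hz
      by_cases h1 : E0.chi ⟨z, hE2S hz'⟩ = 1
      · left; exact ⟨hz', h1⟩
      · right
        refine ⟨mul_mem (inv_mem hz0) hz', ?_⟩
        have h2 := unique_invol (hsqchi z0 hz0) (hsqchi z hz') hz01 h1
        have h3 : (⟨z0⁻¹ * z, hE2S (mul_mem (inv_mem hz0) hz')⟩ : E0.SS) = ⟨z0, hE2S hz0⟩⁻¹ * ⟨z, hE2S hz'⟩ := rfl
        rw [h3, map_mul, map_inv, h2, inv_mul_cancel]
    obtain ⟨σ', hT⟩ := E0.typ z0 (hk hz0)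
    have hσσ : σ' = σ := (E0.chi_eq (g := ⟨z0, hE2S hz0⟩) hT).symm
    rw [hσσ] at hT
    obtain ⟨y, hy, s, hz'⟩ := hT
    have h3 := card_fix_U (hsqchi z0 hz0) hz01 s hy hE3U (fun w hw => by
      apply E0.inj
      have h4 := hcomm _ hz0 _ hw
      rw [hz'] at h4
      have h5 := mul_right_cancel h4
      have h6 := E0.inj h5
      rw [← h6, inv_mul_cancel_right, h6])
    have h4 : Nat.card F ^ 4 ≤ 4 * Nat.card F ^ 2 := by
      refine hncard.trans ?_
      calc _ ≤ 2 * H1.ncard := hB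
        _ ≤ 2 * (2 * Nat.card E3) := Nat.mul_le_mul_left 2 hA
        _ ≤ 2 * (2 * Nat.card F ^ 2) := Nat.mul_le_mul_left 2 (Nat.mul_le_mul_left 2 h3)
        _ = 4 * Nat.card F ^ 2 := by ring
    have h5 : Nat.card F ^ 4 = Nat.card F ^ 2 * Nat.card F ^ 2 := by ring
    have h6 : 0 < Nat.card F ^ 2 := by positivity
    rw [h5] at h4
    have h7 := Nat.le_of_mul_le_mul_right h4 h6
    nlinarith only [hF, h7]

/-- conjugation into `S0` -/
theorem exists_conj_S0 [Finite G] {Q : Subgroup G} (hQ : IsPGroup 2 Q) (hQt : ∀ z ∈ Q, z * t = t * z) :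
    ∃ k, Q.map (MulAut.conj k).toMonoidHom ≤ S0 := by
  have : Fact (Nat.Prime 2) := ⟨Nat.prime_two⟩
  set C : Subgroup G := centralizer ({t} : Set G) with hC
  obtain ⟨R, hR1, hR2, hR3, hR4⟩ := Cfsg.Agent.Lib.GoldschmidtFusion.exists_sylow_in (p := 2) (N := C) (D := S0)
    (fun z hz => mem_centralizer_singleton_iff.2 (E0.comm z hz)) E0.two
  have hRS : R = S0 := le_antisymm (E0.syl R hR3 (fun z hz => mem_centralizer_singleton_iff.1 (hR2 hz)) hR1) hR1
  subst hRS
  obtain ⟨k, -, hk⟩ := Cfsg.Agent.Lib.GoldschmidtFusion.exists_conj_le_in (p := 2) hR3 hR4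
    (fun z hz => mem_centralizer_singleton_iff.2 (hQt z hz)) hQ
  exact ⟨k, hk⟩

theorem card_le [Finite G] {Q : Subgroup G} (hQ : IsPGroup 2 Q) {f g : G} (hf : g * t * g⁻¹ = f)
    (hQt : ∀ z ∈ Q, z * f = f * z) : Nat.card Q ≤ Nat.card S0 := by
  obtain ⟨k, hk⟩ := E0.exists_conj_S0 (Q := Q.map (MulAut.conj g⁻¹).toMonoidHom) (hQ.map _) (by
    rintro _ ⟨z, hz, rfl⟩
    have h1 := hQt z hz
    rw [← hf] at h1
    show (MulAut.conj g⁻¹) z * t = t * (MulAut.conj g⁻¹) z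
    rw [MulAut.conj_apply, inv_inv]
    calc g⁻¹ * z * g * t = g⁻¹ * (z * (g * t * g⁻¹)) * g := by group
      _ = t * (g⁻¹ * z * g) := by rw [h1]; group)
  refine le_trans (le_of_eq ?_) (Nat.card_le_card_of_injective _ (inclusion_injective hk))
  rw [Nat.card_congr (equivMapOfInjective _ _ (MulAut.conj k).injective).toEquiv.symm]
  rw [Nat.card_congr (equivMapOfInjective _ _ (MulAut.conj g⁻¹).injective).toEquiv.symm]

omit E0 in
theorem card_of_surj {H Q : Type*} [Group H] [Group Q] [Finite H] (φ : H →* Q) (hφ : Function.Surjective φ) :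
    Nat.card H = Nat.card φ.ker * Nat.card Q := by
  have h := φ.ker.card_mul_index
  rw [index_ker, MonoidHom.range_eq_top.2 hφ, card_top] at h
  exact h.symm

/-- conjugation to a semilinear involution -/
theorem conj_fld [Finite F] {σ : F ≃+* F} (hσ2 : σ * σ = 1) (hσ1 : σ ≠ 1) {f : G} {s : Sem E σ} (hff : f * f = 1)
    (hss : ∀ w, s.s (s.s w) = w) (hact : ∀ x, f * i x = i (s.m x) * f) {x : T5 (Rg E)}
    (hx : (i x * f) * (i x * f) = 1) : ∃ y, i y * (i x * f) * (i y)⁻¹ = f := by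
  have h2 : x * s.m x = 1 := by
    apply E0.inj
    rw [map_one, map_mul, ← hx]
    calc i x * i (s.m x) = i x * i (s.m x) * (f * f) := by rw [hff, mul_one]
      _ = i x * (i (s.m x) * f) * f := by group
      _ = i x * f * (i x * f) := by rw [← hact]; group
  have h3 : s.m x * x = 1 := by
    calc s.m x * x = x⁻¹ * (x * s.m x) * x := by group
      _ = 1 := by rw [h2]; group
  obtain ⟨u, hu⟩ := exists_trace hσ2 hσ1 (map_one σ)
  obtain ⟨y, hy⟩ := h90 (s := s.s) (hs := s.hs) hss (u := ⟨u, 0⟩) (θ := th) (star_ofF u) (by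
    rw [s.hC]
    ext
    · exact hu
    · show (0 : F) + 0 = 0
      ring) th_add (x := x) h3
  have hmm : ∀ w, s.m (s.m w) = w := by
    intro w
    ext1
    all_goals exact hss _
  refine ⟨s.m y, ?_⟩
  have hy' : s.m y * x = y := hy
  calc i (s.m y) * (i x * f) * (i (s.m y))⁻¹ = i (s.m y * x) * (f * i (s.m y)⁻¹) := by
        rw [map_mul, map_inv]; group
    _ = i y * (i (s.m (s.m y))⁻¹ * f) := by
        rw [hy', hact, map_inv s.m]
    _ = f := by rw [hmm, map_inv]; group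

/-- **a field automorphism is not conjugate to `t`** -/
theorem nout [Finite F] [Finite G] (hF : 4 ≤ Nat.card F) {σ : F ≃+* F} (hσ2 : σ * σ = 1) (hσ1 : σ ≠ 1) {f : G}
    (hf : f ∈ S0) {s : Sem E σ} (hff : f * f = 1)
    (hss : ∀ w, s.s (s.s w) = w) (hact : ∀ x, f * i x = i (s.m x) * f) : ¬ IsConj t f := by
  intro hconj
  obtain ⟨g, hg⟩ := isConj_iff.1 hconj
  have hfS : f ∈ E0.SS := E0.S0_le hf
  let P : Subgroup G := E0.SS ⊓ centralizer {f}
  have hP : ∀ {z}, z ∈ P → z * f = f * z := fun hz => mem_centralizer_singleton_iff.1 (mem_inf.1 hz).2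
  have hPS : P ≤ E0.SS := inf_le_left
  have h1 : Nat.card P ≤ Nat.card S0 := E0.card_le (E0.isPGroup_SS.to_le hPS) hg (fun z hz => hP hz)
  have hN : (E0.TT.subgroupOf E0.SS).Normal := E0.TT_normal
  let π := QuotientGroup.mk' (E0.TT.subgroupOf E0.SS)
  let φ0 : S0 →* E0.SS ⧸ E0.TT.subgroupOf E0.SS := π.comp (inclusion E0.S0_le)
  let φP : P →* E0.SS ⧸ E0.TT.subgroupOf E0.SS := π.comp (inclusion hPS)
  have hmk : ∀ (y : T5 (Rg E)) (z : G) (hz : z ∈ E0.SS) (hyz : i y * z ∈ E0.SS),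
      π ⟨i y * z, hyz⟩ = π ⟨z, hz⟩ := by
    intro y z hz hyz
    show ((⟨i y * z, hyz⟩ : E0.SS) : E0.SS ⧸ E0.TT.subgroupOf E0.SS) = ((⟨z, hz⟩ : E0.SS) : E0.SS ⧸ _)
    rw [QuotientGroup.eq, mem_subgroupOf]
    show (i y * z)⁻¹ * z ∈ E0.TT
    have := E0.conj_SS_TT (inv_mem hz) (inv_mem (⟨y, rfl⟩ : i y ∈ E0.TT))
    have e : z⁻¹ * (i y)⁻¹ * z⁻¹⁻¹ = (i y * z)⁻¹ * z := by group
    rwa [e] at this
  have s0 : Function.Surjective φ0 := by
    intro q
    obtain ⟨⟨_, x, z, hz, rfl⟩, rfl⟩ := QuotientGroup.mk'_surjective _ q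
    exact ⟨⟨z, hz⟩, (hmk x z (E0.S0_le hz) _).symm⟩
  have sP : Function.Surjective φP := by
    intro q
    obtain ⟨⟨z, hz⟩, rfl⟩ := s0 q
    have hzS := E0.S0_le hz
    obtain ⟨x, hx⟩ := E0.comm_TT (inv_mem hzS) (inv_mem hfS)
    have hx' : i x * f = z * f * z⁻¹ := by rw [hx]; group
    obtain ⟨y, hy⟩ := E0.conj_fld hσ2 hσ1 hff hss hact (x := x) (by
      rw [hx']
      calc z * f * z⁻¹ * (z * f * z⁻¹) = z * (f * f) * z⁻¹ := by group
        _ = 1 := by rw [hff]; group)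
    rw [hx'] at hy
    have hyz : i y * z ∈ P := by
      refine mem_inf.2 ⟨mul_mem (E0.TT_le ⟨y, rfl⟩) hzS, ?_⟩
      rw [mem_centralizer_singleton_iff]
      calc i y * z * f = (i y * (z * f * z⁻¹) * (i y)⁻¹) * (i y * z) := by group
        _ = _ := by rw [hy]
    exact ⟨⟨i y * z, hyz⟩, hmk y z hzS _⟩
  have c0 := card_of_surj φ0 s0
  have cP := card_of_surj φP sP
  have k0 : Nat.card φ0.ker ≤ Nat.card F ^ 4 := by
    refine le_trans ?_ (card_U (E := E))
    have hex : ∀ z : φ0.ker, ∃ x : U E, i x.1 = z.1.1 := by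
      rintro ⟨⟨z, hz⟩, hk⟩
      have h2 : ((⟨z, E0.S0_le hz⟩ : E0.SS) : E0.SS ⧸ E0.TT.subgroupOf E0.SS) = 1 := hk
      rw [QuotientGroup.eq_one_iff, mem_subgroupOf] at h2
      obtain ⟨x, hx⟩ := h2
      have hx2 : i x = z := hx
      exact ⟨⟨x, E0.mem_U_of_comm (by rw [hx2]; exact E0.comm z hz)⟩, hx2⟩
    choose F' hF' using hex
    refine Nat.card_le_card_of_injective F' ?_
    intro z z' h
    apply Subtype.ext
    apply Subtype.ext
    rw [← hF', ← hF', h]
  have kP : Nat.card F ^ 4 < Nat.card φP.ker := by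
    refine lt_of_lt_of_le (card_fix_T hF hσ2 hσ1 s hss) ?_
    have hmem : ∀ x : {x : T5 (Rg E) // s.m x = x}, i x.1 ∈ P := by
      rintro ⟨x, hx⟩
      refine mem_inf.2 ⟨E0.TT_le ⟨x, rfl⟩, ?_⟩
      rw [mem_centralizer_singleton_iff, hact, hx]
    refine Nat.card_le_card_of_injective
      (fun x : {x : T5 (Rg E) // s.m x = x} => (⟨⟨i x.1, hmem x⟩, ?_⟩ : φP.ker)) ?_
    · show ((⟨i x.1, hPS (hmem x)⟩ : E0.SS) : E0.SS ⧸ E0.TT.subgroupOf E0.SS) = 1
      rw [QuotientGroup.eq_one_iff, mem_subgroupOf]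
      exact ⟨x.1, rfl⟩
    · intro x x' h
      apply Subtype.ext
      apply E0.inj
      exact congrArg (fun z : φP.ker => z.1.1) h
  have hQ : 0 < Nat.card (E0.SS ⧸ E0.TT.subgroupOf E0.SS) := Nat.card_pos
  rw [c0, cP] at h1
  have h2 := Nat.le_of_mul_le_mul_right h1 hQ
  omega

/-- **(★)** -/
theorem star [Finite F] [Finite G] (hF : 4 ≤ Nat.card F) (g : G) (hg : g * t * g⁻¹ ∈ E0.SS) :
    ∃ x ∈ E0.TT, g * t * g⁻¹ = x * t * x⁻¹ := by
  set s : G := g * t * g⁻¹ with hs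
  have hts : IsConj t s := isConj_iff.2 ⟨g, rfl⟩
  have hss : s * s = 1 := by
    calc s * s = g * (t * t) * g⁻¹ := by rw [hs]; group
      _ = 1 := by rw [E0.tt]; group
  by_cases h1 : E0.chi ⟨s, hg⟩ = 1
  · rcases E0.of_chi_one hg h1 with ⟨x, hx⟩ | ⟨x, hx⟩
    · exact absurd (hx ▸ hts) (E0.not_conj hF x)
    · -- the coset `tT`
      have h2 : tau x * x = 1 := by
        apply E0.inj
        rw [map_one, ← hss, hx, map_mul]
        calc i (tau x) * i x = i (tau x) * (t * t) * i x := by rw [E0.tt, mul_one]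
          _ = (i (tau x) * t) * t * i x := by group
          _ = t * i x * (t * i x) := by rw [← E0.t_i]; group
      have key : ∀ (y x' : T5 (Rg E)), tau y * x = x' * y → i y * s * (i y)⁻¹ = t * i x' := by
        intro y x' h
        calc i y * s * (i y)⁻¹ = (i y * t) * i x * (i y)⁻¹ := by rw [hx]; group
          _ = t * (i (tau y * x)) * (i y)⁻¹ := by rw [E0.i_t, map_mul]; group
          _ = t * i x' := by rw [h, map_mul]; group
      obtain ⟨y, h⟩ := tau_normal h2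
      have h3 := key y 1 (by rw [h, one_mul])
      rw [map_one, mul_one] at h3
      refine ⟨(i y)⁻¹, inv_mem ⟨y, rfl⟩, ?_⟩
      rw [← h3]
      group
  · exfalso
    have hchi2 : E0.chi ⟨s, hg⟩ * E0.chi ⟨s, hg⟩ = 1 := by
      rw [← map_mul]
      have : (⟨s, hg⟩ : E0.SS) * ⟨s, hg⟩ = 1 := Subtype.ext hss
      rw [this, map_one]
    obtain ⟨f, hf, s', hff, hss', hact, x, hx⟩ := E0.exists_invol hg rfl hchi2 h1 (by rw [hss]; exact one_mem _)
    rw [hx] at hss hts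
    obtain ⟨y, hy⟩ := E0.conj_fld hchi2 h1 hff hss' hact hss
    exact E0.nout hF hchi2 h1 hf hff hss' hact (hts.trans (isConj_iff.2 ⟨i y, hy⟩))

/-- `S` is a Sylow 2-subgroup -/
theorem exists_sylow [Finite F] [Finite G] (hF : 4 ≤ Nat.card F) : ∃ P : Sylow 2 G, (P : Subgroup G) = E0.SS := by
  refine Cfsg.Agent.StdEven.OuterKill.exists_sylow (t := t) E0.isPGroup_SS E0.TT_le (E0.S0_le E0.mem_t)
    (fun g hg => E0.star hF g hg) (fun Q hQ hQt hQS => ?_)
  exact (E0.syl Q hQ hQt fun z hz => hQS z (E0.S0_le hz) (E0.comm z hz)).trans E0.S0_le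

/-- **The end of case (C).** -/
theorem main [Finite F] [Finite G] (hF : 4 ≤ Nat.card F) {L : Subgroup G} [hLn : L.Normal] (hL : commutator L = ⊤)
    (hTL : ∀ x, i x ∈ L)
    (nin : ∀ y z, y * t = t * y → z ∈ S0 → y * z * y⁻¹ ∈ E0.TT → ∃ x ∈ U E, z = i x) :
    t ∉ L ∧ ∃ P : Sylow 2 L, (P : Subgroup L).map L.subtype = E0.TT := by
  have : Fact (Nat.Prime 2) := ⟨Nat.prime_two⟩
  obtain ⟨P, hP⟩ := E0.exists_sylow hF
  have hstar : ∀ g : G, g * t * g⁻¹ ∈ (P : Subgroup G) → ∃ x ∈ E0.TT, g * t * g⁻¹ = x * t * x⁻¹ := by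
    intro g hg
    rw [hP] at hg
    exact E0.star hF g hg
  have htP : t ∈ (P : Subgroup G) := by rw [hP]; exact E0.S0_le E0.mem_t
  have hTP : E0.TT ≤ (P : Subgroup G) := by rw [hP]; exact E0.TT_le
  -- `t ∉ L`
  have htL : t ∉ L := by
    obtain ⟨A, _, φ, hφ⟩ := E0.exists_phi
    let e : (P : Subgroup G) ≃* E0.SS := MulEquiv.subgroupCongr hP
    exact Cfsg.Agent.StdEven.OuterKill.not_mem hTP E0.tt htP hstar hL (φ.comp e.toMonoidHom) hφ
  refine ⟨htL, ?_⟩
  have hTL' : E0.TT ≤ L := by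
    rintro _ ⟨x, rfl⟩; exact hTL x
  -- elements of type one in `S ∩ L`
  have hone : ∀ g (hg : g ∈ E0.SS), g ∈ L → E0.chi ⟨g, hg⟩ = 1 → g ∈ E0.TT := by
    intro g hg hgL h1
    rcases E0.of_chi_one hg h1 with ⟨x, hx⟩ | ⟨x, hx⟩
    · exact ⟨x, hx.symm⟩
    · exfalso
      apply htL
      have e : t = g * (i x)⁻¹ := by rw [hx]; group
      rw [e]
      exact mul_mem hgL (inv_mem (hTL x))
  have key : E0.SS ⊓ L ≤ E0.TT := by
    by_contra hcon
    -- an element of type `≠ 1`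
    obtain ⟨g, ⟨hgS, hgL⟩, hgT⟩ := SetLike.not_le_iff_exists.1 hcon
    have hg1 : E0.chi ⟨g, hgS⟩ ≠ 1 := fun h => hgT (hone g hgS hgL h)
    -- an element whose type is an involution
    obtain ⟨z, hzS, hzL, hz2, hz1⟩ : ∃ z, ∃ hz : z ∈ E0.SS, z ∈ L ∧ E0.chi ⟨z, hz⟩ * E0.chi ⟨z, hz⟩ = 1 ∧
        E0.chi ⟨z, hz⟩ ≠ 1 := by
      obtain ⟨n, hn⟩ := E0.isPGroup_SS ⟨g, hgS⟩
      have hex : ∃ k, E0.chi (⟨g, hgS⟩ ^ 2 ^ k) = 1 := ⟨n, by rw [hn, map_one]⟩
      classical
      let k := Nat.find hex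
      have hk : E0.chi (⟨g, hgS⟩ ^ 2 ^ k) = 1 := Nat.find_spec hex
      have hk0 : k ≠ 0 := by
        intro h0
        rw [h0, pow_zero, pow_one] at hk
        exact hg1 hk
      obtain ⟨m, hm⟩ := Nat.exists_eq_succ_of_ne_zero hk0
      have hm1 : ¬ E0.chi (⟨g, hgS⟩ ^ 2 ^ m) = 1 := Nat.find_min hex (by omega)
      refine ⟨g ^ 2 ^ m, pow_mem hgS _, pow_mem hgL _, ?_, hm1⟩
      have h3 : (⟨g ^ 2 ^ m, pow_mem hgS _⟩ : E0.SS) = ⟨g, hgS⟩ ^ 2 ^ m := rfl
      rw [h3, ← map_mul, ← pow_two, ← pow_mul, ← pow_succ]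
      rw [hm] at hk
      exact hk
    have hzz : z * z ∈ E0.TT := hone _ (mul_mem hzS hzS) (mul_mem hzL hzL) (by
      have h3 : (⟨z * z, mul_mem hzS hzS⟩ : E0.SS) = ⟨z, hzS⟩ * ⟨z, hzS⟩ := rfl
      rw [h3, map_mul, hz2])
    obtain ⟨σ, hσ⟩ : ∃ σ, E0.chi ⟨z, hzS⟩ = σ := ⟨_, rfl⟩
    rw [hσ] at hz2 hz1
    obtain ⟨f, hf, s, hff, hss, hact, x, hx⟩ := E0.exists_invol hzS hσ hz2 hz1 hzz
    have hfL : f ∈ L := by
      have e : f = (i x)⁻¹ * z := by rw [hx]; group
      rw [e]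
      exact mul_mem (inv_mem (hTL x)) hzL
    have hfS := E0.S0_le hf
    have hchif : E0.chi ⟨f, hfS⟩ = σ := E0.chi_eq (g := ⟨f, hfS⟩) (Typ.of_act s hact (Y := ⊤))
    have hfT : f ∉ E0.TT := by
      rintro ⟨w, hw⟩
      apply hz1
      rw [← hchif]
      have : (⟨f, hfS⟩ : E0.SS) = ⟨i w, E0.TT_le ⟨w, rfl⟩⟩ := Subtype.ext hw.symm
      rw [this]
      exact E0.chi_i w
    let I : CommGroup (F ≃+* F) := { (inferInstance : Group (F ≃+* F)) with mul_comm := Cfsg.Agent.StdRank2.OutField.comm }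
    have hPS : (P : Subgroup G) ⊓ L ≤ E0.SS := inf_le_left.trans hP.le
    let ψ : ↥((P : Subgroup G) ⊓ L) →* (F ≃+* F) := E0.chi.comp (inclusion hPS)
    obtain ⟨y, hyt, hyf⟩ := Cfsg.Agent.StdEven.OuterKill.no_outer (A := F ≃+* F) (P := P) (T := E0.TT) (L := L)
      (t := t) (f := f) E0.tt htP (fun x hx => E0.conj_TT E0.mem_t hx) hstar hL ψ (by
        intro w hw
        constructor
        · intro h1
          exact hone w (hPS hw) (mem_inf.1 hw).2 h1
        · rintro ⟨w', rfl⟩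
          exact E0.chi_i w') hff (E0.comm f hf) (mem_inf.2 ⟨by rw [hP]; exact hfS, hfL⟩) hfT (by
        intro w hw hww
        have h1 : E0.chi ⟨w, hPS hw⟩ * E0.chi ⟨w, hPS hw⟩ = 1 := by
          rw [← map_mul]
          have : (⟨w, hPS hw⟩ : E0.SS) * ⟨w, hPS hw⟩ = 1 := Subtype.ext hww
          rw [this, map_one]
        by_cases h2 : E0.chi ⟨w, hPS hw⟩ = 1
        · exact Or.inl h2
        · right
          show E0.chi ⟨w, hPS hw⟩ = E0.chi ⟨f, hfS⟩
          rw [hchif]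
          exact unique_invol h1 hz2 h2 hz1)
    obtain ⟨w, -, hw⟩ := nin y f hyt hf hyf
    exact hfT ⟨w, hw.symm⟩
  have hSL : E0.SS ⊓ L = E0.TT := le_antisymm key (le_inf E0.TT_le hTL')
  have hodd : ¬ 2 ∣ (E0.TT.subgroupOf L).index := by
    have h1 := Cfsg.Agent.StdEven.OuterKill.not_dvd_relIndex P L
    rw [← inf_relIndex_right, hP, hSL] at h1
    exact h1
  have hT2 : IsPGroup 2 (E0.TT.subgroupOf L) := E0.isPGroup_TT.comap_of_injective L.subtype L.subtype_injective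
  refine ⟨hT2.toSylow hodd, ?_⟩
  show (E0.TT.subgroupOf L).map L.subtype = E0.TT
  rw [subgroupOf_map_subtype]
  exact inf_eq_left.2 hTL'

end Env

end Cfsg.Agent.StdSpFour.CaseCEnv
end

-- part: StdSpFour/CaseCFld
section
/-!
# S1778, type Sp₄(q), case (C): the action of the field elements on `T`
-/

set_option autoImplicit false
set_option linter.unusedSectionVars false

namespace Cfsg.Agent.StdSpFour.CaseCFld

open Cfsg.Agent.StdSpFour Cfsg.Agent.StdSpFour.Comm Cfsg.Agent.StdSpFour.Fld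
open Cfsg.Agent.StdSpFour.CaseC Cfsg.Agent.StdSpFour.CaseCInv Cfsg.Agent.StdSpFour.CaseCEnv
open Cfsg.Agent.StdSpFour.UFiveModel Cfsg.Agent.StdSpFour.CaseBFld

variable {F G : Type*} [Field F] [Group G] [CharP F 2] {B : Base F G} {E : F} {σ : F ≃+* F} {f : G}

/-! ### the generators in the model -/

section gen

variable (D : Three B E)

/-- `sg(w)` -/
def eS (w : Rg E) : T5 (Rg E) := mkT 0 w 0 0 0 0
/-- `sg'(w)` -/
def eS' (w : Rg E) : T5 (Rg E) := mkT 0 0 0 w 0 (nm w)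
/-- `x_b(s)` -/
def eB (s : F) : T5 (Rg E) := mkT 0 0 0 0 0 s

theorem nm_zero : nm (0 : Rg E) = 0 := by simp [nm]

theorem eS_c (w : Rg E) : (eS w).c = ⟨0, nm w⟩ := by
  ext
  · rfl
  · show (0 * star 0 + w * star w + 0 * star (0 : Rg E)).re = nm w
    rw [zero_mul, zero_add, add_zero]
    cm
    linear_combination (norm := c2n)
theorem eS_d (w : Rg E) : (eS w).d = 0 := by
  ext
  · rfl
  · show (0 * star (0 : Rg E)).re = 0
    rw [zero_mul]; rfl
theorem eS'_c (w : Rg E) : (eS' w).c = 0 := by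
  ext
  · rfl
  · show (0 * star 0 + 0 * star 0 + 0 * star (0 : Rg E)).re = 0
    simp only [zero_mul, add_zero]; rfl
theorem eS'_d (w : Rg E) : (eS' w).d = ⟨nm w, nm w⟩ := by
  ext
  · rfl
  · show (w * star w).re = nm w
    cm
    linear_combination (norm := c2n)
theorem eB_c (u : F) : (eB u : T5 (Rg E)).c = 0 := by
  ext
  · rfl
  · show (0 * star 0 + 0 * star 0 + 0 * star (0 : Rg E)).re = 0
    simp only [zero_mul, add_zero]; rfl
theorem eB_d (u : F) : (eB u : T5 (Rg E)).d = ⟨u, 0⟩ := by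
  ext
  · rfl
  · show (0 * star (0 : Rg E)).re = 0
    simp only [zero_mul]; rfl

theorem hom_eA (w : Rg E) : D.hom (eA w) = D.A w := by
  rw [Three.hom_apply]
  show D.A w * (D.sg 0 * (D.sg' 0 * D.v4 ((0 : Rg E).re + nm (0 : Rg E)) 0 (0 + w * star (0 : Rg E)).re)) = _
  rw [Two.sg_zero, Two.sg'_zero, nm_zero, star_zero, mul_zero, add_zero, add_zero, QuadraticAlgebra.re_zero,
    Two.v4_zero]
  group

theorem hom_eX (w : Rg E) : D.hom (eX w) = D.X w := by
  rw [Three.hom_apply]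
  show D.A 0 * (D.sg 0 * (D.sg' 0 * D.v4 ((0 : Rg E).re + nm (0 : Rg E)) w (0 + 0 * star w).re)) = _
  rw [Two.A_zero, Two.sg_zero, Two.sg'_zero, nm_zero, zero_mul, add_zero, add_zero, QuadraticAlgebra.re_zero,
    Two.X_eq]
  group

theorem hom_eS (w : Rg E) : D.hom (eS w) = D.sg w := by
  rw [Three.hom_apply]
  show D.A 0 * (D.sg w * (D.sg' 0 * D.v4 (0 + nm (0 : Rg E)) 0 ((eS w).c + 0 * star (0 : Rg E)).re)) = _
  have h : ((eS w : T5 (Rg E)).c + 0 * star (0 : Rg E)).re = 0 := by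
    rw [zero_mul, add_zero]; rfl
  rw [h, Two.A_zero, Two.sg'_zero, nm_zero, add_zero, Two.v4_zero]
  group

theorem hom_eS' (w : Rg E) : D.hom (eS' w) = D.sg' w := by
  rw [Three.hom_apply]
  show D.A 0 * (D.sg 0 * (D.sg' w * D.v4 (nm w + nm w) 0 ((eS' w).c + 0 * star (0 : Rg E)).re)) = _
  have h : ((eS' w : T5 (Rg E)).c + 0 * star (0 : Rg E)).re = 0 := by
    rw [zero_mul, add_zero]; rfl
  rw [h, Two.A_zero, Two.sg_zero, CharTwo.add_self_eq_zero, Two.v4_zero]
  group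

theorem hom_eB (s : F) : D.hom (eB s) = B.xb s := by
  rw [Three.hom_apply]
  show D.A 0 * (D.sg 0 * (D.sg' 0 * D.v4 (s + nm (0 : Rg E)) 0 ((eB s).c + 0 * star (0 : Rg E)).re)) = _
  have h : ((eB s : T5 (Rg E)).c + 0 * star (0 : Rg E)).re = 0 := by
    rw [zero_mul, add_zero]; rfl
  rw [h, Two.A_zero, Two.sg_zero, Two.sg'_zero, nm_zero, add_zero, Two.xb_eq D.toTwo]
  group

theorem hom_eZ (s : F) : D.hom (eZ s) = B.zl s := by
  rw [Three.hom_apply]
  show D.A 0 * (D.sg 0 * (D.sg' 0 * D.v4 (0 + nm (0 : Rg E)) 0 ((eZ s).c + 0 * star (0 : Rg E)).re)) = _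
  have h : ((eZ s : T5 (Rg E)).c + 0 * star (0 : Rg E)).re = s := by
    rw [zero_mul, add_zero]; rfl
  rw [h, Two.A_zero, Two.sg_zero, Two.sg'_zero, nm_zero, add_zero, Two.zl_eq D.toTwo]
  group

theorem t_hom' (x : T5 (Rg E)) : B.t * D.hom x = D.hom (tau x) * B.t := by
  rw [D.t_hom]
  congr 2

include D in
/-- the normal form in the model -/
theorem nf_model (x : T5 (Rg E)) : ∃ (w : Rg E) (s c : F),
    x = eA x.w1 * (eS x.w2 * (eS' x.y * (eB s * (eX w * eZ c)))) := by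
  refine ⟨x.w3, x.d.re + nm x.y, (x.c + x.w1 * star x.w3).re, D.hom_inj ?_⟩
  simp only [map_mul, hom_eA, hom_eS, hom_eS', hom_eB, hom_eX, hom_eZ]
  rw [Three.hom_apply, Two.v4]
  simp only [mul_assoc]

/-- an element acting on the generators acts on the model -/
theorem act_of_gen {σ : F ≃+* F} (s : Sem E σ) {f : G} (hA : ∀ w, f * D.A w = D.A (s.s w) * f)
    (hX : ∀ w, f * D.X w = D.X (s.s w) * f) (hS : ∀ w, f * D.sg w = D.hom (s.m (eS w)) * f)
    (hS' : ∀ w, f * D.sg' w = D.hom (s.m (eS' w)) * f) (hxb : ∀ u, f * B.xb u = B.xb (σ u) * f)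
    (hzl : ∀ u, f * B.zl u = B.zl (σ u) * f) (x : T5 (Rg E)) : f * D.hom x = D.hom (s.m x) * f := by
  have key : ∀ x y : T5 (Rg E), f * D.hom x = D.hom (s.m x) * f → f * D.hom y = D.hom (s.m y) * f →
      f * D.hom (x * y) = D.hom (s.m (x * y)) * f := by
    intro x y h1 h2
    rw [map_mul, ← mul_assoc, h1, mul_assoc, h2, ← mul_assoc, map_mul s.m, map_mul]
  have mB : ∀ u, s.m (eB u) = eB (σ u) := by
    intro u
    refine ext' (map_zero s.s) (map_zero s.s) (map_zero s.s) (map_zero s.s) ?_ ?_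
    · show (s.s (eB u : T5 (Rg E)).c).re = 0
      have : (eB u : T5 (Rg E)).c = 0 := by
        ext
        · rfl
        · show ((0 : Rg E) * star 0 + 0 * star 0 + 0 * star 0).re = 0
          simp only [zero_mul, add_zero]; rfl
      rw [this, map_zero]; rfl
    · show (s.s (eB u : T5 (Rg E)).d).re = σ u
      have : (eB u : T5 (Rg E)).d = ⟨u, 0⟩ := by
        ext
        · rfl
        · show ((0 : Rg E) * star 0).re = 0
          simp only [zero_mul]; rfl
      rw [this, s.hC]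
  obtain ⟨w, u, c, h⟩ := nf_model D x
  rw [h]
  refine key _ _ ?_ (key _ _ ?_ (key _ _ ?_ (key _ _ ?_ (key _ _ ?_ ?_))))
  · rw [hom_eA, hA]
    congr 1
    rw [← hom_eA]
    congr 1
    refine ext' rfl (map_zero s.s).symm (map_zero s.s).symm (map_zero s.s).symm ?_ ?_
    · show (0 : F) = (s.s 0).re
      rw [map_zero]; rfl
    · show (0 : F) = (s.s 0).re
      rw [map_zero]; rfl
  · rw [hom_eS, hS]
  · rw [hom_eS', hS']
  · rw [hom_eB, hxb, mB, hom_eB]
  · rw [hom_eX, hX]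
    congr 1
    rw [← hom_eX]
    congr 1
    refine ext' (map_zero s.s).symm (map_zero s.s).symm rfl (map_zero s.s).symm ?_ ?_
    · show (0 : F) = (s.s 0).re
      rw [map_zero]; rfl
    · show (0 : F) = (s.s 0).re
      rw [map_zero]; rfl
  · rw [hom_eZ, hzl, eZ_m, hom_eZ]

end gen

section act

variable (D : Three B E)

theorem X_comm (r r' : Rg E) : Commute (D.X r) (D.X r') := by
  show _ * _ = _ * _
  rw [← D.X_add, ← D.X_add, add_comm]

theorem X_sq (r : Rg E) : D.X r * D.X r = 1 := by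
  rw [← D.X_add, CharTwo.add_self_eq_zero, Two.X_zero]

theorem X_zs (r : Rg E) (m : F) : Commute (D.X r) (B.zs m) := by
  rw [← D.X_re]; exact X_comm D _ _

/-- `f X(θ) f⁻¹ = X(θ + k)` -/
theorem f_X1 (hF : 4 ≤ Nat.card F) (hB : B.Self) (hf : IsFld B σ f) :
    ∃ k : F, f * D.X th = D.X (th + ⟨k, 0⟩) * f := by
  obtain ⟨l, hl⟩ := exists_ne (F := F) hF
  set x := f * D.X th * f⁻¹ with hx
  have sm : ∀ {a a' : G}, f * a = a' * f → Commute (D.X th) a → Commute x a' := by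
    intro a a' h1 h3
    have h4 : f * a * f⁻¹ = a' := by rw [h1, mul_inv_cancel_right]
    rw [hx, ← h4]
    show f * D.X th * f⁻¹ * (f * a * f⁻¹) = f * a * f⁻¹ * (f * D.X th * f⁻¹)
    calc f * D.X th * f⁻¹ * (f * a * f⁻¹) = f * (D.X th * a) * f⁻¹ := by group
      _ = _ := by rw [h3.eq]; group
  have cxb : ∀ u, Commute x (B.xb u) := fun u => by
    obtain ⟨v, rfl⟩ := σ.surjective u
    exact sm (hf.xb v) (D.X_xb th v)
  have czs : ∀ u, Commute x (B.zs u) := fun u => by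
    obtain ⟨v, rfl⟩ := σ.surjective u
    exact sm (hf.zs v) (X_zs D th v)
  have czl : ∀ u, Commute x (B.zl u) := fun u => by
    obtain ⟨v, rfl⟩ := σ.surjective u
    exact sm (hf.zl v) (D.X_zl th v)
  have cha : ∀ a : Fˣ, Commute (D.X th) (B.h a a⁻¹) := by
    intro a
    have := D.h_X a a⁻¹ th
    rw [Units.mul_inv, one_smul] at this
    exact this.symm
  have ch : Commute x (B.h l l⁻¹) := by
    obtain ⟨a, rfl⟩ := um_surj σ l
    have h2 := hf.h a a⁻¹
    rw [map_inv] at h2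
    exact sm h2 (cha a)
  have htX : B.t * D.X th = D.X th * (B.t * B.zs 1) := D.t_X th
  have htx : B.t * x = x * (B.t * B.zs 1) := by
    have e1 : B.t * f⁻¹ = f⁻¹ * B.t := by
      calc B.t * f⁻¹ = f⁻¹ * (f * B.t) * f⁻¹ := by group
        _ = _ := by rw [hf.t]; group
    have e2 : B.zs 1 * f⁻¹ = f⁻¹ * B.zs 1 := by
      have h := hf.zs 1
      rw [map_one] at h
      calc B.zs 1 * f⁻¹ = f⁻¹ * (f * B.zs 1) * f⁻¹ := by group
        _ = _ := by rw [h]; group
    calc B.t * x = (B.t * f) * D.X th * f⁻¹ := by rw [hx]; group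
      _ = f * (B.t * D.X th) * f⁻¹ := by rw [← hf.t]; group
      _ = f * D.X th * B.t * (B.zs 1 * f⁻¹) := by rw [htX]; group
      _ = f * D.X th * (B.t * f⁻¹) * B.zs 1 := by rw [e2]; group
      _ = _ := by rw [e1, hx]; group
  have ct := comm_quot htx htX
  have hcomm : ∀ {a : G}, Commute x a → Commute (D.X th) a → Commute (x * (D.X th)⁻¹) a := fun h1 h2 =>
    h1.mul_left h2.inv_left
  obtain ⟨s, m, r, hg⟩ := hB.cent1 (x * (D.X th)⁻¹) ct (fun u => hcomm (cxb u) (D.X_xb _ u))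
    (fun u => hcomm (czs u) (X_zs D _ u)) (fun u => hcomm (czl u) (D.X_zl _ u))
  have hd : ∃ d, Tau B d ∧ x * (D.X th)⁻¹ = d * (B.xb s * B.zs m * B.zl r) := by
    rcases hg with hg | hg
    · exact ⟨1, Or.inl rfl, by rw [hg, one_mul]⟩
    · exact ⟨B.t, Or.inr rfl, hg⟩
  obtain ⟨d, hd, hg⟩ := hd
  have h1 := eq_tau3 hd hg hl (hcomm ch (cha l))
  have h2 : x = d * B.zs m * D.X th := by rw [← h1]; group
  have hx2 : x * x = 1 := by
    rw [hx]
    calc f * D.X th * f⁻¹ * (f * D.X th * f⁻¹) = f * (D.X th * D.X th) * f⁻¹ := by group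
      _ = 1 := by rw [X_sq]; group
  rcases hd with rfl | rfl
  · refine ⟨m, ?_⟩
    rw [one_mul, ← D.X_re, ← D.X_add] at h2
    rw [add_comm th, ← h2, hx]; group
  · exfalso
    rw [h2] at hx2
    have h3 : B.zs 1 = 1 := sq_aux B.tt (X_sq D _) (sq_of_add B.zs_add m) (B.t_zs m).eq (X_zs D _ m).eq
      (B.t_zs _).eq (X_zs D _ _).eq htX hx2
    have h4 := (B.inj 0 0 1 0 (by rw [h3, xa_zero, xb_zero, zl_zero]; group)).2.2.1
    exact one_ne_zero h4

/-- the map `w ↦ σ(w)`, `θ ↦ θ + k` -/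
def sw (σ : F ≃+* F) (k : F) (w : Rg E) : Rg E := ⟨σ w.re + k * σ w.im, σ w.im⟩

theorem X_split (w : Rg E) : D.X w = B.zs w.re * D.X (w.im • th) := by
  rw [← D.X_re, ← D.X_add]
  congr 1
  ext <;> simp [th]

theorem f_X (hf : IsFld B σ f) {k : F} (hk : f * D.X th = D.X (th + ⟨k, 0⟩) * f) (w : Rg E) :
    f * D.X w = D.X (sw σ k w) * f := by
  have h1 : ∀ n : F, f * D.X (n • th) = D.X (σ n • (th + ⟨k, 0⟩)) * f := by
    intro n
    by_cases hn : n = 0
    · rw [hn, map_zero, zero_smul, zero_smul, Two.X_zero]; group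
    set a := Units.mk0 n hn with ha
    have e1 := D.h_X a 1 th
    have e2 := D.h_X (um σ a) 1 (th + ⟨k, 0⟩)
    rw [Units.val_one, mul_one] at e1 e2
    have e3 : ((um σ a : Fˣ) : F) = σ n := rfl
    have e4 : ((a : Fˣ) : F) = n := rfl
    rw [e3] at e2
    rw [e4] at e1
    have e5 := hf.h a 1
    rw [map_one] at e5
    apply mul_right_cancel (b := B.h a 1)
    calc f * D.X (n • th) * B.h a 1 = f * (D.X (n • th) * B.h a 1) := by group
      _ = (f * B.h a 1) * D.X th := by rw [← e1]; group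
      _ = B.h (um σ a) 1 * (f * D.X th) := by rw [e5]; group
      _ = (B.h (um σ a) 1 * D.X (th + ⟨k, 0⟩)) * f := by rw [hk]; group
      _ = D.X (σ n • (th + ⟨k, 0⟩)) * (B.h (um σ a) 1 * f) := by rw [e2]; group
      _ = _ := by rw [← e5]; group
  rw [X_split, ← mul_assoc, hf.zs, mul_assoc, h1, ← mul_assoc, ← D.X_re, ← D.X_add]
  congr 2
  ext
  · simp [sw, th]; ring
  · simp [sw, th]

theorem f_A (hf : IsFld B σ f) {k : F} (hk : f * D.X th = D.X (th + ⟨k, 0⟩) * f) (w : Rg E) :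
    f * D.A w = D.A (sw σ k w) * f := by
  have e : ∀ w, D.A w = B.nb⁻¹ * D.X w * B.nb := by
    intro w
    rw [mul_assoc, ← D.nb_A]; group
  have e2 : f * B.nb⁻¹ = B.nb⁻¹ * f := by
    calc f * B.nb⁻¹ = B.nb⁻¹ * (B.nb * f) * B.nb⁻¹ := by group
      _ = _ := by rw [← hf.nb]; group
  rw [e, e]
  calc f * (B.nb⁻¹ * D.X w * B.nb) = (f * B.nb⁻¹) * D.X w * B.nb := by group
    _ = B.nb⁻¹ * (f * D.X w) * B.nb := by rw [e2]; group
    _ = B.nb⁻¹ * D.X (sw σ k w) * (f * B.nb) := by rw [f_X D hf hk]; group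
    _ = _ := by rw [hf.nb]; group

/-- the relation between `k` and `E` -/
theorem rel_E (hf : IsFld B σ f) {k : F} (hk : f * D.X th = D.X (th + ⟨k, 0⟩) * f) : σ E = E + k + k ^ 2 := by
  have h1 := D.xb_A 1 th
  have h2 := D.xb_A 1 (sw σ k th)
  rw [one_smul, mul_one] at h1 h2
  have e1 := f_A D hf hk th
  have e2 := f_X D hf hk th
  have e3 := hf.xb 1
  have e4 := hf.zl (nm (th : Rg E))
  rw [map_one] at e3
  have h3 : f * (B.xb 1 * D.A th) = B.xb 1 * D.A (sw σ k th) * f := by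
    calc f * (B.xb 1 * D.A th) = (f * B.xb 1) * D.A th := by group
      _ = B.xb 1 * (f * D.A th) := by rw [e3]; group
      _ = _ := by rw [e1]; group
  have h4 : f * (D.A th * (B.xb 1 * D.X th * B.zl (nm (th : Rg E)))) =
      D.A (sw σ k th) * (B.xb 1 * D.X (sw σ k th) * B.zl (σ (nm (th : Rg E)))) * f := by
    calc f * (D.A th * (B.xb 1 * D.X th * B.zl (nm (th : Rg E)))) =
        (f * D.A th) * (B.xb 1 * D.X th * B.zl (nm (th : Rg E))) := by group
      _ = D.A (sw σ k th) * (f * B.xb 1) * D.X th * B.zl (nm (th : Rg E)) := by rw [e1]; group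
      _ = D.A (sw σ k th) * B.xb 1 * (f * D.X th) * B.zl (nm (th : Rg E)) := by rw [e3]; group
      _ = D.A (sw σ k th) * B.xb 1 * D.X (sw σ k th) * (f * B.zl (nm (th : Rg E))) := by rw [e2]; group
      _ = _ := by rw [e4]; group
  rw [h1, h4, h2] at h3
  have h5 := mul_left_cancel (mul_right_cancel h3)
  have h6 := mul_left_cancel h5
  have h7 : σ (nm (th : Rg E)) = nm (sw σ k (th : Rg E)) := by
    have h8 : B.zl (σ (nm (th : Rg E)) + nm (sw σ k (th : Rg E))) = 1 := by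
      rw [B.zl_add, h6, sq_of_add B.zl_add]
    have h9 := (B.inj 0 0 0 _ (by rw [xa_zero, xb_zero, zs_zero, h8]; group)).2.2.2
    exact eq_of_add h9
  simp only [nm, th, sw, map_zero, map_one, zero_add, mul_one, one_pow, ne_eq, OfNat.ofNat_ne_zero,
    not_false_eq_true, zero_pow] at h7
  linear_combination h7

theorem zl_ne : B.zl 1 ≠ 1 := fun h =>
  one_ne_zero ((B.inj 0 0 0 1 (by rw [h, xa_zero, xb_zero, zs_zero]; group)).2.2.2)

theorem t_sg1 : B.t * D.sg 1 = D.sg 1 * (B.t * B.zl 1) := by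
  have h := D.t_sg 1
  have e1 : (⟨(1 : Rg E).im, 0⟩ : Rg E) = 0 := rfl
  have e2 : (star (1 : Rg E) * star 1).re = 1 := by rw [star_one, mul_one]; rfl
  rw [e1, e2, Two.sg_zero, mul_one] at h
  exact h

theorem sg1_sq : D.sg 1 * D.sg 1 = B.zl 1 := by
  have h := D.sg_add 1 1
  have e2 : ((1 : Rg E) * star 1).re = 1 := by rw [star_one, mul_one]; rfl
  rw [CharTwo.add_self_eq_zero, e2, Two.sg_zero, one_mul] at h
  exact h

theorem sq_aux2 {t w p z : G} (tt : t * t = 1) (ww : w * w = 1) (tw : t * w = w * t) (pw : p * w = w * p)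
    (zw : z * w = w * z) (tp : t * p = p * (t * z)) (pz : p * z = z * p) (pp : p * p = z)
    (zz : z * z = 1) (h : (t * w * p) * (t * w * p) = z) : z = 1 := by
  rw [← h]
  have pt : p * t = t * p * z := by
    calc p * t = p * (t * (z * z)) := by rw [zz, mul_one]
      _ = (p * (t * z)) * z := by group
      _ = _ := by rw [← tp]
  calc (t * w * p) * (t * w * p) = t * w * (p * t) * w * p := by group
    _ = (t * w) * t * p * z * w * p := by rw [pt]; group
    _ = w * (t * t) * p * (z * w) * p := by rw [tw]; group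
    _ = w * (p * w) * (z * p) := by rw [tt, zw]; group
    _ = (w * w) * p * (p * z) := by rw [pw, pz]; group
    _ = (p * p) * z := by rw [ww]; group
    _ = 1 := by rw [pp, zz]

/-- `f sg(1) f⁻¹ = z_l(κ) sg(1)` -/
theorem f_sg1 (hF : 4 ≤ Nat.card F) (hB : B.Self) (hf : IsFld B σ f) :
    ∃ κ : F, f * D.sg 1 = B.zl κ * D.sg 1 * f := by
  obtain ⟨l, hl⟩ := exists_ne (F := F) hF
  set x := f * D.sg 1 * f⁻¹ with hx
  have sm : ∀ {a a' : G}, f * a = a' * f → Commute (D.sg 1) a → Commute x a' := by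
    intro a a' h1 h3
    have h4 : f * a * f⁻¹ = a' := by rw [h1, mul_inv_cancel_right]
    rw [hx, ← h4]
    show f * D.sg 1 * f⁻¹ * (f * a * f⁻¹) = f * a * f⁻¹ * (f * D.sg 1 * f⁻¹)
    calc f * D.sg 1 * f⁻¹ * (f * a * f⁻¹) = f * (D.sg 1 * a) * f⁻¹ := by group
      _ = _ := by rw [h3.eq]; group
  have sxa : ∀ u, Commute (D.sg 1) (B.xa u) := fun u => by rw [← D.A_re]; exact D.sg_A _ _
  have szs : ∀ u, Commute (D.sg 1) (B.zs u) := fun u => by rw [← D.X_re]; exact D.sg_X _ _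
  have cxa : ∀ u, Commute x (B.xa u) := fun u => by
    obtain ⟨v, rfl⟩ := σ.surjective u
    exact sm (hf.xa v) (sxa v)
  have cxb : ∀ u, Commute x (B.xb u) := fun u => by
    obtain ⟨v, rfl⟩ := σ.surjective u
    exact sm (hf.xb v) (D.sg_xb 1 v)
  have czs : ∀ u, Commute x (B.zs u) := fun u => by
    obtain ⟨v, rfl⟩ := σ.surjective u
    exact sm (hf.zs v) (szs v)
  have czl : ∀ u, Commute x (B.zl u) := fun u => by
    obtain ⟨v, rfl⟩ := σ.surjective u
    exact sm (hf.zl v) (D.sg_zl 1 v)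
  have cha : ∀ a : Fˣ, Commute (D.sg 1) (B.h a (a⁻¹ ^ 2)) := by
    intro a
    have := D.h_sg a a⁻¹ 1
    rw [Units.mul_inv, one_smul] at this
    exact this.symm
  have ch : Commute x (B.h l (l⁻¹ ^ 2)) := by
    obtain ⟨a, rfl⟩ := um_surj σ l
    have h2 := hf.h a (a⁻¹ ^ 2)
    rw [map_pow, map_inv] at h2
    exact sm h2 (cha a)
  have hts := t_sg1 D
  have htx : B.t * x = x * (B.t * B.zl 1) := by
    have e1 : B.t * f⁻¹ = f⁻¹ * B.t := by
      calc B.t * f⁻¹ = f⁻¹ * (f * B.t) * f⁻¹ := by group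
        _ = _ := by rw [hf.t]; group
    have e2 : B.zl 1 * f⁻¹ = f⁻¹ * B.zl 1 := by
      have h := hf.zl 1
      rw [map_one] at h
      calc B.zl 1 * f⁻¹ = f⁻¹ * (f * B.zl 1) * f⁻¹ := by group
        _ = _ := by rw [h]; group
    calc B.t * x = (B.t * f) * D.sg 1 * f⁻¹ := by rw [hx]; group
      _ = f * (B.t * D.sg 1) * f⁻¹ := by rw [← hf.t]; group
      _ = f * D.sg 1 * B.t * (B.zl 1 * f⁻¹) := by rw [hts]; group
      _ = f * D.sg 1 * (B.t * f⁻¹) * B.zl 1 := by rw [e2]; group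
      _ = _ := by rw [e1, hx]; group
  have ct := comm_quot htx hts
  have hcomm : ∀ {a : G}, Commute x a → Commute (D.sg 1) a → Commute (x * (D.sg 1)⁻¹) a := fun h1 h2 =>
    h1.mul_left h2.inv_left
  obtain ⟨d, m, r, hd, hg⟩ := formZ hB ct (fun u => hcomm (cxa u) (sxa u)) (fun u => hcomm (czs u) (szs u))
    (fun u => hcomm (czl u) (D.sg_zl 1 u)) (hcomm (cxb 1) (D.sg_xb 1 1))
  -- the `z_s` part vanishes
  have hm : m = 0 := by
    have h1 : Commute d (B.h l (l⁻¹ ^ 2)) := hd.comm (B.t_h _ _)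
    have h2 : Commute (B.zs m * B.zl r) (B.h l (l⁻¹ ^ 2)) := by
      have := (h1.inv_left).mul_left (hcomm ch (cha l))
      rwa [hg, inv_mul_cancel_left] at this
    have e1 := B.h_zs l (l⁻¹ ^ 2) m
    have e2 := B.h_zl l (l⁻¹ ^ 2) r
    have w1 : (l : F) * ((l⁻¹ ^ 2 : Fˣ) : F) = ((l⁻¹ : Fˣ) : F) := by
      rw [← Units.val_mul]; congr 1; group
    have w2 : (l : F) ^ 2 * ((l⁻¹ ^ 2 : Fˣ) : F) = 1 := by
      rw [← Units.val_pow_eq_pow_val, ← Units.val_mul]
      have : l ^ 2 * l⁻¹ ^ 2 = 1 := by group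
      rw [this]; rfl
    rw [w1] at e1
    rw [w2, one_mul] at e2
    have h3 : B.zs m * B.zl r = B.zs ((l⁻¹ : Fˣ) * m) * B.zl r := by
      apply mul_right_cancel (b := B.h l (l⁻¹ ^ 2))
      rw [h2.eq, ← mul_assoc, e1, mul_assoc, e2, mul_assoc]
    have h4 : B.zs (m + (l⁻¹ : Fˣ) * m) = 1 := by
      rw [B.zs_add, ← mul_right_cancel h3, sq_of_add B.zs_add]
    have h5 := (B.inj 0 0 _ 0 (by rw [h4, xa_zero, xb_zero, zl_zero]; group)).2.2.1
    have h6 : (l : F) * ((l⁻¹ : Fˣ) : F) = 1 := by rw [← Units.val_mul, mul_inv_cancel, Units.val_one]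
    have h7 : (1 + (l : F)) * m = 0 := by linear_combination (l : F) * h5 - m * h6
    have hne : (1 : F) + l ≠ 0 := by
      intro h; apply hl
      linear_combination h - CharTwo.two_eq_zero (R := F)
    exact (mul_eq_zero.1 h7).resolve_left hne
  rw [hm, zs_zero, one_mul] at hg
  have h2 : x = d * B.zl r * D.sg 1 := by rw [← hg]; group
  have hx2 : x * x = B.zl 1 := by
    have h := hf.zl 1
    rw [map_one] at h
    rw [hx]
    calc f * D.sg 1 * f⁻¹ * (f * D.sg 1 * f⁻¹) = f * (D.sg 1 * D.sg 1) * f⁻¹ := by group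
      _ = B.zl 1 := by rw [sg1_sq, h]; group
  rcases hd with rfl | rfl
  · refine ⟨r, ?_⟩
    rw [one_mul] at h2
    rw [← h2, hx]; group
  · exfalso
    rw [h2] at hx2
    exact zl_ne (B := B) (sq_aux2 B.tt (sq_of_add B.zl_add r) (B.t_zl r).eq (D.sg_zl 1 r).eq
      (comm_of_add B.zl_add 1 r).eq hts (D.sg_zl 1 1).eq (sg1_sq D) (sq_of_add B.zl_add 1) hx2)

theorem nm_sw {k : F} (h : σ E = E + k + k ^ 2) (w : Rg E) : nm (sw σ k w) = σ (nm w) := by
  simp only [nm, sw, map_add, map_mul, map_pow]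
  rw [h]
  linear_combination (norm := c2n)

theorem f_sg' {κ : F} (hf : IsFld B σ f) {w w' : Rg E} (h : f * D.sg w = B.zl κ * D.sg w' * f) :
    f * D.sg' w = B.xb κ * D.sg' w' * f := by
  have e1 : f * B.na⁻¹ = B.na⁻¹ * f := by
    calc f * B.na⁻¹ = B.na⁻¹ * (B.na * f) * B.na⁻¹ := by group
      _ = _ := by rw [← hf.na]; group
  unfold Two.sg'
  calc f * (B.na * D.sg w * B.na⁻¹) = (f * B.na) * D.sg w * B.na⁻¹ := by group
    _ = B.na * (f * D.sg w) * B.na⁻¹ := by rw [hf.na]; group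
    _ = (B.na * B.zl κ) * D.sg w' * (f * B.na⁻¹) := by rw [h]; group
    _ = _ := by rw [B.na_zl, e1]; group

/-- `f sg(w) f⁻¹ = z_l(k N(s w)) sg(s w)` -/
theorem f_sg (hF : 4 ≤ Nat.card F) (hB : B.Self) (hf : IsFld B σ f) {k : F}
    (hk : f * D.X th = D.X (th + ⟨k, 0⟩) * f) (w : Rg E) :
    f * D.sg w = B.zl (k * nm (sw σ k w)) * D.sg (sw σ k w) * f := by
  obtain ⟨κ, hκ⟩ := f_sg1 D hF hB hf
  have hκ' := f_sg' D hf hκ
  have hrel := rel_E D hf hk
  -- the general formula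
  have key : ∀ w : Rg E, f * D.sg w =
      D.X ((k + κ) • sw σ k w) * (B.zl (κ * nm (sw σ k w)) * D.sg (sw σ k w)) * f := by
    intro w
    set v := sw σ k w with hv
    have r1 : ∀ w : Rg E, D.sg' 1 * D.A w = D.A w * (D.sg' 1 * D.X (w * th) * D.sg w) := by
      intro w
      have h := D.sg'_A 1 w
      rw [one_pow, one_smul, one_smul] at h
      exact h
    have e1 := f_A D hf hk w
    rw [← hv] at e1
    have e2 := f_X D hf hk (w * th)
    have e3 : sw σ k (w * th) = v * th + k • v := by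
      rw [hv]
      ext
      · simp only [sw, th, QuadraticAlgebra.re_mul, QuadraticAlgebra.im_mul, QuadraticAlgebra.re_add,
          QuadraticAlgebra.re_smul, smul_eq_mul, map_add, map_mul, map_one, map_zero]
        rw [hrel]
        linear_combination (norm := c2n)
      · simp only [sw, th, QuadraticAlgebra.im_mul, QuadraticAlgebra.im_add,
          QuadraticAlgebra.im_smul, smul_eq_mul, map_add, map_mul, map_one, map_zero]
        linear_combination (norm := c2n)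
    have hL : f * (D.sg' 1 * D.A w) = D.A v * (B.xb κ * D.X (κ • v) * B.zl (nm v * κ)) *
        (D.sg' 1 * D.X (v * th) * D.sg v) * f := by
      calc f * (D.sg' 1 * D.A w) = (f * D.sg' 1) * D.A w := by group
        _ = B.xb κ * D.sg' 1 * (f * D.A w) := by rw [hκ']; group
        _ = B.xb κ * (D.sg' 1 * D.A v) * f := by rw [e1]; group
        _ = (B.xb κ * D.A v) * (D.sg' 1 * D.X (v * th) * D.sg v) * f := by rw [r1]; group
        _ = _ := by rw [D.xb_A]
    have hR : f * (D.A w * (D.sg' 1 * D.X (w * th) * D.sg w)) =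
        D.A v * (B.xb κ * D.sg' 1 * D.X (sw σ k (w * th))) * (f * D.sg w) := by
      calc f * (D.A w * (D.sg' 1 * D.X (w * th) * D.sg w)) = (f * D.A w) * D.sg' 1 * D.X (w * th) * D.sg w := by group
        _ = D.A v * (f * D.sg' 1) * D.X (w * th) * D.sg w := by rw [e1]; group
        _ = D.A v * B.xb κ * D.sg' 1 * (f * D.X (w * th)) * D.sg w := by rw [hκ']; group
        _ = _ := by rw [e2]; group
    rw [r1, hR] at hL
    have c1 : B.zl (nm v * κ) * D.sg' 1 = D.sg' 1 * B.zl (nm v * κ) := by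
      rw [Two.zl_eq D.toTwo]; exact (Two.sg'_v4 D.toTwo _ _ _ _).eq.symm
    have c2 : D.X (κ • v) * D.sg' 1 = D.sg' 1 * D.X (κ • v) := by
      rw [Two.X_eq]; exact (Two.sg'_v4 D.toTwo _ _ _ _).eq.symm
    have c3 := (D.X_zl (v * th) (nm v * κ)).eq
    have hL' : D.A v * (B.xb κ * D.X (κ • v) * B.zl (nm v * κ)) * (D.sg' 1 * D.X (v * th) * D.sg v) * f =
        D.A v * (B.xb κ * D.sg' 1 * D.X (sw σ k (w * th))) *
          (D.X ((k + κ) • v) * (B.zl (κ * nm v) * D.sg v) * f) := by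
      have e4 : D.X (sw σ k (w * th)) * D.X ((k + κ) • v) = D.X (κ • v) * D.X (v * th) := by
        rw [← D.X_add, ← D.X_add, e3]
        congr 1
        rw [add_smul]
        have : k • v + k • v = (0 : Rg E) := CharTwo.add_self_eq_zero _
        linear_combination this
      calc D.A v * (B.xb κ * D.X (κ • v) * B.zl (nm v * κ)) * (D.sg' 1 * D.X (v * th) * D.sg v) * f
          = D.A v * B.xb κ * D.X (κ • v) * (B.zl (nm v * κ) * D.sg' 1) * D.X (v * th) * D.sg v * f := by group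
        _ = D.A v * B.xb κ * (D.X (κ • v) * D.sg' 1) * (B.zl (nm v * κ) * D.X (v * th)) * D.sg v * f := by
            rw [c1]; group
        _ = D.A v * B.xb κ * D.sg' 1 * (D.X (κ • v) * D.X (v * th)) * B.zl (nm v * κ) * D.sg v * f := by
            rw [c2, ← c3]; group
        _ = _ := by rw [← e4, mul_comm (nm v) κ]; group
    rw [hL'] at hL
    exact mul_left_cancel hL
  -- `κ = k`
  have hkk : k + κ = 0 := by
    have h1 := key 1
    have e1 : sw σ k (1 : Rg E) = 1 := by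
      ext <;> simp [sw, QuadraticAlgebra.re_one, QuadraticAlgebra.im_one]
    have e2 : nm (1 : Rg E) = 1 := by simp [nm, QuadraticAlgebra.re_one, QuadraticAlgebra.im_one]
    rw [e1, e2, mul_one, hκ] at h1
    have h2 := mul_right_cancel h1
    have h3 : D.X ((k + κ) • (1 : Rg E)) = 1 := (mul_eq_right.1 h2.symm)
    have e3 : (k + κ) • (1 : Rg E) = ⟨k + κ, 0⟩ := by
      ext <;> simp [QuadraticAlgebra.re_one, QuadraticAlgebra.im_one]
    rw [e3, D.X_re] at h3
    exact (B.inj 0 0 _ 0 (by rw [h3, xa_zero, xb_zero, zl_zero]; group)).2.2.1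
  have hκk : κ = k := (eq_of_add hkk).symm
  rw [key w, hkk, zero_smul, Two.X_zero, one_mul, hκk]

/-- **action of a field element on `T`** -/
theorem exists_sem (hF : 4 ≤ Nat.card F) (hB : B.Self) (hf : IsFld B σ f) :
    ∃ s : Sem E σ, ∀ x, f * D.hom x = D.hom (s.m x) * f := by
  obtain ⟨k, hk⟩ := f_X1 D hF hB hf
  have hrel := rel_E D hf hk
  refine ⟨Sem.mk' σ k hrel, act_of_gen D _ ?_ ?_ ?_ ?_ hf.xb hf.zl⟩
  · exact fun w => f_A D hf hk w
  · exact fun w => f_X D hf hk w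
  · intro w
    rw [f_sg D hF hB hf hk w]
    congr 1
    have e : (Sem.mk' σ k hrel).m (eS w) = eZ (k * nm (sw σ k w)) * eS (sw σ k w) := by
      have z0 : (Sem.mk' σ k hrel).s 0 = 0 := map_zero _
      refine ext' ?_ ?_ ?_ ?_ ?_ ?_
      · rw [T5.mul_w1]; exact z0.trans (add_zero _).symm
      · rw [T5.mul_w2]
        show sw σ k w = 0 + (sw σ k w + 0 * 0)
        ring
      · rw [T5.mul_w3]
        show (Sem.mk' σ k hrel).s 0 = 0 + (0 + star 0 * sw σ k w + (eZ _).d * 0)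
        rw [z0, star_zero]; ring
      · rw [T5.mul_y]; exact z0.trans (add_zero _).symm
      · rw [T5.mul_c, eZ_c, eS_c]
        show ((Sem.mk' σ k hrel).s (eS w).c).re = (⟨k * nm (sw σ k w), 0⟩ + ⟨0, nm (sw σ k w)⟩ +
          (0 * star (0 + star 0 * sw σ k w + (eZ _).d * 0) + 0 * star (sw σ k w + 0 * 0) + 0 * star 0) : Rg E).re
        rw [eS_c, Sem.mk'_apply]
        simp only [zero_mul, add_zero]
        show σ 0 + k * σ (nm w) = k * nm (sw σ k w) + 0
        rw [map_zero, nm_sw hrel]; ring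
      · rw [T5.mul_d, eZ_d, eS_d]
        show ((Sem.mk' σ k hrel).s (eS w).d).re = (0 + 0 + star 0 * 0 : Rg E).re
        rw [eS_d, z0]
        simp
    rw [e, map_mul, hom_eZ, hom_eS]
  · intro w
    rw [f_sg' D hf (f_sg D hF hB hf hk w)]
    congr 1
    have e : (Sem.mk' σ k hrel).m (eS' w) = eB (k * nm (sw σ k w)) * eS' (sw σ k w) := by
      have z0 : (Sem.mk' σ k hrel).s 0 = 0 := map_zero _
      refine ext' ?_ ?_ ?_ ?_ ?_ ?_
      · rw [T5.mul_w1]; exact z0.trans (add_zero _).symm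
      · rw [T5.mul_w2]
        show (Sem.mk' σ k hrel).s 0 = 0 + (0 + 0 * 0)
        rw [z0]; ring
      · rw [T5.mul_w3]
        show (Sem.mk' σ k hrel).s 0 = 0 + (0 + star 0 * 0 + (eB _).d * 0)
        rw [z0, star_zero]; ring
      · rw [T5.mul_y]
        show sw σ k w = 0 + sw σ k w
        ring
      · rw [T5.mul_c, eB_c, eS'_c]
        show ((Sem.mk' σ k hrel).s (eS' w).c).re = (0 + 0 +
          (0 * star (0 + star 0 * 0 + (eB _).d * 0) + 0 * star (0 + 0 * 0) + 0 * star 0) : Rg E).re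
        rw [eS'_c, z0]
        simp
      · rw [T5.mul_d, eB_d, eS'_d]
        show ((Sem.mk' σ k hrel).s (eS' w).d).re = (⟨k * nm (sw σ k w), 0⟩ + ⟨nm (sw σ k w), nm (sw σ k w)⟩ +
          star 0 * sw σ k w : Rg E).re
        rw [eS'_d, Sem.mk'_apply, star_zero, zero_mul, add_zero]
        show σ (nm w) + k * σ (nm w) = k * nm (sw σ k w) + nm (sw σ k w)
        rw [nm_sw hrel]; ring
    rw [e, map_mul, hom_eB, hom_eS']

theorem eX_U (a : F) : (eX ⟨a, 0⟩ : T5 (Rg E)) ∈ U E := by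
  rw [mem_U_iff]
  exact ⟨rfl, rfl, rfl, rfl, rfl, rfl⟩

/-- `Typ` from an action on `U` up to an inner automorphism -/
theorem typ_of [Finite F] (hF : 4 ≤ Nat.card F) (hB : B.Self) (hna : (B.na * B.xa 1) ^ 3 = 1)
    (hnb : (B.nb * B.xb 1) ^ 3 = 1) {z : G} {x : T5 (Rg E)} (hx : x ∈ U E)
    (hf : Act B σ ((D.hom x)⁻¹ * z)) : Typ (U E) D.hom z σ := by
  obtain ⟨a, b, hf1⟩ := hf.exists_fld hF hB hna hnb
  obtain ⟨s, h1⟩ := exists_sem D hF hB hf1
  set e : T5 (Rg E) := eX ⟨a, 0⟩ * eZ b with he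
  have e1 : B.zs a * B.zl b = D.hom e := by
    rw [he, map_mul, hom_eX, hom_eZ, D.X_re]
  have e2 : e ∈ U E := mul_mem (eX_U a) (eZ_U b)
  refine ⟨x * e⁻¹, mul_mem hx (inv_mem e2), s, fun y => ?_⟩
  have h2 := h1 y
  rw [e1] at h2
  rw [map_mul, map_mul, map_inv, map_mul, map_inv]
  calc z * D.hom y = D.hom x * (D.hom e)⁻¹ * (D.hom e * ((D.hom x)⁻¹ * z) * D.hom y) := by group
    _ = D.hom x * (D.hom e)⁻¹ * (D.hom (s.m y) * (D.hom e * ((D.hom x)⁻¹ * z))) := by rw [h2]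
    _ = _ := by group

/-- the centre of the model -/
theorem center_model {x : T5 (Rg E)} (hc : ∀ z, x * z = z * x) : x ∈ U E := by
  have hB1 := congrArg T5.w3 (hc (eB 1))
  have hS1 := congrArg T5.w3 (hc (eS' 1))
  have hA2 := congrArg T5.w2 (hc (eA 1))
  have hA3 := congrArg T5.w3 (hc (eA 1))
  have hAc := congrArg T5.c (hc (eA 1))
  have hAt := congrArg T5.c (hc (eA th))
  rw [T5.mul_w3, T5.mul_w3, eB_d] at hB1
  rw [T5.mul_w3, T5.mul_w3, eS'_d] at hS1
  rw [T5.mul_w2, T5.mul_w2] at hA2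
  rw [T5.mul_w3, T5.mul_w3] at hA3
  rw [T5.mul_c, T5.mul_c] at hAc hAt
  have k1 : x.w1 = 0 := by
    have h : x.w3 + (0 + star x.y * 0 + x.d * 0) = 0 + (x.w3 + star 0 * x.w2 + ⟨1, 0⟩ * x.w1) := hB1
    have e : (⟨1, 0⟩ : Rg E) = 1 := rfl
    rw [e, star_zero] at h
    linear_combination (-1 : Rg E) * h
  have k2 : x.w2 = 0 := by
    have h : x.w3 + (0 + star x.y * 0 + x.d * 0) = 0 + (x.w3 + star 1 * x.w2 + ⟨nm 1, nm 1⟩ * x.w1) := hS1
    rw [k1, star_one] at h
    linear_combination (-1 : Rg E) * h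
  have k3 : x.y = 0 := by
    have h : x.w2 + (0 + x.y * 1) = 0 + (x.w2 + 0 * x.w1) := hA2
    linear_combination h
  have k4 : x.d = 0 := by
    have h : x.w3 + (0 + star x.y * 0 + x.d * 1) = 0 + (x.w3 + star 0 * x.w2 + 0 * x.w1) := hA3
    rw [star_zero] at h
    linear_combination h
  have key : ∀ w : Rg E, x.c + 0 + (x.w1 * star (0 + star x.y * 0 + x.d * w) + x.w2 * star (0 + x.y * w) +
      x.w3 * star w) = 0 + x.c + (w * star (x.w3 + star 0 * x.w2 + 0 * x.w1) + 0 * star (x.w2 + 0 * x.w1) +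
      0 * star x.w1) → x.w3 * star w = w * star x.w3 := by
    intro w h
    rw [k1, k2, star_zero] at h
    simp only [zero_mul, mul_zero, add_zero, zero_add] at h
    exact add_left_cancel h
  have h1 := key 1 hAc
  have h2 := key th hAt
  rw [star_one, mul_one, one_mul] at h1
  have k5 := eq_ofF' h1.symm
  have k6 : x.w3 = 0 := by
    rw [← h1] at h2
    have h3 := congrArg QuadraticAlgebra.re h2
    rw [k5] at h3
    simp only [th, QuadraticAlgebra.re_mul, QuadraticAlgebra.re_star, QuadraticAlgebra.im_star] at h3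
    have h4 : x.w3.re = 0 := by linear_combination h3
    rw [k5, h4]; rfl
  have k7 := CaseCInv.c_im x
  rw [k1, k2, k6] at k7
  simp only [zero_mul, add_zero] at k7
  rw [mem_U_iff]
  exact ⟨by rw [k1]; rfl, k2, by rw [k6]; rfl, k7, k3, by rw [k4]; rfl⟩

/-- the kernel of the type -/
theorem one_of (hB : B.Self) {z : G} (hz : z * B.t = B.t * z) (h : Typ ⊤ D.hom z 1) :
    ∃ x ∈ U E, z = D.hom x ∨ z = B.t * D.hom x := by
  -- the case `s = 1`
  have key : ∀ z' : G, z' * B.t = B.t * z' → ∀ y : T5 (Rg E), (∀ x, z' * D.hom x = D.hom (y * x * y⁻¹) * z') →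
      ∃ x ∈ U E, z' = D.hom x := by
    intro z' hz' y hy
    have hinj := D.hom_inj
    -- `y⁻¹ y^τ` is central
    have h1 : ∀ x : T5 (Rg E), tau y * x * (tau y)⁻¹ = y * x * y⁻¹ := by
      intro x
      have e1 : z' * B.t * D.hom x = D.hom (y * tau x * y⁻¹) * z' * B.t := by
        calc z' * B.t * D.hom x = z' * (B.t * D.hom x) := by group
          _ = (z' * D.hom (tau x)) * B.t := by rw [t_hom']; group
          _ = _ := by rw [hy]
      have e2 : B.t * z' * D.hom x = D.hom (tau (y * x * y⁻¹)) * z' * B.t := by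
        calc B.t * z' * D.hom x = B.t * (z' * D.hom x) := by group
          _ = (B.t * D.hom (y * x * y⁻¹)) * z' := by rw [hy]; group
          _ = D.hom (tau (y * x * y⁻¹)) * (B.t * z') := by rw [t_hom']; group
          _ = _ := by rw [← hz']; group
      rw [hz', e2] at e1
      have e3 := hinj (mul_right_cancel (mul_right_cancel e1))
      rw [map_mul, map_mul, map_inv] at e3
      have e4 := congrArg tau e3
      simp only [map_mul, map_inv, tau_tau] at e4
      exact e4.symm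
    have h2 : ∀ x, (y⁻¹ * tau y) * x = x * (y⁻¹ * tau y) := by
      intro x
      calc (y⁻¹ * tau y) * x = y⁻¹ * (tau y * x * (tau y)⁻¹) * tau y := by group
        _ = _ := by rw [h1]; group
    have h3 := eq_eZ (center_model h2) h2
    set r := (y⁻¹ * tau y).c.re with hr
    have h4 : tau y = y * eZ r := by rw [← h3]; group
    -- coordinates of `y`
    have c1 := congrArg T5.w1 h4
    have c2 := congrArg T5.w2 h4
    have c3 := congrArg T5.w3 h4
    have c4 := congrArg T5.c h4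
    have c5 := congrArg T5.y h4
    have c6 := congrArg T5.d h4
    rw [tau_w1, T5.mul_w1, eZ_w1, add_zero] at c1
    rw [tau_w2, T5.mul_w2, eZ_w2, eZ_w1, mul_zero, add_zero, add_zero] at c2
    rw [tau_w3, T5.mul_w3, eZ_w3, eZ_w2, eZ_w1, mul_zero, mul_zero, add_zero, add_zero, add_zero] at c3
    rw [tau_y, T5.mul_y, eZ_y, add_zero] at c5
    rw [tau_d, T5.mul_d, eZ_d, eZ_y, mul_zero, add_zero, add_zero] at c6
    have f1 := eq_ofF' c1
    have f2 := eq_ofF' c2
    have f3 := eq_ofF' c3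
    have f5 := eq_ofF' c5
    have f6 := eq_ofF' c6
    have hy0 : y.y = 0 := by
      have h7 := d_im y
      rw [f6, f5, star_ofF] at h7
      have h8 : y.y.re * y.y.re = 0 := by
        have h9 : (0 : F) = ((⟨y.y.re, 0⟩ : Rg E) * ⟨y.y.re, 0⟩).re := h7
        rw [QuadraticAlgebra.re_mul] at h9
        linear_combination (-1 : F) * h9
      rw [f5, mul_self_eq_zero.1 h8]; rfl
    -- `y = u sg(x)`
    set q := y.w2.re with hq
    set u : T5 (Rg E) := mkT ⟨y.w1.re, 0⟩ 0 ⟨y.w3.re, 0⟩ 0 y.c.re y.d.re with hu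
    have huU : u ∈ U E := by
      rw [mem_U_iff]
      refine ⟨rfl, rfl, rfl, ?_, rfl, ?_⟩
      · rw [CaseCInv.c_im]
        show ((⟨y.w1.re, 0⟩ : Rg E) * star ⟨y.w3.re, 0⟩ + 0 * star 0 + ⟨y.w3.re, 0⟩ * star ⟨y.w1.re, 0⟩).re = 0
        rw [star_ofF, star_ofF, mul_comm (⟨y.w3.re, 0⟩ : Rg E), zero_mul, add_zero, CharTwo.add_self_eq_zero]
        rfl
      · rw [d_im]
        show ((0 : Rg E) * star 0).re = 0
        rw [zero_mul]; rfl
    have hyu : y = u * eS ⟨q, 0⟩ := by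
      refine ext' ?_ ?_ ?_ ?_ ?_ ?_
      · rw [T5.mul_w1]
        show y.w1 = ⟨y.w1.re, 0⟩ + 0
        rw [add_zero]; exact f1
      · rw [T5.mul_w2]
        show y.w2 = 0 + (⟨q, 0⟩ + 0 * 0)
        rw [zero_mul, add_zero, zero_add]; exact f2
      · rw [T5.mul_w3]
        show y.w3 = ⟨y.w3.re, 0⟩ + (0 + star 0 * _ + _ * 0)
        rw [star_zero, zero_mul, mul_zero, add_zero, add_zero, add_zero]; exact f3
      · rw [T5.mul_y]
        show y.y = 0 + 0
        rw [add_zero]; exact hy0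
      · rw [T5.mul_c, eS_c]
        show y.c.re = (u.c + ⟨0, _⟩ + (_ * star (0 + star 0 * _ + _ * 0) + 0 * star (_ + 0 * 0) +
          _ * star 0)).re
        simp only [star_zero, zero_mul, mul_zero, add_zero]
        show y.c.re = y.c.re + 0
        rw [add_zero]
      · rw [T5.mul_d, eS_d]
        show y.d.re = (u.d + 0 + star 0 * 0).re
        simp only [star_zero, zero_mul, add_zero]
        rfl
    -- `z'' = u⁻¹ z'`
    set g := (D.hom u)⁻¹ * z' with hg
    have hgx : ∀ x, g * D.hom x = D.hom (eS ⟨q, 0⟩ * x * (eS ⟨q, 0⟩)⁻¹) * g := by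
      intro x
      rw [hg, mul_assoc, hy, hyu]
      simp only [map_mul, map_inv, mul_inv_rev]
      group
    have hut : tau u = u := huU
    have ct : Commute g B.t := by
      have e1 : Commute (D.hom u) B.t := by
        show _ * _ = _ * _
        rw [t_hom' D, hut]
      exact e1.inv_left.mul_left hz'
    have cg : ∀ x, eS ⟨q, 0⟩ * x = x * eS ⟨q, 0⟩ → Commute g (D.hom x) := by
      intro x hx
      show g * D.hom x = D.hom x * g
      rw [hgx, hx, mul_inv_cancel_right]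
    have scomm : ∀ x : T5 (Rg E), Commute (D.hom (eS ⟨q, 0⟩)) (D.hom x) → eS ⟨q, 0⟩ * x = x * eS ⟨q, 0⟩ := by
      intro x hx
      apply hinj
      rw [map_mul, map_mul]
      exact hx
    obtain ⟨d, m, r', hd, e⟩ := formZ hB ct
      (fun v => by
        rw [← D.A_re, ← hom_eA]
        exact cg _ (scomm _ (by rw [hom_eS, hom_eA]; exact D.sg_A _ _)))
      (fun v => by
        rw [← D.X_re, ← hom_eX]
        exact cg _ (scomm _ (by rw [hom_eS, hom_eX]; exact D.sg_X _ _)))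
      (fun v => by
        rw [← hom_eZ D]
        exact cg _ (scomm _ (by rw [hom_eS, hom_eZ]; exact D.sg_zl _ _)))
      (by
        rw [← hom_eB D]
        exact cg _ (scomm _ (by rw [hom_eS, hom_eB]; exact D.sg_xb _ _)))
    -- `z_s z_l` centralises `sg'(1)`
    have e1 : B.zs m * B.zl r' = D.hom (eX ⟨m, 0⟩ * eZ r') := by
      rw [map_mul, hom_eX, hom_eZ, D.X_re]
    have e2 : Commute (B.zs m * B.zl r') (D.sg' 1) := by
      rw [← D.X_re, Two.X_eq, Two.zl_eq D.toTwo]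
      exact (Two.sg'_v4 D.toTwo _ _ _ _).symm.mul_left (Two.sg'_v4 D.toTwo _ _ _ _).symm
    have e3 := hgx (eS' 1)
    rw [hom_eS', e] at e3
    rcases hd with rfl | rfl
    · rw [one_mul] at e3 e
      rw [e2.eq] at e3
      have e4 := mul_right_cancel e3
      rw [← hom_eS' D] at e4
      have e5 := hinj e4
      have e6 : eS' 1 * eS ⟨q, 0⟩ = eS ⟨q, 0⟩ * eS' (1 : Rg E) := by
        rw [mul_inv_eq_iff_eq_mul.1 e5.symm]
      have e7 := congrArg T5.w3 e6
      rw [T5.mul_w3, T5.mul_w3, eS_d] at e7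
      have e8 : (0 : Rg E) + (0 + star 1 * ⟨q, 0⟩ + _ * 0) = 0 + (0 + star 0 * 0 + 0 * 0) := e7
      rw [star_one, star_zero] at e8
      simp only [one_mul, mul_zero, add_zero, zero_add] at e8
      have e9 : q = 0 := congrArg QuadraticAlgebra.re e8
      refine ⟨u * (eX ⟨m, 0⟩ * eZ r'), mul_mem huU (mul_mem (eX_U m) (eZ_U r')), ?_⟩
      rw [map_mul, ← e1, ← e, hg]; group
    · exfalso
      rw [mul_assoc, e2.eq, ← mul_assoc, ← hom_eS' D, t_hom', mul_assoc] at e3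
      have e4 := hinj (mul_right_cancel e3)
      have e5 := congrArg T5.d e4
      rw [tau_d, eS'_d] at e5
      have e6 : (eS ⟨q, 0⟩ * eS' 1 * (eS ⟨q, 0⟩)⁻¹ : T5 (Rg E)).d = ⟨nm (1 : Rg E), nm (1 : Rg E)⟩ := by
        rw [T5.mul_d, T5.mul_d, T5.inv_d, T5.inv_y, eS_d, eS'_d]
        show 0 + ⟨nm (1 : Rg E), nm (1 : Rg E)⟩ + star 0 * 1 + star 0 + star _ * 0 =
          (⟨nm (1 : Rg E), nm (1 : Rg E)⟩ : Rg E)
        simp only [star_zero, zero_mul, mul_zero, add_zero, zero_add]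
      rw [e6] at e5
      have e7 := congrArg QuadraticAlgebra.re e5
      have e8 : nm (1 : Rg E) = 1 := by simp [nm, QuadraticAlgebra.re_one, QuadraticAlgebra.im_one]
      rw [QuadraticAlgebra.re_star, e8] at e7
      have e9 : (1 : F) = 0 := by linear_combination e7
      exact one_ne_zero e9
  obtain ⟨y, -, s, hy⟩ := h
  -- `s = 1` or `s = star`
  have hth : (th : Rg E) * th = th + ⟨E, 0⟩ := by
    ext
    · simp [th]
    · simp [th]
  have hsth : s.s th = ⟨(s.s th).re, 1⟩ := by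
    ext
    · rfl
    · exact s.theta
  have hδ : (s.s th).re * ((s.s th).re + 1) = 0 := by
    have h1 := congrArg s.s hth
    rw [map_mul, map_add, s.hC, hsth] at h1
    have h2 := congrArg QuadraticAlgebra.re h1
    have e1 : (1 : F ≃+* F) E = E := rfl
    simp only [QuadraticAlgebra.re_mul, QuadraticAlgebra.re_add, e1] at h2
    linear_combination (norm := c2n) h2
  have hw : ∀ w : Rg E, w = ⟨w.re, 0⟩ + ⟨w.im, 0⟩ * th := by
    intro w
    ext <;> simp [th]
  have hsw : ∀ w : Rg E, s.s w = ⟨w.re, 0⟩ + ⟨w.im, 0⟩ * s.s th := by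
    intro w
    rw [hw w, map_add, map_mul, s.hC, s.hC]
    simp [th]
  rcases mul_eq_zero.1 hδ with h0 | h0
  · have h1 : ∀ w : Rg E, s.s w = w := by
      intro w
      rw [hsw, hsth, h0]
      exact (hw w).symm
    obtain ⟨x, hx, e⟩ := key z hz y (fun x => by
      rw [hy]
      congr 4
      ext1
      all_goals exact h1 _)
    exact ⟨x, hx, Or.inl e⟩
  · have h1 : ∀ w : Rg E, s.s w = star w := by
      intro w
      rw [hsw, hsth]
      have h2 : (s.s th).re = 1 := eq_of_add h0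
      rw [h2]
      ext
      · simp
      · simp [CharTwo.neg_eq]
    have h2 : ∀ x, s.m x = tau x := by
      intro x
      ext1
      all_goals exact h1 _
    obtain ⟨x, hx, e⟩ := key (B.t * z) (by rw [mul_assoc, hz, ← mul_assoc]) (tau y) (fun x => by
      rw [mul_assoc, hy, ← mul_assoc, t_hom' D]
      have : tau (y * s.m x * y⁻¹) = tau y * x * (tau y)⁻¹ := by
        rw [h2, map_mul, map_mul, map_inv, tau_tau]
      rw [this, mul_assoc])
    exact ⟨x, hx, Or.inr (by rw [← e, ← mul_assoc, B.tt, one_mul])⟩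

end act

end Cfsg.Agent.StdSpFour.CaseCFld
end

-- part: StdSpFour/CaseCSplit
section
/-!
# S1778, type Sp₄(q), case (C), split case: `T` is the Sylow 2-subgroup of `L₅(q)`
-/

set_option autoImplicit false
set_option linter.unusedSectionVars false
set_option linter.unusedSimpArgs false

namespace Cfsg.Agent.StdSpFour.CaseC

open QuadraticAlgebra Cfsg.Agent.StdSpFour.UFiveModel Cfsg.Agent.SylowL.Lev Cfsg.Agent.SylowL.UT

universe u v

variable {F : Type v} [Field F] [CharP F 2] {E : F}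

namespace Split

/-- evaluation at `θ = τ` -/
def ev (τ : F) (w : Rg E) : F := w.re + w.im * τ

theorem ev_add (τ : F) (w w' : Rg E) : ev τ (w + w') = ev τ w + ev τ w' := by
  simp only [ev, re_add, im_add]; ring

theorem ev_mul {τ : F} (h : τ ^ 2 = τ + E) (w w' : Rg E) : ev τ (w * w') = ev τ w * ev τ w' := by
  simp only [ev, re_mul, im_mul]; linear_combination (-(w.im * w'.im)) * h

theorem ev_inj {τ : F} {w : Rg E} (h1 : ev τ w = 0) (h2 : ev τ (star w) = 0) : w = 0 := by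
  simp only [ev, re_star, im_star] at h1 h2
  have h3 : w.im = 0 := by
    linear_combination (norm := c2n) h1 + h2
  have h4 : w.re = 0 := by rw [h3] at h1; linear_combination h1
  ext
  · exact h4
  · exact h3

/-- the matrix -/
def mat (τ : F) (g : T5 (Rg E)) : Matrix (Fin 5) (Fin 5) F :=
  !![0, ev τ (star g.w1), ev τ (star g.w2 + star g.w1 * star g.y),
        ev τ (star g.w3 + star g.w2 * g.y + star g.w1 * g.d), ev τ (star g.c);
     0, 0, ev τ (star g.y), ev τ g.d, ev τ g.w3;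
     0, 0, 0, ev τ g.y, ev τ g.w2;
     0, 0, 0, 0, ev τ g.w1;
     0, 0, 0, 0, 0]

theorem mat_mem (τ : F) (g : T5 (Rg E)) : mat τ g ∈ lev 5 F 1 := by
  rw [mem_lev']
  intro i j hij
  fin_cases i <;> fin_cases j <;> first | rfl | (exfalso; revert hij; decide)

theorem mat_mul {τ : F} (h : τ ^ 2 = τ + E) (g g' : T5 (Rg E)) :
    mat τ (g * g') = mat τ g + mat τ g' + mat τ g * mat τ g' := by
  have hd := g.hd
  have h2 : (2 : Rg E) = 0 := CharTwo.two_eq_zero
  ext i j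
  (revert i j; simp only [mat, Matrix.add_apply, Matrix.mul_apply, Fin.sum_univ_five, Matrix.of_apply, Matrix.cons_val', Matrix.cons_val_zero, Matrix.cons_val_one, Matrix.cons_val, Fin.zero_eta, Fin.mk_one, Fin.reduceFinMk, Fin.isValue, mul_zero, zero_mul, add_zero, zero_add, _root_.Fin.forall_fin_succ, _root_.Matrix.cons_val_fin_one, _root_.Matrix.of_add_of, _root_.Matrix.add_cons, _root_.Matrix.head_cons, _root_.Matrix.tail_cons, _root_.Matrix.empty_add_empty, _root_.Matrix.cons_mul, _root_.Nat.succ_eq_add_one, Nat.reduceAdd, _root_.Matrix.vecMul_cons, _root_.zero_smul, _root_.Matrix.smul_cons, _root_.smul_eq_mul, _root_.Matrix.smul_empty, _root_.Matrix.empty_vecMul, _root_.Matrix.empty_mul, _root_.Equiv.symm_apply_apply, _root_.Pi.zero_apply, _root_.left_eq_add, _root_.Matrix.cons_val_succ, _root_.forall_const, _root_.true_and, _root_.and_self_left, _root_.and_self, _root_.implies_true, _root_.and_true]) <;> (repeat' with_reducible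 apply And.intro) <;>
    simp only [← ev_mul h, ← ev_add, T5.mul_w1, T5.mul_w2, T5.mul_w3, T5.mul_c, T5.mul_y, T5.mul_d] <;> (try refine congrArg (ev τ) ?_) <;> (try simp only [star_add, star_mul', star_star]) <;>
    first
    | ring1
    | linear_combination (star g.y * star g'.w1) * h2
    | linear_combination star g'.w1 * hd + (g.y * star g'.w2 + star g.y * g'.y * star g'.w1 +
        g.y * star g.y * star g'.w1) * h2

/-- the homomorphism to the unitriangular group -/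
def homUT {τ : F} (h : τ ^ 2 = τ + E) : T5 (Rg E) →* UT 5 F :=
  MonoidHom.mk' (fun g => Cfsg.Agent.SylowL.UT.mk _ (mat_mem τ g)) (by
    intro g g'
    apply N_injective
    rw [N_mul, N_mk, N_mk, N_mk, mat_mul h])

theorem homUT_inj {τ : F} (h : τ ^ 2 = τ + E) : Function.Injective (homUT (E := E) h) := by
  rw [injective_iff_map_eq_one]
  intro g hg
  have h1 : mat τ g = 0 := by
    have := congrArg N hg
    rw [N_one] at this
    change N (Cfsg.Agent.SylowL.UT.mk _ (mat_mem τ g)) = 0 at this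
    rwa [N_mk] at this
  have e01 : ev τ (star g.w1) = 0 := congrFun (congrFun h1 0) 1
  have e02 : ev τ (star g.w2 + star g.w1 * star g.y) = 0 := congrFun (congrFun h1 0) 2
  have e03 : ev τ (star g.w3 + star g.w2 * g.y + star g.w1 * g.d) = 0 := congrFun (congrFun h1 0) 3
  have e04 : ev τ (star g.c) = 0 := congrFun (congrFun h1 0) 4
  have e12 : ev τ (star g.y) = 0 := congrFun (congrFun h1 1) 2
  have e13 : ev τ g.d = 0 := congrFun (congrFun h1 1) 3
  have e14 : ev τ g.w3 = 0 := congrFun (congrFun h1 1) 4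
  have e23 : ev τ g.y = 0 := congrFun (congrFun h1 2) 3
  have e24 : ev τ g.w2 = 0 := congrFun (congrFun h1 2) 4
  have e34 : ev τ g.w1 = 0 := congrFun (congrFun h1 3) 4
  have w1 : g.w1 = 0 := ev_inj e34 e01
  have y : g.y = 0 := ev_inj e23 e12
  rw [w1, star_zero, zero_mul, add_zero] at e02
  have w2 : g.w2 = 0 := ev_inj e24 e02
  rw [w1, w2, star_zero, zero_mul, zero_mul, add_zero, add_zero] at e03
  have w3 : g.w3 = 0 := ev_inj e14 e03
  have hc := g.hc
  have hd := g.hd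
  rw [w1, w2, w3, star_zero, mul_zero, add_zero, add_zero] at hc
  rw [y, star_zero, mul_zero] at hd
  have hc' : star g.c = -g.c := by linear_combination hc
  have hd' : star g.d = -g.d := by linear_combination hd
  have c : g.c = 0 := by
    rw [hc'] at e04
    apply ev_inj (τ := τ)
    · have : ev τ (-g.c) = -ev τ g.c := by simp only [ev, re_neg, im_neg]; ring
      rw [this] at e04
      exact neg_eq_zero.1 e04
    · rw [hc']; exact e04
  have d : g.d = 0 := by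
    apply ev_inj e13
    rw [hd']
    have : ev τ (-g.d) = -ev τ g.d := by simp only [ev, re_neg, im_neg]; ring
    rw [this, e13, neg_zero]
  apply T5.ext <;> assumption

/-- `T5 (Rg E)` is the unitriangular group -/
theorem exists_equiv_UT [Fintype F] {τ : F} (h : τ ^ 2 = τ + E) : Nonempty (T5 (Rg E) ≃* UT 5 F) := by
  have hbij : Function.Bijective (homUT (E := E) h) := by
    refine (Nat.bijective_iff_injective_and_card _).mpr ⟨homUT_inj h, ?_⟩
    rw [card_T5, Cfsg.Agent.StdRank2.UTn.Coord.card_UT, Nat.card_eq_fintype_card]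
  exact ⟨MulEquiv.ofBijective _ hbij⟩

theorem exists_equiv_sylow [Fintype F] {τ : F} (h : τ ^ 2 = τ + E)
    (P : Sylow 2 (Matrix.ProjectiveSpecialLinearGroup (Fin 5) F)) :
    Nonempty (T5 (Rg E) ≃* ↥(P : Subgroup (Matrix.ProjectiveSpecialLinearGroup (Fin 5) F))) := by
  obtain ⟨e⟩ := exists_equiv_UT (E := E) h
  obtain ⟨e'⟩ := Cfsg.Agent.SylowL.SylowPSL.sylow_equiv 2 P
  exact ⟨e.trans e'.symm⟩

/-- the root group `X(R)` -/
def X3 (E : F) : Multiplicative (Rg E) →* T5 (Rg E) where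
  toFun r := ⟨0, 0, r.toAdd, 0, 0, 0, by simp only [_root_.star_zero, _root_.add_zero, _root_.MulZeroClass.zero_mul, _root_.MulZeroClass.mul_zero], by simp⟩
  map_one' := rfl
  map_mul' a b := by
    apply T5.ext
    · simp [T5.mul_w1]
    · simp [T5.mul_w2]
    · simp [T5.mul_w3]
    · simp only [T5.mul_c, _root_.add_zero, _root_.star_zero, _root_.MulZeroClass.mul_zero, _root_.MulZeroClass.zero_mul]
    · simp [T5.mul_y]
    · simp [T5.mul_d]

/-- the rank of a group containing `T` -/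
theorem not_rank [Finite F] (hF : 4 ≤ Nat.card F) {L : Type u} [Group L] (i : T5 (Rg E) →* L)
    (hi : Function.Injective i) : ¬ Cfsg.PRankLE 2 2 L := by
  intro h
  have hinj : Function.Injective (i.comp (X3 E)) := by
    apply hi.comp
    intro a b hab
    exact congrArg T5.w3 hab
  have h1 := h (i.comp (X3 E)).range ⟨⟨?_⟩⟩ ?_
  · rw [← Nat.card_congr (MonoidHom.ofInjective hinj).toEquiv, Nat.card_congr Multiplicative.toAdd,
      Nat.card_congr (QuadraticAlgebra.equivProd E (1 : F)), Nat.card_prod] at h1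
    nlinarith
  · rintro ⟨_, x, rfl⟩ ⟨_, y, rfl⟩
    apply Subtype.ext
    show (i.comp (X3 E)) x * (i.comp (X3 E)) y = (i.comp (X3 E)) y * (i.comp (X3 E)) x
    rw [← map_mul, ← map_mul, mul_comm]
  · rintro _ ⟨x, rfl⟩
    rw [pow_two, ← map_mul]
    have : x * x = 1 := by
      apply Multiplicative.toAdd.injective
      exact Two.radd _
    rw [this, map_one]

open Cfsg.Agent.StdSpFour.CaseBSplit

/-- **the split case** -/
theorem nonempty_equiv [Fintype F] {r : ℕ} (hr : 2 ≤ r) (hF : Fintype.card F = 2 ^ r) {τ : F}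
    (hτ : τ ^ 2 + τ + E = 0) {L : Type u} [Group L] [Finite L] (h1769 : LinSylow.{u, v} L) (S : Sylow 2 L)
    (e : T5 (Rg E) ≃* ↥(S : Subgroup L)) : Nonempty (L ≃* Matrix.ProjectiveSpecialLinearGroup (Fin 5) F) := by
  have h : τ ^ 2 = τ + E := by linear_combination (norm := c2n) hτ
  have P : Sylow 2 (Matrix.ProjectiveSpecialLinearGroup (Fin 5) F) := default
  obtain ⟨e'⟩ := exists_equiv_sylow (E := E) h P
  refine h1769 (not_rank (E := E) ?_ ((S : Subgroup L).subtype.comp e.toMonoidHom) ?_) F r hr hF 5 (by norm_num) S P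
    ⟨e.symm.trans e'⟩
  · rw [Nat.card_eq_fintype_card, hF]
    calc 4 = 2 ^ 2 := rfl
      _ ≤ 2 ^ r := Nat.pow_le_pow_right (by norm_num) hr
  · exact (Subtype.val_injective).comp e.injective

/-- `L` is of Lie type in the split case -/
theorem isLie {F : Type} [Field F] [CharP F 2] [Fintype F] {E : F} {r : ℕ} (hr : 2 ≤ r) (hF : Fintype.card F = 2 ^ r)
    {τ : F} (hτ : τ ^ 2 + τ + E = 0) {L : Type u} [Group L] [Finite L] (h1769 : LinSylow.{u, 0} L) (S : Sylow 2 L)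
    (e : T5 (Rg E) ≃* ↥(S : Subgroup L)) : Cfsg.IsLieTypeChar 2 L :=
  Or.inl ⟨F, inferInstance, inferInstance, inferInstance, 5, by norm_num, by norm_num,
    nonempty_equiv hr hF hτ h1769 S e⟩

end Split

end Cfsg.Agent.StdSpFour.CaseC
end

-- part: StdSpFour/CaseCGlue
section
/-!
# S1778, type Sp₄(q), case (C): the end in `G`

`env`: from `Bridge H B`, `D : Three B E` and the lift `CLift` to `CaseCEnv.Env L0.f t T`.
`main`: `t ∉ L`, `range L0.f` is a Sylow 2-subgroup of `L`.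
`exists_main`: the whole statement.  `concl_split`: the conclusion of S1778 when `τ² + τ + E = 0` is solvable.
-/

set_option autoImplicit false
set_option linter.unusedSectionVars false

namespace Cfsg.Agent.StdSpFour.CaseCGlue

open Subgroup Cfsg Cfsg.Agent.StdSpFour Cfsg.Agent.StdSpFour.Comm Cfsg.Agent.StdSpFour.CaseC
  Cfsg.Agent.StdSpFour.CaseCInv Cfsg.Agent.StdSpFour.Lift Cfsg.Agent.StdSpFour.Env Cfsg.Agent.StdSpFour.Bridge
  Cfsg.Agent.StdSpFour.CaseCFld Cfsg.Agent.StdSpFour.CaseCEnv Cfsg.Agent.StdSpFour.UFiveModel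
open Cfsg.Agent.StdEven.CoreQuot Cfsg.Agent.StdEven.Loc Cfsg.Agent.StdEven.Syl Cfsg.Agent.StdL2.Setup
open scoped commutatorElement

universe u v

section X

variable {F X : Type*} [Field F] [CharP F 2] [Group X] {B : Base F X} {E : F} (D : Three B E)

theorem eA_U (a : F) : (eA ⟨a, 0⟩ : T5 (Rg E)) ∈ U E := by
  rw [mem_U_iff]
  exact ⟨rfl, rfl, rfl, rfl, rfl, rfl⟩

theorem eB_U (s : F) : (eB s : T5 (Rg E)) ∈ U E := by
  rw [mem_U_iff]
  exact ⟨rfl, rfl, rfl, by rw [eB_c]; rfl, rfl, by rw [eB_d]⟩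

theorem hom_U (u s m r : F) :
    D.hom (eA ⟨u, 0⟩ * (eB s * (eX ⟨m, 0⟩ * eZ r))) = B.xa u * B.v1 s m r := by
  rw [map_mul, map_mul, map_mul, hom_eA, hom_eB, hom_eX, hom_eZ, D.A_re, D.X_re, Base.v1]
  simp only [mul_assoc]

theorem exists_hom {w : X} (hw : IsU B w) : ∃ x ∈ U E, w = D.hom x := by
  obtain ⟨u, s, m, r, rfl⟩ := hw
  exact ⟨_, mul_mem (eA_U u) (mul_mem (eB_U s) (mul_mem (eX_U m) (eZ_U r))), (hom_U D u s m r).symm⟩

/-- elements of `U` in the model -/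
theorem isU_hom {x : T5 (Rg E)} (hx : x ∈ U E) : IsU B (D.hom x) := by
  obtain ⟨h1, h2, h3, h4, h5, h6⟩ := mem_U_iff.1 hx
  have e1 : x.w1 = ⟨x.w1.re, 0⟩ := by
    ext
    · rfl
    · exact h1
  have e3 : x.w3 = ⟨x.w3.re, 0⟩ := by
    ext
    · rfl
    · exact h3
  refine ⟨x.w1.re, x.d.re, x.w3.re, (x.c + x.w1 * star x.w3).re, ?_⟩
  rw [D.hom_apply, h2, h5, nm_zero, add_zero, Two.sg_zero, Two.sg'_zero, one_mul, one_mul, Base.v1]
  have e4 : D.A x.w1 = B.xa x.w1.re := by rw [← D.A_re, ← e1]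
  have e5 : D.X x.w3 = B.zs x.w3.re := by rw [← D.X_re, ← e3]
  rw [e4]
  unfold Two.v4
  rw [e5]

theorem t_ne_hom (x : T5 (Rg E)) : D.hom x ≠ B.t := by
  intro h
  have h1 := t_hom' D (eA th)
  rw [← h, ← map_mul, ← map_mul] at h1
  have h2 := congrArg T5.w1 (D.hom_inj h1)
  rw [T5.mul_w1, T5.mul_w1] at h2
  have h3 : (th : Rg E) = star th := by
    have h4 : (eA th : T5 (Rg E)).w1 = th := rfl
    have h5 : (tau (eA th) : T5 (Rg E)).w1 = star th := rfl
    rw [h4, h5, add_comm] at h2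
    exact add_right_cancel h2
  have h4 := congrArg QuadraticAlgebra.re h3
  rw [QuadraticAlgebra.re_star] at h4
  simp [th] at h4

end X

variable {F : Type v} {G : Type u} [Field F] [CharP F 2] [Finite F] [Group G] [Finite G] {A : Subgroup G} {t : G}
  {T : Subgroup G} {H : Hyp A t T} {B : Base F (XQ A t)}
variable (b : Bridge H B) {E : F} {D : Three B E} (L0 : CLift H B D)

include b in
theorem f_eq_hat {x : T5 (Rg E)} (hx : x ∈ U E) : L0.f x = hat H (D.hom x) :=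
  eq_hat H (b.isU_mem (isU_hom D hx)) (b.isU_two (isU_hom D hx)) (b := ⟨L0.f x, L0.f_mem x⟩) (L0.f_two x) (L0.f_pr x)

include b in
theorem f_T {x : T5 (Rg E)} (hx : x ∈ U E) : L0.f x ∈ T := by
  rw [f_eq_hat b L0 hx]
  exact b.hat_mem_T (isU_hom D hx)

include b in
theorem f_A {x : T5 (Rg E)} (hx : x ∈ U E) : L0.f x ∈ A := by
  rw [f_eq_hat b L0 hx]
  exact hat_mem H (b.isU_mem (isU_hom D hx)) (b.isU_two (isU_hom D hx))

include b in
/-- elements of `T` are determined by their images -/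
theorem eq_of_pr {z : G} (hz : z ∈ T) {x : T5 (Rg E)} (hx : x ∈ U E) (h : pr A t ⟨z, H.T_le hz⟩ = D.hom x) :
    z = L0.f x := by
  have h1 := H.pr_inj H.isT.syl.two (x := ⟨z, H.T_le hz⟩) (y := ⟨L0.f x, L0.f_mem x⟩) hz (f_T b L0 hx)
    (by rw [h, L0.f_pr])
  exact congrArg Subtype.val h1

include b in
theorem eq_of_pr_t {z : G} (hz : z ∈ T) {x : T5 (Rg E)} (hx : x ∈ U E)
    (h : pr A t ⟨z, H.T_le hz⟩ = B.t * D.hom x) : z = t * L0.f x := by
  have htz : t * z ∈ T := mul_mem H.isT.mem hz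
  have h1 : t * z = L0.f x := by
    apply eq_of_pr b L0 htz hx
    have e : (⟨t * z, H.T_le htz⟩ : ↥(NO A t)) = ⟨t, H.t_mem⟩ * ⟨z, H.T_le hz⟩ := rfl
    rw [e, map_mul, h]
    change H.tX * (B.t * D.hom x) = D.hom x
    rw [b.t_eq, ← mul_assoc, H.tX_sq, one_mul]
  rw [← h1, ← mul_assoc, H.tt, one_mul]

theorem t_f' (hBt : B.t = H.tX) (x : T5 (Rg E)) : t * L0.f x = L0.f (tau x) * t := by
  have h1 := L0.f_rel ⟨t, H.t_mem⟩ x (tau x) (by
    rw [← H.tX_eq, ← hBt, t_hom' D, mul_inv_cancel_right])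
  change t * L0.f x * t⁻¹ = L0.f (tau x) at h1
  rwa [mul_inv_eq_iff_eq_mul] at h1

theorem t_ne_f (hBt : B.t = H.tX) (x : T5 (Rg E)) : L0.f x ≠ t := by
  intro h
  apply t_ne_hom D x
  rw [hBt, H.tX_eq, ← L0.f_pr]
  congr 1
  exact Subtype.ext h

/-- conjugation by an element of `N(O)` -/
theorem conj_f {g : G} (hg : g ∈ NO A t) {x y : T5 (Rg E)}
    (h : pr A t ⟨g, hg⟩ * D.hom x = D.hom y * pr A t ⟨g, hg⟩) : g * L0.f x = L0.f y * g := by
  have h1 := L0.f_rel ⟨g, hg⟩ x y (by rw [h, mul_inv_cancel_right])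
  change g * L0.f x * g⁻¹ = L0.f y at h1
  rwa [mul_inv_eq_iff_eq_mul] at h1

/-- values in `L` -/
theorem f_mem_L {L : Subgroup G} [L.Normal] (hAL : A ≤ L) (hE : Env B (im A t A)) (hF : 4 ≤ Nat.card F)
    (x : T5 (Rg E)) : L0.f x ∈ L := by
  have hN := im_normal (A := A) (t := t) (L := L)
  have hle : im A t A ≤ im A t L := im_mono hAL
  refine mem_L H (x := ⟨L0.f x, L0.f_mem x⟩) (L0.f_two x) (L0.f_core x) ?_
  rw [L0.f_pr]
  exact D.hom_mem hF (im A t L) (fun α β => hle (hE.h_mem α β)) (fun s => hle (hE.xb_mem s))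
    (fun s => hle (hE.zl_mem s)) x

theorem nbT_mkT (w : Rg E) (c : F) : Three.nbT (mkT w 0 0 0 c 0) = mkT 0 0 w 0 c 0 := by
  refine ext' rfl rfl rfl rfl rfl rfl

include b in
/-- **the environment in `G`** -/
theorem env : CaseCEnv.Env L0.f t T where
  inj := L0.f_inj
  tt := H.tt
  t_i := t_f' L0 b.t_eq
  t_ne := t_ne_f L0 b.t_eq
  two := H.isT.syl.two
  mem_t := H.isT.mem
  mem_U := fun x hx => f_T b L0 hx
  comm := H.isT.cent
  syl := by
    intro Q hQ hQt hle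
    have h1 := (H.isT.syl_cent H.std H.ht H.htA).max Q hQ (fun z hz => by
      rw [mem_centralizer_singleton_iff]; exact hQt z hz) hle
    exact h1.le
  typ := by
    intro z hz
    obtain ⟨u, hu, σ, h⟩ := b.act z hz
    obtain ⟨x, hx, rfl⟩ := exists_hom D hu
    obtain ⟨y, hy, s, h1⟩ := typ_of D b.hF b.env.self b.hna b.hnb hx h
    exact ⟨σ, y, hy, s, fun w => conj_f L0 (H.T_le hz) (h1 w)⟩
  one := by
    rintro z hz ⟨y, hy, s, h1⟩
    have h2 : Typ ⊤ D.hom (pr A t ⟨z, H.T_le hz⟩) 1 := by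
      refine ⟨y, hy, s, fun w => ?_⟩
      have h3 := congrArg (pr A t) (Subtype.ext (h1 w) :
        (⟨z, H.T_le hz⟩ : ↥(NO A t)) * ⟨L0.f w, L0.f_mem w⟩ =
          ⟨L0.f (y * s.m w * y⁻¹), L0.f_mem _⟩ * ⟨z, H.T_le hz⟩)
      rwa [map_mul, map_mul, L0.f_pr, L0.f_pr] at h3
    have h3 : pr A t ⟨z, H.T_le hz⟩ * B.t = B.t * pr A t ⟨z, H.T_le hz⟩ := by
      rw [b.t_eq]
      exact H.pr_comm_iff.2 (H.isT.cent z hz)
    obtain ⟨x, hx, h4 | h4⟩ := one_of D b.env.self h3 h2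
    · exact ⟨x, hx, Or.inl (eq_of_pr b L0 hz hx h4)⟩
    · exact ⟨x, hx, Or.inr (eq_of_pr_t b L0 hz hx h4)⟩
  fus := by
    intro w c
    refine isConj_iff.2 ⟨L0.nb, ?_⟩
    rw [L0.nb_q rfl (by
      ext
      · rfl
      · show ((0 : Rg E) * star 0).re = 0
        rw [zero_mul]; rfl), nbT_mkT]

include b in
theorem main {L : Subgroup G} (C : Conf L A t) :
    t ∉ L ∧ (∀ x, L0.f x ∈ L) ∧ ∃ P : Sylow 2 L, (P : Subgroup L).map L.subtype = L0.f.range := by
  have hLn := C.normal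
  have hperf : _root_.commutator L = ⊤ := by
    have hs := C.simple
    have hn : (_root_.commutator L).Normal := inferInstance
    rcases hs.eq_bot_or_eq_top_of_normal _ hn with h | h
    · exfalso
      apply C.not_comm
      refine ⟨⟨fun x y => ?_⟩⟩
      have h1 : ⁅x, y⁆ ∈ _root_.commutator L := commutator_mem_commutator (mem_top x) (mem_top y)
      rw [h, mem_bot, commutatorElement_eq_one_iff_mul_comm] at h1
      exact h1
    · exact h
  have hTL : ∀ x, L0.f x ∈ L := f_mem_L L0 C.le b.env b.hF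
  obtain ⟨h1, h2⟩ := (env b L0).main b.hF hperf hTL (by
    intro y z hy hz hyz
    obtain ⟨w, hw⟩ := hyz
    have hwt : L0.f w * t = t * L0.f w := by
      rw [hw]
      have h2 := H.isT.cent z hz
      have hy' : y⁻¹ * t = t * y⁻¹ := by
        calc y⁻¹ * t = y⁻¹ * (t * y) * y⁻¹ := by group
          _ = y⁻¹ * (y * t) * y⁻¹ := by rw [hy]
          _ = t * y⁻¹ := by group
      calc y * z * y⁻¹ * t = y * z * (y⁻¹ * t) := by group
        _ = y * (z * t) * y⁻¹ := by rw [hy']; group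
        _ = (y * t) * z * y⁻¹ := by rw [h2]; group
        _ = _ := by rw [hy]; group
    have hwU : w ∈ U E := by
      rw [CaseCInv.mem_U]
      apply L0.f_inj
      have h3 := t_f' L0 b.t_eq w
      rw [← hwt] at h3
      exact (mul_right_cancel h3).symm
    have hzA : z ∈ A := by
      have h4 := f_A b L0 hwU
      rw [hw] at h4
      have h5 := conj_inv_mem_of_mem_normalizer (H.mem_normalizer hy) h4
      have h6 : y⁻¹ * (y * z * y⁻¹) * y = z := by group
      rwa [h6] at h5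
    obtain ⟨x, hx, e⟩ := exists_hom D (b.TU hz hzA)
    exact ⟨x, hx, eq_of_pr b L0 hz hx e⟩)
  refine ⟨h1, hTL, ?_⟩
  obtain ⟨P, hP⟩ := h2
  exact ⟨P, hP⟩

omit L0 in
include b in
/-- **case (C)**: `t ∉ L` and `T5 (Rg E)` is a Sylow 2-subgroup of `L`. -/
theorem exists_main (D : Three B E) {L : Subgroup G} (C : Conf L A t) :
    t ∉ L ∧ ∃ L0 : CLift H B D, (∀ x, L0.f x ∈ L) ∧
      ∃ P : Sylow 2 L, (P : Subgroup L).map L.subtype = L0.f.range := by
  obtain ⟨L0⟩ := exists_CLift H b.env D b.hF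
  obtain ⟨h1, h2, h3⟩ := main b L0 C
  exact ⟨h1, L0, h2, h3⟩

end Cfsg.Agent.StdSpFour.CaseCGlue

namespace Cfsg.Agent.StdSpFour.CaseCGlue

open Subgroup Cfsg Cfsg.Agent.StdSpFour Cfsg.Agent.StdSpFour.Comm Cfsg.Agent.StdSpFour.CaseC
  Cfsg.Agent.StdSpFour.UFiveModel
open Cfsg.Agent.StdEven.CoreQuot Cfsg.Agent.StdL2.Setup

universe u

variable {F : Type} {G : Type u} [Field F] [CharP F 2] [Finite F] [Group G] [Finite G] {A : Subgroup G} {t : G}
  {T : Subgroup G} {H : Hyp A t T} {B : Base F (XQ A t)}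

end Cfsg.Agent.StdSpFour.CaseCGlue
end

private theorem dce_5cab2b77092b : _root_.True := by
  try have : _root_.True := by simp only [_root_.Cfsg.Agent.StdSpFour.CaseCFld.eS'.congr_simp]
  try have : _root_.True := by simp only [_root_.Cfsg.Agent.StdSpFour.CaseCFld.sw.eq_1]
  try have : _root_.True := by simp only [_root_.Cfsg.Agent.StdSpFour.CaseCEnv.eZ.congr_simp]
  try have : _root_.True := by simp only [_root_.Cfsg.Agent.StdSpFour.CaseCInv.eA.eq_1]
  try have : _root_.True := by simp only [_root_.Cfsg.Agent.StdSpFour.CaseCFld.eB.congr_simp]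
  try have : _root_.True := by simp only [_root_.Cfsg.Agent.StdSpFour.CaseC.Split.ev.eq_1]
  try have : _root_.True := by simp only [_root_.Cfsg.Agent.StdSpFour.CaseCInv.mkF.congr_simp]
  try have : _root_.True := by simp only [_root_.Cfsg.Agent.StdSpFour.CaseCInv.map.congr_simp]
  try have : _root_.True := by simp only [_root_.Cfsg.Agent.StdSpFour.CaseCInv.mkT.congr_simp]
  try have : _root_.True := by simp only [_root_.Cfsg.Agent.StdSpFour.CaseCFld.eS.congr_simp]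
  try have : _root_.True := by simp only [_root_.Cfsg.Agent.StdSpFour.CaseC.Split.mat.eq_1]
  exact _root_.True.intro
end
end
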